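import Groth.Prelude.Def_GmPts
import Groth.Agent.Sga3B.AffPts
import Mathlib.Algebra.Group.UniqueProds.Basic
import Mathlib.Algebra.MonoidAlgebra.NoZeroDivisors
import Mathlib.Algebra.Order.Group.Int

/-!
# Group laws on the punctured line

* `exists_single_of_isUnit`: the units of `k[M]`, `M` with two unique products, are the monomials.
* `mul_formula`: a group scheme structure on an object `L` isomorphic (as a scheme over a field `k`)
  to the punctured line is, in the coordinate, `x * y = e⁻¹ x y`.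
-/

set_option autoImplicit false
universe u
open CategoryTheory MonoidalCategory CartesianMonoidalCategory MonObj GrpObj AlgebraicGeometry Limits

namespace K405.GmLaw

open Groth.Agent.Books.AffBridge Groth.Agent.Sga3B.AffPts

noncomputable section

/-- The units of a monoid algebra over a domain, for a monoid with two unique products, are
monomials. -/
theorem exists_single_of_isUnit {k M : Type*} [CommRing k] [IsDomain k] [Monoid M] [TwoUniqueProds M]
    (f : MonoidAlgebra k M) (hf : IsUnit f) : ∃ (m : M) (c : k), f = MonoidAlgebra.single m c := by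
  classical
  obtain ⟨g, hg⟩ := hf.exists_right_inv
  have hf0 : f ≠ 0 := hf.ne_zero
  have hg0 : g ≠ 0 := by
    rintro rfl
    rw [mul_zero] at hg
    exact zero_ne_one hg
  by_cases h : 1 < f.coeff.support.card * g.coeff.support.card
  · exfalso
    obtain ⟨p, hp, q, hq, hpq, hu, hv⟩ := TwoUniqueProds.uniqueMul_of_one_lt_card h
    rw [Finset.mem_product] at hp hq
    have e1 : (f * g).coeff (p.1 * p.2) ≠ 0 := by
      rw [MonoidAlgebra.coeff_mul_mul_of_uniqueMul hu]
      exact mul_ne_zero (Finsupp.mem_support_iff.1 hp.1) (Finsupp.mem_support_iff.1 hp.2)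
    have e2 : (f * g).coeff (q.1 * q.2) ≠ 0 := by
      rw [MonoidAlgebra.coeff_mul_mul_of_uniqueMul hv]
      exact mul_ne_zero (Finsupp.mem_support_iff.1 hq.1) (Finsupp.mem_support_iff.1 hq.2)
    rw [hg, MonoidAlgebra.one_def, MonoidAlgebra.coeff_single] at e1 e2
    have h1 : p.1 * p.2 = 1 := by
      by_contra h
      exact e1 (Finsupp.single_eq_of_ne h)
    have h2 : q.1 * q.2 = 1 := by
      by_contra h
      exact e2 (Finsupp.single_eq_of_ne h)
    obtain ⟨h3, h4⟩ := hu hq.1 hq.2 (h2.trans h1.symm)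
    exact hpq (Prod.ext h3.symm h4.symm)
  · have h1 : f.coeff.support.card ≤ 1 := by
      have hgc : 0 < g.coeff.support.card := Finset.card_pos.2 (Finsupp.support_nonempty_iff.2
        (fun h => hg0 (MonoidAlgebra.coeff_injective h)))
      by_contra h2
      push Not at h2
      exact h (lt_of_lt_of_le h2 (Nat.le_mul_of_pos_right _ hgc))
    obtain ⟨m, c, hm⟩ := Finsupp.card_support_le_one'.1 h1
    exact ⟨m, c, MonoidAlgebra.coeff_injective hm⟩

variable {k : Type u} [Field k]

/-- The point of the punctured line with coordinate `b`. -/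
def pt {B : Type u} [CommRing B] [Algebra k B] (b : Bˣ) :
    SpecOver k B ⟶ Red.Gm (Spec (CommRingCat.of k)) :=
  GmPts.ptOfUnit (Units.map ((fnSpec (R := k) B).symm : B →* Fn (SpecOver k B)) b)

/-- The coordinate of a point. -/
def co {B : Type u} [CommRing B] [Algebra k B]
    (x : SpecOver k B ⟶ Red.Gm (Spec (CommRingCat.of k))) : Bˣ :=
  Units.map ((fnSpec (R := k) B) : Fn (SpecOver k B) →* B) (GmPts.unitOfPt x)

section

variable {B : Type u} [CommRing B] [Algebra k B] {B' : Type u} [CommRing B'] [Algebra k B']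

@[simp] lemma co_pt (b : Bˣ) : co (pt (k := k) b) = b := by
  rw [co, pt, GmPts.unitOfPt_ptOfUnit]
  ext
  exact (fnSpec (R := k) B).apply_symm_apply _

@[simp] lemma pt_co (x : SpecOver k B ⟶ Red.Gm (Spec (CommRingCat.of k))) : pt (co x) = x := by
  rw [co, pt]
  conv_rhs => rw [← GmPts.ptOfUnit_unitOfPt x]
  congr 1
  ext
  exact (fnSpec (R := k) B).symm_apply_apply _

lemma co_injective : Function.Injective
    (co : (SpecOver k B ⟶ Red.Gm (Spec (CommRingCat.of k))) → Bˣ) :=
  Function.LeftInverse.injective pt_co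

lemma fnSpec_fnMap (f : B →ₐ[k] B') (b : Fn (SpecOver k B)) :
    fnSpec (R := k) B' (fnMap (specMap k f) b) = f (fnSpec (R := k) B b) := by
  have h := Scheme.ΓSpecIso_naturality (CommRingCat.ofHom f.toRingHom)
  exact congr(CommRingCat.Hom.hom $h b)

lemma co_comp (f : B →ₐ[k] B') (x : SpecOver k B ⟶ Red.Gm (Spec (CommRingCat.of k))) :
    co (specMap k f ≫ x) = Units.map (f : B →* B') (co x) := by
  rw [co, GmPts.unitOfPt_comp, co]
  ext
  exact fnSpec_fnMap f _

lemma val_co_comp (f : B →ₐ[k] B') (x : SpecOver k B ⟶ Red.Gm (Spec (CommRingCat.of k))) :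
    (co (specMap k f ≫ x) : B') = f (co x : B) := by
  rw [co_comp]; rfl

end

section Law

/-- the index group -/
abbrev M2 : Type := Multiplicative (ℤ × ℤ)

/-- the coordinate ring of the square of the punctured line -/
abbrev R2 (k : Type u) [Field k] : Type u := MonoidAlgebra k M2

/-- monomials as units -/
def mon (k : Type u) [Field k] (m : ℤ × ℤ) : (R2 k)ˣ where
  val := MonoidAlgebra.single (Multiplicative.ofAdd m) 1
  inv := MonoidAlgebra.single (Multiplicative.ofAdd (-m)) 1
  val_inv := by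
    rw [MonoidAlgebra.single_mul_single, ← ofAdd_add, add_neg_cancel, _root_.mul_one]; rfl
  inv_val := by
    rw [MonoidAlgebra.single_mul_single, ← ofAdd_add, neg_add_cancel, _root_.mul_one]; rfl

/-- The algebra map `k[x^±,y^±] → B` with `x ↦ a`, `y ↦ b`. -/
def ev {B : Type u} [CommRing B] [Algebra k B] (a b : Bˣ) : R2 k →ₐ[k] B :=
  MonoidAlgebra.lift k B M2
    { toFun := fun m => ((a ^ (Multiplicative.toAdd m).1 * b ^ (Multiplicative.toAdd m).2 : Bˣ) : B)
      map_one' := by simp
      map_mul' := fun m n => by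
        rw [← Units.val_mul]
        congr 1
        rw [toAdd_mul, Prod.fst_add, Prod.snd_add, zpow_add, zpow_add]
        exact mul_mul_mul_comm _ _ _ _ }

lemma ev_single {B : Type u} [CommRing B] [Algebra k B] (a b : Bˣ) (m : ℤ × ℤ) (c : k) :
    ev a b (MonoidAlgebra.single (Multiplicative.ofAdd m) c) = c • ((a ^ m.1 * b ^ m.2 : Bˣ) : B) := by
  rw [ev, MonoidAlgebra.lift_single]
  rfl

lemma ev_mon {B : Type u} [CommRing B] [Algebra k B] (a b : Bˣ) (m : ℤ × ℤ) :
    Units.map (ev (k := k) a b : R2 k →* B) (mon k m) = a ^ m.1 * b ^ m.2 := by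
  ext
  change ev a b (MonoidAlgebra.single (Multiplicative.ofAdd m) 1) = _
  rw [ev_single, one_smul]

variable {L : Over (Spec (CommRingCat.of k))} [GrpObj L] (e : L ≅ Red.Gm (Spec (CommRingCat.of k)))

/-- The coordinate of the unit section. -/
def unitCo : kˣ := co (B := k) ((1 : SpecOver k k ⟶ L) ≫ e.hom)

lemma co_one {B : Type u} [CommRing B] [Algebra k B] :
    co (B := B) ((1 : SpecOver k B ⟶ L) ≫ e.hom) = Units.map (algebraMap k B : k →* B) (unitCo e) := by
  have : (1 : SpecOver k B ⟶ L) = specMap k (Algebra.ofId k B) ≫ (1 : SpecOver k k ⟶ L) := by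
    rw [MonObj.comp_one]
  rw [this, Category.assoc, co_comp]
  rfl

/-- the generic first coordinate -/
def gx : SpecOver k (R2 k) ⟶ L := pt (mon k (1, 0)) ≫ e.inv

/-- the generic second coordinate -/
def gy : SpecOver k (R2 k) ⟶ L := pt (mon k (0, 1)) ≫ e.inv

omit [GrpObj L] in
@[simp] lemma co_gx : co (gx e ≫ e.hom) = mon k (1, 0) := by simp [gx]

omit [GrpObj L] in
@[simp] lemma co_gy : co (gy e ≫ e.hom) = mon k (0, 1) := by simp [gy]

omit [GrpObj L] in
lemma ext_co {B : Type u} [CommRing B] [Algebra k B] {x y : SpecOver k B ⟶ L}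
    (h : co (x ≫ e.hom) = co (y ≫ e.hom)) : x = y := by
  rw [← cancel_mono e.hom]
  exact co_injective h

lemma law : co ((gx e * gy e) ≫ e.hom) * Units.map (algebraMap k (R2 k) : k →* R2 k) (unitCo e) =
    mon k (1, 0) * mon k (0, 1) := by
  obtain ⟨m, d, hm⟩ := exists_single_of_isUnit (k := k) (M := M2)
    ((co ((gx e * gy e) ≫ e.hom) : (R2 k)ˣ) : R2 k) (Units.isUnit _)
  obtain ⟨m, rfl⟩ : ∃ m' : ℤ × ℤ, Multiplicative.ofAdd m' = m := ⟨Multiplicative.toAdd m, rfl⟩
  have hcx : ∀ c : kˣ, ∀ n : ℤ, (((Units.map (algebraMap k (R2 k) : k →* R2 k) c) ^ n : (R2 k)ˣ) : R2 k) =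
      algebraMap k (R2 k) ((c ^ n : kˣ) : k) := fun c n => by
    rw [← map_zpow]; rfl
  have hmon : ∀ m : ℤ × ℤ, ∀ n : ℤ, ((mon k m) ^ n : (R2 k)ˣ) = mon k (n • m) := fun m n => by
    have h1 : ∀ a b : ℤ × ℤ, mon k (a + b) = mon k a * mon k b := fun a b => by
      apply Units.ext
      change (MonoidAlgebra.single (Multiplicative.ofAdd (a + b)) (1 : k) : R2 k) =
        MonoidAlgebra.single (Multiplicative.ofAdd a) 1 * MonoidAlgebra.single (Multiplicative.ofAdd b) 1
      rw [MonoidAlgebra.single_mul_single, ← ofAdd_add, _root_.mul_one]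
    have h0 : mon k 0 = 1 := Units.ext rfl
    let φ : Multiplicative (ℤ × ℤ) →* (R2 k)ˣ :=
      { toFun := fun m => mon k (Multiplicative.toAdd m)
        map_one' := h0
        map_mul' := fun a b => h1 _ _ }
    have := map_zpow φ (Multiplicative.ofAdd m) n
    exact this.symm
  have hone : ∀ c : k, algebraMap k (R2 k) c = MonoidAlgebra.single (Multiplicative.ofAdd (0 : ℤ × ℤ)) c :=
    fun c => rfl
  -- `(x, e)`
  have hx1 : specMap k (ev (mon k (1, 0)) (Units.map (algebraMap k (R2 k) : k →* R2 k) (unitCo e))) ≫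
      gx e = gx e := by
    apply ext_co e
    rw [Category.assoc, co_comp, co_gx, ev_mon]
    simp
  have hy1 : specMap k (ev (mon k (1, 0)) (Units.map (algebraMap k (R2 k) : k →* R2 k) (unitCo e))) ≫
      gy e = 1 := by
    apply ext_co e
    rw [Category.assoc, co_comp, co_gy, ev_mon, co_one]
    simp
  have h1 := val_co_comp (ev (mon k (1, 0)) (Units.map (algebraMap k (R2 k) : k →* R2 k) (unitCo e)))
    ((gx e * gy e) ≫ e.hom)
  rw [← Category.assoc, MonObj.comp_mul, hx1, hy1, _root_.mul_one, co_gx, hm, ev_single, Units.val_mul,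
    hcx, hmon, hone] at h1
  change MonoidAlgebra.single _ _ = d • (MonoidAlgebra.single _ _ * MonoidAlgebra.single _ _) at h1
  rw [MonoidAlgebra.single_mul_single, ← ofAdd_add, MonoidAlgebra.smul_single] at h1
  -- `(e, y)`
  have hx2 : specMap k (ev (Units.map (algebraMap k (R2 k) : k →* R2 k) (unitCo e)) (mon k (0, 1))) ≫
      gx e = 1 := by
    apply ext_co e
    rw [Category.assoc, co_comp, co_gx, ev_mon, co_one]
    simp
  have hy2 : specMap k (ev (Units.map (algebraMap k (R2 k) : k →* R2 k) (unitCo e)) (mon k (0, 1))) ≫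
      gy e = gy e := by
    apply ext_co e
    rw [Category.assoc, co_comp, co_gy, ev_mon]
    simp
  have h2 := val_co_comp (ev (Units.map (algebraMap k (R2 k) : k →* R2 k) (unitCo e)) (mon k (0, 1)))
    ((gx e * gy e) ≫ e.hom)
  rw [← Category.assoc, MonObj.comp_mul, hx2, hy2, _root_.one_mul, co_gy, hm, ev_single, Units.val_mul,
    hcx, hmon, hone] at h2
  change MonoidAlgebra.single _ _ = d • (MonoidAlgebra.single _ _ * MonoidAlgebra.single _ _) at h2
  rw [MonoidAlgebra.single_mul_single, ← ofAdd_add, MonoidAlgebra.smul_single] at h2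
  have h1' := MonoidAlgebra.coeff_injective.eq_iff.2 h1
  have h2' := MonoidAlgebra.coeff_injective.eq_iff.2 h2
  rw [MonoidAlgebra.coeff_single, MonoidAlgebra.coeff_single, Finsupp.single_eq_single_iff] at h1' h2'
  simp only [one_ne_zero, false_and, or_false, smul_eq_mul, EmbeddingLike.apply_eq_iff_eq,
    Prod.ext_iff] at h1' h2'
  obtain ⟨⟨h3, -⟩, h4⟩ := h1'
  obtain ⟨⟨-, h5⟩, h6⟩ := h2'
  have hm1 : m.1 = 1 := by simpa using h3.symm
  have hm2 : m.2 = 1 := by simpa using h5.symm
  ext1
  rw [Units.val_mul, Units.val_mul, hm]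
  change _ * algebraMap k (R2 k) (unitCo e : k) = MonoidAlgebra.single _ _ * MonoidAlgebra.single _ _
  rw [hone, MonoidAlgebra.single_mul_single, MonoidAlgebra.single_mul_single, ← ofAdd_add, ← ofAdd_add]
  have hm3 : m = (1, 1) := Prod.ext hm1 hm2
  subst hm3
  congr 1
  have : (1 : k) = d * (unitCo e : k) := by simpa using h4
  rw [_root_.mul_one]
  exact this.symm

/-- **Group laws on the punctured line**: `x * y = e⁻¹ x y` in the coordinate. -/
theorem mul_formula {T : Over (Spec (CommRingCat.of k))} (x y : T ⟶ L) :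
    GmPts.unitOfPt ((x * y) ≫ e.hom) * GmPts.unitOfPt ((1 : T ⟶ L) ≫ e.hom) =
    GmPts.unitOfPt (x ≫ e.hom) * GmPts.unitOfPt (y ≫ e.hom) := by
  have hlaw : GmPts.unitOfPt ((gx e * gy e) ≫ e.hom) *
      GmPts.unitOfPt ((1 : SpecOver k (R2 k) ⟶ L) ≫ e.hom) =
      GmPts.unitOfPt (gx e ≫ e.hom) * GmPts.unitOfPt (gy e ≫ e.hom) := by
    have hinj : Function.Injective (Units.map ((fnSpec (R := k) (R2 k)) : Fn (SpecOver k (R2 k)) →* R2 k)) :=
      Units.map_injective (fnSpec (R := k) (R2 k)).injective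
    apply hinj
    have h1 := co_gx e
    have h2 := co_gy e
    have h3 := co_one e (B := R2 k)
    have h4 := law e
    rw [← h1, ← h2, ← h3] at h4
    erw [map_mul, map_mul]
    exact h4
  let ux : (Fn T)ˣ := GmPts.unitOfPt (x ≫ e.hom)
  let uy : (Fn T)ˣ := GmPts.unitOfPt (y ≫ e.hom)
  let h : T ⟶ SpecOver k (R2 k) := affPt T (ev ux uy)
  have key : ∀ b : (R2 k)ˣ, h ≫ pt b = GmPts.ptOfUnit
      (Units.map (ev (k := k) ux uy : R2 k →* Fn T) b) := fun b => by
    rw [pt, GmPts.ptOfUnit_comp]
    congr 1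
    have h2 : h ≫ affPt _ ((fnSpec (R := k) (R2 k)).symm.toAlgHom) = h := by
      rw [affPt_spec]
      have : (fnSpec (R := k) (R2 k)).toAlgHom.comp (fnSpec (R := k) (R2 k)).symm.toAlgHom =
          AlgHom.id k (R2 k) := by
        ext; simp
      rw [this, specMap_id, Category.comp_id]
    rw [comp_affPt] at h2
    have h3 := (affPt_bijective _).1 h2
    ext
    exact DFunLike.congr_fun h3 (b : R2 k)
  have hx : h ≫ gx e = x := by
    rw [← cancel_mono e.hom, gx, Category.assoc, Category.assoc, e.inv_hom_id, Category.comp_id, key,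
      ev_mon]
    simp only [zpow_one, zpow_zero, _root_.mul_one]
    exact GmPts.ptOfUnit_unitOfPt _
  have hy : h ≫ gy e = y := by
    rw [← cancel_mono e.hom, gy, Category.assoc, Category.assoc, e.inv_hom_id, Category.comp_id, key,
      ev_mon]
    simp only [zpow_one, zpow_zero, _root_.one_mul]
    exact GmPts.ptOfUnit_unitOfPt _
  have h1 : h ≫ (1 : SpecOver k (R2 k) ⟶ L) = 1 := MonObj.comp_one _
  have hl := congrArg (Units.map h.left.appTop.hom.toMonoidHom) hlaw
  rw [map_mul, map_mul, ← GmPts.unitOfPt_comp, ← GmPts.unitOfPt_comp, ← GmPts.unitOfPt_comp,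
    ← GmPts.unitOfPt_comp] at hl
  rw [← hx, ← hy, ← h1, ← MonObj.comp_mul, Category.assoc, Category.assoc, Category.assoc,
    Category.assoc]
  exact hl

end Law

end

end K405.GmLaw
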