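import Mathlib.AlgebraicGeometry.Morphisms.ClosedImmersion
import Mathlib.AlgebraicGeometry.IdealSheaf.Functorial

/-!
# Reduced closed subschemes with the same support
-/

set_option autoImplicit false
universe u
open CategoryTheory AlgebraicGeometry

namespace K405.RedClosed

/-- a morphism from a reduced scheme with set-theoretic image in a closed subscheme factors -/
lemma ker_le_ker_of_isReduced {X Y Z : Scheme.{u}} [IsReduced X] (i : Z ⟶ Y) [IsClosedImmersion i]
    (f : X ⟶ Y) (h : Set.range f ⊆ Set.range i) : i.ker ≤ f.ker := by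
  have h1 : f.ker = Scheme.IdealSheafData.vanishingIdeal (.closure (Set.range f)) := by
    rw [← Set.image_univ, ← TopologicalSpace.Closeds.coe_top,
      ← Scheme.IdealSheafData.map_vanishingIdeal, Scheme.IdealSheafData.vanishingIdeal_top,
      Scheme.nilradical_eq_bot, Scheme.IdealSheafData.map_bot]
  rw [h1, ← Scheme.IdealSheafData.le_support_iff_le_vanishingIdeal,
    TopologicalSpace.Closeds.closure_le]
  exact h.trans i.range_subset_ker_support

/-- a morphism from a reduced scheme with set-theoretic image in a closed subscheme factors -/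
lemma exists_lift {X Y Z : Scheme.{u}} [IsReduced X] (i : Z ⟶ Y) [IsClosedImmersion i]
    (f : X ⟶ Y) (h : Set.range f ⊆ Set.range i) : ∃ l : X ⟶ Z, l ≫ i = f :=
  ⟨IsClosedImmersion.lift i f (ker_le_ker_of_isReduced i f h), IsClosedImmersion.lift_fac _ _ _⟩

/-- Reduced closed subschemes with the same support are isomorphic. -/
lemma exists_isIso {Z₁ Z₂ Y : Scheme.{u}} [IsReduced Z₁] [IsReduced Z₂] (i₁ : Z₁ ⟶ Y) (i₂ : Z₂ ⟶ Y)
    [IsClosedImmersion i₁] [IsClosedImmersion i₂] (h : Set.range i₁ = Set.range i₂) :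
    ∃ l : Z₁ ⟶ Z₂, IsIso l ∧ l ≫ i₂ = i₁ := by
  obtain ⟨l, hl⟩ := exists_lift i₂ i₁ h.le
  exact ⟨l, IsClosedImmersion.isIso_of_ker_eq i₁ i₂ l hl
    (le_antisymm (ker_le_ker_of_isReduced i₁ i₂ h.ge) (ker_le_ker_of_isReduced i₂ i₁ h.le)), hl⟩

end K405.RedClosed
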