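import Groth.Prelude.Def_AlgGrp
import Groth.Agent.AlgGrp.K405.RedClosed
import Groth.Agent.Sga3C.GrpIrr
import Groth.Agent.Sga3B.Pts
import Groth.Agent.Flat2B.SmoothGeom
import Mathlib.AlgebraicGeometry.Morphisms.QuasiFinite
import Mathlib.CategoryTheory.Monoidal.Cartesian.CommGrp_

/-!
# Rigidity along quasi-finite morphisms, over any field
-/

set_option autoImplicit false
universe u
open CategoryTheory MonoidalCategory CartesianMonoidalCategory MonObj GrpObj AlgebraicGeometry Limits

namespace K405.Const

variable {k : Type u} [Field k]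

/-- A morphism `y : X ⟶ H` with `X` connected reduced having a rational point `e`, such that `y ≫ f` is
constant at a rational point for some locally quasi-finite `f`, is constant. -/
theorem eq_const {X H Y : Over (Spec (CommRingCat.of k))} [IsReduced X.left] [ConnectedSpace X.left]
    [IsSeparated H.hom] (f : H ⟶ Y) [LocallyQuasiFinite f.left]
    (e : 𝟙_ (Over (Spec (CommRingCat.of k))) ⟶ X) (c : 𝟙_ (Over (Spec (CommRingCat.of k))) ⟶ Y)
    (y : X ⟶ H) (hy : y ≫ f = toUnit X ≫ c) : y = toUnit X ≫ e ≫ y := by
  let s : (𝟙_ (Over (Spec (CommRingCat.of k)))).left := IsLocalRing.closedPoint k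
  have hs : ∀ t : (𝟙_ (Over (Spec (CommRingCat.of k)))).left, t = s := fun t =>
    Subsingleton.elim (α := PrimeSpectrum k) _ _
  have h1 : ∀ x : X.left, f.left (y.left x) = c.left s := by
    intro x
    have h0 : y.left ≫ f.left = (toUnit X).left ≫ c.left := by
      rw [← Over.comp_left, hy, Over.comp_left]
    have h0' := congrArg (fun z : X.left ⟶ Y.left => z x) h0
    simp only [Scheme.Hom.comp_apply] at h0'
    rw [h0', hs ((toUnit X).left x)]
  have h2 : DiscreteTopology (f.left ⁻¹' {c.left s}) := (f.left.isDiscrete_preimage_singleton _).to_subtype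
  have h3 : ∀ a b : X.left, y.left a = y.left b := by
    intro a b
    let y' : X.left → (f.left ⁻¹' {c.left s}) := fun x => ⟨y.left x, h1 x⟩
    have hy' : Continuous y' := y.left.continuous.subtype_mk _
    exact congrArg Subtype.val (PreconnectedSpace.constant inferInstance hy' (x := a) (y := b))
  have h4 : (e ≫ y).left ≫ H.hom = 𝟙 _ := Over.w (e ≫ y)
  have h5 : IsClosedImmersion (e ≫ y).left := by
    have : IsClosedImmersion ((e ≫ y).left ≫ H.hom) := by rw [h4]; infer_instance
    exact IsClosedImmersion.of_comp _ H.hom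
  have h6 : Set.range y.left ⊆ Set.range (e ≫ y).left := by
    rintro _ ⟨x, rfl⟩
    refine ⟨s, ?_⟩
    rw [Over.comp_left, Scheme.Hom.comp_apply]
    exact h3 _ _
  obtain ⟨l, hl⟩ := K405.RedClosed.exists_lift (e ≫ y).left y.left h6
  have h7 : l = (toUnit X).left := by
    have h8 : l ≫ (e ≫ y).left ≫ H.hom = y.left ≫ H.hom := by rw [← Category.assoc, hl]
    rw [h4, Over.w, Category.comp_id] at h8
    rw [h8]
    have := Over.w (toUnit X)
    exact (((Category.comp_id _).symm.trans this)).symm
  ext1
  rw [← hl, h7, Over.comp_left, Over.comp_left, Over.comp_left]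

section grp

variable {G : Over (Spec (CommRingCat.of k))} [GrpObj G]

theorem geometricallyIrreducible [LocallyOfFiniteType G.hom] [ConnectedSpace G.left] :
    GeometricallyIrreducible G.hom := by
  let _ : GrpObj (Over.mk G.hom) := inferInstanceAs (GrpObj G)
  exact Groth.Agent.Sga3C.GrpIrr.geometricallyIrreducible_of_connectedSpace G.hom

theorem irreducibleSpace [LocallyOfFiniteType G.hom] [ConnectedSpace G.left] :
    IrreducibleSpace G.left := by
  have := geometricallyIrreducible (G := G)
  exact GeometricallyIrreducible.irreducibleSpace_of_subsingleton G.hom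

theorem irreducibleSpace_tensor [Smooth G.hom] [ConnectedSpace G.left] :
    IrreducibleSpace (G ⊗ G).left := by
  have := geometricallyIrreducible (G := G)
  have := irreducibleSpace (G := G)
  change IrreducibleSpace ↥(pullback G.hom G.hom)
  infer_instance

omit [GrpObj G] in
theorem smooth_tensor [Smooth G.hom] : Smooth (G ⊗ G).hom := by
  change Smooth (pullback.fst G.hom G.hom ≫ G.hom)
  infer_instance

end grp

/-- A smooth connected group with a locally quasi-finite homomorphism to a commutative one is commutative. -/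
theorem isCommMonObj {H Y : Over (Spec (CommRingCat.of k))} [GrpObj H] [GrpObj Y] [IsCommMonObj Y]
    [Smooth H.hom] [ConnectedSpace H.left] [IsSeparated H.hom] (f : H ⟶ Y) [IsMonHom f]
    [LocallyQuasiFinite f.left] : IsCommMonObj H := by
  have h1 := irreducibleSpace_tensor (G := H)
  have h2 := smooth_tensor (G := H)
  have h3 : IsReduced (H ⊗ H).left := Groth.Agent.Flat2B.SmoothGeom.isReduced_of_smooth (H ⊗ H).hom
  let y : H ⊗ H ⟶ H := (fst H H * snd H H) * (snd H H * fst H H)⁻¹
  have hcomm : ∀ (T : Over (Spec (CommRingCat.of k))) (a b : T ⟶ Y), a * b = b * a := fun T a b => mul_comm a b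
  have hy : y ≫ f = toUnit _ ≫ η[Y] := by
    rw [MonObj.mul_comp, GrpObj.inv_comp, MonObj.mul_comp, MonObj.mul_comp, hcomm _ (fst H H ≫ f),
      mul_inv_cancel]
    rfl
  have h4 := eq_const f (lift η[H] η[H]) η[Y] y hy
  have h5 : lift η[H] η[H] ≫ y = 1 := by
    simp only [y, MonObj.comp_mul, GrpObj.comp_inv, lift_fst, lift_snd]
    exact mul_inv_cancel _
  rw [h5, MonObj.comp_one] at h4
  have h6 : fst H H * snd H H = snd H H * fst H H := mul_inv_eq_one.mp h4
  refine ⟨?_⟩
  rw [mul_eq_mul, MonObj.comp_mul, h6]
  simp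

end K405.Const
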