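import Groth.Agent.AlgGrp.K405.IsogGa
import Groth.Agent.AlgGrp.K405.Const
import Groth.Agent.AlgGrp.K411.PreimGrp
import Groth.Agent.S15180
import Groth.Agent.S3016
import Groth.Agent.GrpSch.K267.DeligneSch

/-!
# Isogenies with target the multiplicative group
-/

set_option autoImplicit false
universe u
open CategoryTheory MonoidalCategory CartesianMonoidalCategory MonObj GrpObj AlgebraicGeometry Limits

namespace K405.IsogGm

open K844.FinSub Groth.Agent.Books.AffBridge Groth.Agent.Sga3B.AffPts Groth.Agent.Sga3B.DSAff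
open Groth.Agent.AlgGrp.K411

noncomputable section

variable {k : Type u} [Field k]

theorem isCommMonObj_Gm : IsCommMonObj (Red.Gm (Spec (CommRingCat.of k))) := by
  refine ⟨?_⟩
  apply (gmC (K := k)).inj
  rw [mul_eq_mul, MonObj.comp_mul, gmC_mul, gmC_mul, _root_.mul_comm]
  simp

/-- The power map. -/
theorem pow_eq_gmPow (n : ℕ) : (𝟙 (Red.Gm (Spec (CommRingCat.of k)))) ^ n = gmPow n := by
  apply (gmC (K := k)).inj
  have h := gmPow_pt (K := k) n (𝟙 _)
  rw [Category.id_comp] at h
  rw [h]
  induction n with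
  | zero => rw [pow_zero, pow_zero, gmC_one]
  | succ n ih =>
    have h' := gmPow_pt (K := k) n (𝟙 _)
    rw [Category.id_comp] at h'
    rw [pow_succ, pow_succ, gmC_mul, ih h']

theorem finite_powAlg (n : ℕ) (hn : 0 < n) : (K844.FFlat.powAlg k n).toRingHom.Finite := by
  have h1 : (K844.FFlat.powAlg k n).toRingHom.IsIntegral := by
    have hs : ∀ m : Multiplicative ℤ, (K844.FFlat.powAlg k n).toRingHom.IsIntegralElem
        (MonoidAlgebra.single m (1 : k)) := by
      intro m
      refine ⟨Polynomial.X ^ n - Polynomial.C (MonoidAlgebra.single m (1 : k)),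
        Polynomial.monic_X_pow_sub_C _ hn.ne', ?_⟩
      rw [Polynomial.eval₂_sub, Polynomial.eval₂_pow, Polynomial.eval₂_X, Polynomial.eval₂_C]
      change (MonoidAlgebra.single m (1 : k)) ^ n - K844.FFlat.powAlg k n _ = 0
      rw [MonoidAlgebra.single_pow, one_pow]
      simp
    have hC : ∀ a : k, (K844.FFlat.powAlg k n).toRingHom.IsIntegralElem
        (algebraMap k (MonoidAlgebra k (Multiplicative ℤ)) a) := by
      intro a
      have h3 : (K844.FFlat.powAlg k n).toRingHom (algebraMap k _ a) =
          algebraMap k (MonoidAlgebra k (Multiplicative ℤ)) a := AlgHom.commutes _ _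
      rw [← h3]
      exact RingHom.isIntegralElem_map _
    intro x
    induction x using MonoidAlgebra.induction_on with
    | of m => exact hs m
    | add f g hf hg => exact hf.add _ hg
    | smul r f hf =>
      rw [Algebra.smul_def]
      exact (hC r).mul _ hf
  have h2 : (K844.FFlat.powAlg k n).toRingHom.FiniteType := by
    refine RingHom.FiniteType.of_comp_finiteType (f := algebraMap k _) ?_
    have h3 : (K844.FFlat.powAlg k n).toRingHom.comp (algebraMap k _) = algebraMap k _ :=
      (K844.FFlat.powAlg k n).comp_algebraMap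
    rw [h3, RingHom.finiteType_algebraMap]
    infer_instance
  exact h1.to_finite h2

theorem isFinite_gmPow (n : ℕ) (hn : 0 < n) : IsFinite (gmPow (K := k) n).left := by
  have h1 : IsFinite (specMap k (K844.FFlat.powAlg k n)).left := by
    change IsFinite (Spec.map (CommRingCat.ofHom (K844.FFlat.powAlg k n).toRingHom))
    rw [IsFinite.SpecMap_iff]
    exact finite_powAlg n hn
  have h3 : IsIso (dsTo k ℤ).left := inferInstanceAs (IsIso ((Over.forget _).map (dsTo k ℤ)))
  have h4 : IsIso (dsFrom k ℤ).left := inferInstanceAs (IsIso ((Over.forget _).map (dsFrom k ℤ)))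
  rw [gmPow, Over.comp_left, Over.comp_left]
  infer_instance

theorem isAffine_Gm : IsAffine (Red.Gm (Spec (CommRingCat.of k))).left := by
  have h3 : IsIso (dsTo k ℤ).left := inferInstanceAs (IsIso ((Over.forget _).map (dsTo k ℤ)))
  have : IsAffine (SpecOver k (MonoidAlgebra k (Multiplicative ℤ))).left :=
    inferInstanceAs (IsAffine (Spec _))
  exact IsAffine.of_isIso (dsTo k ℤ).left

theorem isIntegral_Gm : IsIntegral (Red.Gm (Spec (CommRingCat.of k))).left := by
  have h3 : IsIso (dsTo k ℤ).left := inferInstanceAs (IsIso ((Over.forget _).map (dsTo k ℤ)))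
  have : IsIntegral (SpecOver k (MonoidAlgebra k (Multiplicative ℤ))).left :=
    inferInstanceAs (IsIntegral (Spec (CommRingCat.of (MonoidAlgebra k (Multiplicative ℤ)))))
  have : Nonempty (Red.Gm (Spec (CommRingCat.of k))).left :=
    ⟨(η[Red.Gm (Spec (CommRingCat.of k))] : 𝟙_ (Over (Spec (CommRingCat.of k))) ⟶ _).left
      (IsLocalRing.closedPoint k)⟩
  exact isIntegral_of_isOpenImmersion (dsTo k ℤ).left

theorem locallyOfFiniteType_Gm : LocallyOfFiniteType (Red.Gm (Spec (CommRingCat.of k))).hom := by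
  have h3 : IsIso (dsTo k ℤ).left := inferInstanceAs (IsIso ((Over.forget _).map (dsTo k ℤ)))
  have : LocallyOfFiniteType (SpecOver k (MonoidAlgebra k (Multiplicative ℤ))).hom := by
    change LocallyOfFiniteType (Spec.map (CommRingCat.ofHom (algebraMap k (MonoidAlgebra k (Multiplicative ℤ)))))
    rw [HasRingHomProperty.Spec_iff (P := @LocallyOfFiniteType)]
    change (algebraMap k (MonoidAlgebra k (Multiplicative ℤ))).FiniteType
    rw [RingHom.finiteType_algebraMap]
    infer_instance
  rw [← Over.w (dsTo k ℤ)]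
  infer_instance

section

variable {X Y Z : Scheme.{u}}

/-- `φ : X ⟶ Y` is surjective when its image is closed and it is a section up to a quasi-finite map. -/
theorem surjective_of_comp (φ : X ⟶ Y) (f : Y ⟶ Z) [IrreducibleSpace X] [IrreducibleSpace Y]
    [LocallyQuasiFinite f] [Surjective f] [Surjective (φ ≫ f)] (hcl : IsClosed (Set.range φ)) : Surjective φ := by
  have h1 : IsGenericPoint (genericPoint X) (⊤ : Set X) := genericPoint_spec X
  have h2 : IsGenericPoint (genericPoint Y) (⊤ : Set Y) := genericPoint_spec Y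
  have h3 := h1.image (φ ≫ f).continuous
  have h4 := h2.image f.continuous
  rw [Set.top_eq_univ, Set.image_univ, Set.range_eq_univ.2 (φ ≫ f).surjective, closure_univ] at h3
  rw [Set.top_eq_univ, Set.image_univ, Set.range_eq_univ.2 f.surjective, closure_univ] at h4
  have h5 : f (φ (genericPoint X)) = f (genericPoint Y) := by
    have := h3.eq h4
    rwa [Scheme.Hom.comp_apply] at this
  have h6 : DiscreteTopology (f ⁻¹' {f (genericPoint Y)}) := (f.isDiscrete_preimage_singleton _).to_subtype
  let x' : (f ⁻¹' {f (genericPoint Y)}) := ⟨genericPoint Y, rfl⟩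
  let y' : (f ⁻¹' {f (genericPoint Y)}) := ⟨φ (genericPoint X), h5⟩
  have h7 : genericPoint Y ⤳ φ (genericPoint X) := genericPoint_specializes _
  have h8 : x' ⤳ y' := Topology.IsInducing.subtypeVal.specializes_iff.mp h7
  have h9 : genericPoint Y = φ (genericPoint X) := congrArg Subtype.val h8.eq
  refine ⟨fun y => ?_⟩
  have h10 : genericPoint Y ⤳ y := genericPoint_specializes _
  exact h10.mem_closed hcl ⟨genericPoint X, h9.symm⟩

end

/-- The kernel of a finite homomorphism is finite over the field. -/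
theorem isFinite_ker {G Q : Over (Spec (CommRingCat.of k))} [GrpObj Q] (f : G ⟶ Q) [IsFinite f.left] :
    IsFinite (PreimGrp.preObj f (η[Q] : 𝟙_ (Over (Spec (CommRingCat.of k))) ⟶ Q)).hom := by
  have h := Over.w (PreimGrp.preπ f (η[Q] : 𝟙_ (Over (Spec (CommRingCat.of k))) ⟶ Q))
  rw [← h]
  have h1 : IsFinite (PreimGrp.preπ f (η[Q] : 𝟙_ (Over (Spec (CommRingCat.of k))) ⟶ Q)).left := by
    rw [PreimGrp.preπ_left]
    exact MorphismProperty.pullback_snd (P := @IsFinite) _ _ ‹_›
  have h2 : (𝟙_ (Over (Spec (CommRingCat.of k)))).hom = 𝟙 _ := rfl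
  rw [h2]
  infer_instance

theorem mono_unit {Q : Over (Spec (CommRingCat.of k))} [GrpObj Q] :
    Mono (η[Q] : 𝟙_ (Over (Spec (CommRingCat.of k))) ⟶ Q) := ⟨fun _ _ _ => toUnit_unique _ _⟩

/-- A commutative group, finite over a field, is killed by a positive integer. -/
theorem exists_pow_eq_one (N : Over (Spec (CommRingCat.of k))) [GrpObj N] [IsCommMonObj N] [IsFinite N.hom] :
    ∃ n : ℕ, 0 < n ∧ ∀ (T : Over (Spec (CommRingCat.of k))) (g : T ⟶ N), g ^ n = 1 := by
  have h1 : Flat N.hom := by infer_instance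
  have h2 : LocallyOfFinitePresentation N.hom := by
    infer_instance
  have h3 : Surjective N.hom := by
    have : Surjective ((η[N] : 𝟙_ (Over (Spec (CommRingCat.of k))) ⟶ N).left ≫ N.hom) := by
      rw [Over.w]
      exact inferInstanceAs (Surjective (𝟙 (Spec (CommRingCat.of k))))
    exact Surjective.of_comp (η[N] : 𝟙_ (Over (Spec (CommRingCat.of k))) ⟶ N).left N.hom
  refine ⟨N.hom.finrank (IsLocalRing.closedPoint k), ?_, fun T g => ?_⟩
  · exact (Scheme.Hom.one_le_finrank_iff_surjective (f := N.hom)).2 h3 _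
  · refine K267.DeligneSch.pow_eq_one N _ (fun s => ?_) T g
    congr 1
    exact Subsingleton.elim (α := PrimeSpectrum k) _ _

/-- The power map of a commutative group is a homomorphism. -/
theorem isMonHom_pow {H : Over (Spec (CommRingCat.of k))} [GrpObj H] [IsCommMonObj H] (n : ℕ) :
    IsMonHom ((𝟙 H) ^ n) := by
  apply Groth.Agent.Sga3B.Pts.isMonHom_of_points
  intro T x y
  rw [MonObj.comp_pow, MonObj.comp_pow, MonObj.comp_pow, Category.comp_id, Category.comp_id, Category.comp_id]
  exact _root_.mul_pow x y n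

/-- The main theorem. -/
theorem nonempty_iso (H : Over (Spec (CommRingCat.of k))) [GrpObj H] [Smooth H.hom] [ConnectedSpace ↥H.left]
    (f : H ⟶ Red.Gm (Spec (CommRingCat.of k))) [IsMonHom f] [IsFinite f.left] [Surjective f.left] :
    Nonempty (Grp.mk H ≅ Grp.mk (Red.Gm (Spec (CommRingCat.of k)))) := by
  have hGmc := isCommMonObj_Gm (k := k)
  have hGa := isAffine_Gm (k := k)
  have hGi := isIntegral_Gm (k := k)
  have hGft := locallyOfFiniteType_Gm (k := k)
  have hGln : IsLocallyNoetherian (Red.Gm (Spec (CommRingCat.of k))).left :=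
    LocallyOfFiniteType.isLocallyNoetherian (Red.Gm (Spec (CommRingCat.of k))).hom
  have hHln : IsLocallyNoetherian H.left := LocallyOfFiniteType.isLocallyNoetherian H.hom
  have hHr : IsReduced H.left := Groth.Agent.Flat2B.SmoothGeom.isReduced_of_smooth H.hom
  have hHsep : IsSeparated H.hom := by rw [← Over.w f]; infer_instance
  have hHirr := K405.Const.irreducibleSpace (G := H)
  have hHc : IsCommMonObj H := K405.Const.isCommMonObj f
  have hfl := Groth.Agent.Sga7.H758.FieldHom.flat_of_surjective k f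
  -- the kernel of `f`
  have hηm := mono_unit (Q := Red.Gm (Spec (CommRingCat.of k)))
  obtain ⟨gN, hN1, hN2⟩ := PreimGrp.exists_grpObj (f := f) (v := η[Red.Gm (Spec (CommRingCat.of k))])
  have hNm : Mono (PreimGrp.preι f η[Red.Gm (Spec (CommRingCat.of k))]) := inferInstance
  have hNc : IsCommMonObj (PreimGrp.preObj f η[Red.Gm (Spec (CommRingCat.of k))]) := by
    refine ⟨?_⟩
    rw [← cancel_mono (PreimGrp.preι f η[Red.Gm (Spec (CommRingCat.of k))]), mul_eq_mul, MonObj.comp_mul,
      MonObj.mul_comp, MonObj.mul_comp, _root_.mul_comm]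
    simp
  have hNf := isFinite_ker f
  obtain ⟨n, hn, hN⟩ := exists_pow_eq_one (PreimGrp.preObj f η[Red.Gm (Spec (CommRingCat.of k))])
  have hp := isMonHom_pow (H := H) n
  obtain ⟨φ, hφ, hfφ⟩ := K405.IsogGa.exists_desc_hom f ((𝟙 H) ^ n) (fun T x hx => by
    obtain ⟨t, rfl, -⟩ := PreimGrp.exists_lift (f := f) (v := η[Red.Gm (Spec (CommRingCat.of k))]) x
      (toUnit T) (by rw [hx]; rfl)
    rw [MonObj.comp_pow, Category.comp_id, ← MonObj.pow_comp, hN, MonObj.one_comp])
  have hφf : φ ≫ f = gmPow n := by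
    have := K404.Desc.epi_of f
    have h1 : ((𝟙 H) ^ n) ≫ f = (𝟙 H ≫ f) ^ n := MonObj.pow_comp (𝟙 H) n f
    rw [← cancel_epi f, ← Category.assoc, hfφ, ← pow_eq_gmPow, MonObj.comp_pow, Category.comp_id,
      h1, Category.id_comp]
  have hfin : IsFinite (φ ≫ f).left := by rw [hφf]; exact isFinite_gmPow n hn
  have hφfin : IsFinite φ.left := by
    rw [Over.comp_left] at hfin
    exact IsFinite.of_comp φ.left f.left
  have hsurj : Surjective (φ.left ≫ f.left) := by
    rw [← Over.comp_left, hφf]
    exact (flat_surj_gmPow n hn).2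
  have hφs : Surjective φ.left := surjective_of_comp φ.left f.left φ.left.isClosedMap.isClosed_range
  have hφfl := Groth.Agent.Sga7.H758.FieldHom.flat_of_surjective k φ
  have hηm' := mono_unit (Q := H)
  obtain ⟨gN', hN1', hN2'⟩ := PreimGrp.exists_grpObj (f := φ) (v := η[H])
  have hNf' := isFinite_ker φ
  obtain ⟨ψ, hψ, hψk, hψf, hψs⟩ := Groth.Agent.S15180.result k (Red.Gm (Spec (CommRingCat.of k)))
    (PreimGrp.preObj φ η[H]) (Or.inr ⟨Iso.refl _⟩) (PreimGrp.preι φ η[H])
  have hψq : QuasiCompact ψ.left := inferInstance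
  refine K405.IsogGa.nonempty_iso_of_ker φ ψ fun T x => ⟨fun hx => ?_, fun hx => ?_⟩
  · obtain ⟨t, rfl, -⟩ := PreimGrp.exists_lift (f := φ) (v := η[H]) x (toUnit T) (by rw [hx]; rfl)
    exact K404.Desc.ker_comp hψk t
  · obtain ⟨t, rfl⟩ := K404.Desc.exists_lift_ker hψk x hx
    rw [Category.assoc, PreimGrp.condition, ← Category.assoc, Hom.one_def]
    congr 1
    exact toUnit_unique _ _

end

end K405.IsogGm
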