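import Groth.Prelude.Def_AlgGrp
import Groth.Agent.SGA3x.K20.GeomIrr
import Groth.Agent.Flat2B.SmoothGeom
import Groth.Agent.S5347
import Mathlib.AlgebraicGeometry.AlgClosed.Basic

/-!
# Connectedness of a group acting transitively with connected stabilizer
-/

set_option autoImplicit false
universe u
open CategoryTheory MonoidalCategory CartesianMonoidalCategory MonObj GrpObj AlgebraicGeometry Limits

namespace K405.ConnOrbit

variable {k : Type u} [Field k]

/-- Rational points exist. -/
theorem exists_point [IsAlgClosed k] (X : Over (Spec (CommRingCat.of k))) [LocallyOfFiniteType X.hom]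
    (Z : Set X.left) (hZ : Z.Nonempty) (hZ' : IsLocallyClosed Z) :
    ∃ x : 𝟙_ (Over (Spec (CommRingCat.of k))) ⟶ X, x.left (IsLocalRing.closedPoint k) ∈ Z ∧
      IsClosed {x.left (IsLocalRing.closedPoint k)} := by
  have : JacobsonSpace X.left := LocallyOfFiniteType.jacobsonSpace X.hom
  obtain ⟨x, hx, hx'⟩ := nonempty_inter_closedPoints hZ hZ'
  refine ⟨Over.homMk (pointOfClosedPoint X.hom x hx') (pointOfClosedPoint_comp X.hom x hx'), ?_⟩
  have h := pointOfClosedPoint_apply X.hom x hx' (IsLocalRing.closedPoint k)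
  have h1 : (pointOfClosedPoint X.hom x hx') (IsLocalRing.closedPoint k) ∈ Z := by rw [h]; exact hx
  exact ⟨h1, by
    change IsClosed {(pointOfClosedPoint X.hom x hx') (IsLocalRing.closedPoint k)}
    rw [h]; exact hx'⟩

/-- The orbit map onto a reduced irreducible scheme is flat when it is surjective. -/
theorem flat_orbitMap {G X : Over (Spec (CommRingCat.of k))} [GrpObj G] [IsIntegral X.left]
    (a : AlgGrp.Action G X) (x₀ : 𝟙_ (Over (Spec (CommRingCat.of k))) ⟶ X)
    [Surjective (a.orbitMap x₀).left] : Flat (a.orbitMap x₀).left := by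
  have h0 : Subsingleton ↥(Spec (CommRingCat.of k)) := inferInstanceAs (Subsingleton (PrimeSpectrum k))
  have h1 : Flat G.hom := inferInstance
  obtain ⟨g, hg⟩ := (a.orbitMap x₀).left.surjective (genericPoint X.left)
  refine Groth.Agent.S5347.result k G X a x₀ ⟨g, ?_⟩
  have h2 : IsField (X.left.presheaf.stalk ((a.orbitMap x₀).left g)) := by
    rw [hg]
    exact Field.toIsField X.left.functionField
  let _ := h2.toField
  let _ := ((a.orbitMap x₀).left.stalkMap g).hom.toAlgebra
  change Module.Flat (X.left.presheaf.stalk ((a.orbitMap x₀).left g)) (G.left.presheaf.stalk g)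
  infer_instance

/-- `g ≫ orbitMap` for a point `g` -/
theorem comp_orbitMap {G X : Over (Spec (CommRingCat.of k))} [GrpObj G] (a : AlgGrp.Action G X)
    (x₀ : 𝟙_ (Over (Spec (CommRingCat.of k))) ⟶ X) {T : Over (Spec (CommRingCat.of k))} (g : T ⟶ G) :
    g ≫ a.orbitMap x₀ = lift g (toUnit T ≫ x₀) ≫ a.act := by
  rw [AlgGrp.Action.orbitMap, ← Category.assoc, comp_lift, Category.comp_id,
    ← Category.assoc, toUnit_unique (g ≫ toUnit G) (toUnit T)]

/-- The main statement. -/
theorem connectedSpace [IsAlgClosed k]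
    (G X : Over (Spec (CommRingCat.of k))) [GrpObj G] [LocallyOfFiniteType G.hom]
    [Smooth X.hom] [ConnectedSpace ↥X.left] (a : AlgGrp.Action G X) (x₀ : 𝟙_ (Over (Spec (CommRingCat.of k))) ⟶ X)
    (hsurj : Surjective (a.orbitMap x₀).left)
    (H : Over (Spec (CommRingCat.of k))) (i : H ⟶ G)
    (hH : ∀ (T : Over (Spec (CommRingCat.of k))) (g : T ⟶ G), g ≫ a.orbitMap x₀ = toUnit T ≫ x₀ → (∃ h : T ⟶ H, h ≫ i = g))
    [ConnectedSpace ↥H.left] : ConnectedSpace ↥G.left := by
  have hXi : IsIntegral X.left := by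
    have h1 := K20.GeomIrr.irreducibleSpace_of_smooth X.hom
    have h2 : IsReduced X.left := Groth.Agent.Flat2B.SmoothGeom.isReduced_of_smooth X.hom
    exact isIntegral_of_irreducibleSpace_of_isReduced X.left
  have hfl := flat_orbitMap a x₀
  have hXln : IsLocallyNoetherian X.left := LocallyOfFiniteType.isLocallyNoetherian X.hom
  have hft : LocallyOfFiniteType (a.orbitMap x₀).left := by
    have : LocallyOfFiniteType ((a.orbitMap x₀).left ≫ X.hom) := by rw [Over.w]; infer_instance
    exact locallyOfFiniteType_of_comp _ X.hom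
  have hfp : LocallyOfFinitePresentation (a.orbitMap x₀).left := inferInstance
  have hop : IsOpenMap (a.orbitMap x₀).left := (a.orbitMap x₀).left.isOpenMap
  have hne : Nonempty G.left := ⟨(η[G] : 𝟙_ (Over (Spec (CommRingCat.of k))) ⟶ G).left
      (IsLocalRing.closedPoint k)⟩
  have hpre : PreconnectedSpace G.left := by
    rw [preconnectedSpace_iff_clopen]
    intro U hU
    by_contra hcon
    push Not at hcon
    obtain ⟨h1, h2⟩ := hcon
    have hU' : (Uᶜ).Nonempty := Set.nonempty_compl.2 h2
    -- the images meet in a closed point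
    have h3 : (((a.orbitMap x₀).left '' U) ∩ ((a.orbitMap x₀).left '' Uᶜ)).Nonempty := by
      apply nonempty_preirreducible_inter
      · exact hop _ hU.isOpen
      · exact hop _ hU.compl.isOpen
      · exact h1.image _
      · exact hU'.image _
    obtain ⟨x₁, hx₁, hx₁c⟩ := exists_point X _ h3
      (((hop _ hU.isOpen).inter (hop _ hU.compl.isOpen)).isLocallyClosed)
    -- a rational point over it
    obtain ⟨⟨u, hu, hux⟩, ⟨v, hv, hvx⟩⟩ := hx₁
    obtain ⟨g, hg, hgc⟩ := exists_point G ((a.orbitMap x₀).left ⁻¹' {x₁.left (IsLocalRing.closedPoint k)})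
      ⟨u, hux⟩ (hx₁c.preimage (a.orbitMap x₀).left.continuous).isLocallyClosed
    have hgx : g ≫ a.orbitMap x₀ = x₁ := by
      ext1
      refine ext_of_apply_closedPoint_eq X.hom (Over.w (g ≫ a.orbitMap x₀)) (Over.w x₁) ?_
      rw [Over.comp_left, Scheme.Hom.comp_apply]
      exact hg
    -- the fibre is the translate of `H`
    have key : ∀ z : G.left, (a.orbitMap x₀).left z = x₁.left (IsLocalRing.closedPoint k) →
        z ∈ Set.range ((toUnit H ≫ g) * i).left := by
      intro z hz
      obtain ⟨w, hw1, hw2⟩ := Scheme.Pullback.exists_preimage_pullback (f := (a.orbitMap x₀).left)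
        (g := x₁.left) z (IsLocalRing.closedPoint k) hz
      let T : Over (Spec (CommRingCat.of k)) := Over.mk (pullback.fst (a.orbitMap x₀).left x₁.left ≫ G.hom)
      let t : T ⟶ G := Over.homMk (pullback.fst (a.orbitMap x₀).left x₁.left) rfl
      let s : T ⟶ 𝟙_ (Over (Spec (CommRingCat.of k))) := Over.homMk (pullback.snd (a.orbitMap x₀).left x₁.left) (by
        have h := pullback.condition (f := (a.orbitMap x₀).left) (g := x₁.left) =≫ X.hom
        simp only [Category.assoc, Over.w] at h
        exact h.symm)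
      have ht : t ≫ a.orbitMap x₀ = toUnit T ≫ x₁ := by
        rw [toUnit_unique (toUnit T) s]
        ext1
        exact pullback.condition (f := (a.orbitMap x₀).left) (g := x₁.left)
      have ht' : ((toUnit T ≫ g)⁻¹ * t) ≫ a.orbitMap x₀ = toUnit T ≫ x₀ := by
        rw [comp_orbitMap, Groth.Agent.Sga3C.Transl.lift_mul_act, ← comp_orbitMap, ht, ← hgx,
          ← Category.assoc, comp_orbitMap, ← Groth.Agent.Sga3C.Transl.lift_mul_act, inv_mul_cancel,
          Groth.Agent.Sga3C.Transl.lift_one_act]
      obtain ⟨h, hh⟩ := hH T _ ht'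
      have ht2 : t = h ≫ ((toUnit H ≫ g) * i) := by
        rw [MonObj.comp_mul, hh, ← Category.assoc, toUnit_unique (h ≫ toUnit H) (toUnit T),
          mul_inv_cancel_left]
      have hz2 : z = t.left w := hw1.symm
      rw [hz2, ht2]
      exact ⟨h.left w, by rw [Over.comp_left, Scheme.Hom.comp_apply]⟩
    have hc : _root_.IsPreconnected (Set.range ((toUnit H ≫ g) * i).left) :=
      isPreconnected_range ((toUnit H ≫ g) * i).left.continuous
    have h4 := hc.subset_isClopen hU ⟨u, key u hux, hu⟩
    exact hv (h4 (key v hvx))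
  exact { hpre with toNonempty := hne }

end K405.ConnOrbit
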