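import Groth.Prelude.Def_W4c2lssmoduliGProp
import Mathlib.AlgebraicGeometry.PullbackCarrier
import Mathlib.AlgebraicGeometry.Restrict

/-!
# Restriction of an action to a saturated open subscheme, and `G`-universal closedness
-/

set_option autoImplicit false

universe u

open CategoryTheory CategoryTheory.Limits MonoidalCategory CartesianMonoidalCategory MonObj GrpObj AlgebraicGeometry

namespace K405.ActOpen

variable {S : Scheme.{u}} {G X : Over S} [GrpObj G] (a : AlgGrp.Action G X) (U : X.left.Opens)
  (hU : a.act.left ⁻¹ᵁ U = (snd G X).left ⁻¹ᵁ U)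

/-- the open subscheme over `S` -/
noncomputable abbrev XU : Over S := Over.mk (U.ι ≫ X.hom)

/-- the inclusion -/
noncomputable def iU : XU U ⟶ X := Over.homMk U.ι rfl

theorem iU_left : (iU U).left = U.ι := rfl

theorem mono_iU : Mono (iU U) := by
  have : Mono (iU U).left := inferInstanceAs (Mono U.ι)
  exact Over.mono_of_mono_left _

include hU in
theorem range_subset : Set.range ((G ◁ iU U).left ≫ a.act.left) ⊆ Set.range U.ι := by
  rintro _ ⟨y, rfl⟩
  rw [Scheme.Opens.range_ι]
  have h0 : (G ◁ iU U).left ≫ (snd G X).left = (snd G (XU U)).left ≫ U.ι := by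
    have := congrArg (fun z => (Over.Hom.left z)) (whiskerLeft_snd G (iU U))
    simp only [Over.comp_left] at this
    exact this
  have h1 : (G ◁ iU U).left y ∈ (snd G X).left ⁻¹ᵁ U := by
    change (snd G X).left ((G ◁ iU U).left y) ∈ U
    rw [← Scheme.Hom.comp_apply, h0, Scheme.Hom.comp_apply]
    exact ((snd G (XU U)).left y).2
  rw [← hU] at h1
  rw [Scheme.Hom.comp_apply]
  exact h1

/-- the restricted action, as a morphism of schemes -/
noncomputable def actU : G ⊗ XU U ⟶ XU U :=
  Over.homMk (IsOpenImmersion.lift U.ι ((G ◁ iU U).left ≫ a.act.left) (range_subset a U hU)) (by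
    change _ ≫ U.ι ≫ X.hom = _
    rw [IsOpenImmersion.lift_fac_assoc, Category.assoc, Over.w, Over.w])

theorem actU_i : actU a U hU ≫ iU U = (G ◁ iU U) ≫ a.act :=
  Over.OverMorphism.ext (IsOpenImmersion.lift_fac _ _ _)

/-- the restricted action -/
noncomputable def restrict : AlgGrp.Action G (XU U) where
  act := actU a U hU
  one_act := by
    have := mono_iU U
    rw [← cancel_mono (iU U), Category.assoc, actU_i, ← whisker_exchange_assoc, a.one_act]
    simp
  mul_act := by
    have := mono_iU U
    rw [← cancel_mono (iU U)]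
    simp only [Category.assoc, actU_i]
    rw [← whisker_exchange_assoc, a.mul_act, ← MonoidalCategory.whiskerLeft_comp_assoc (W := G), actU_i]
    simp

theorem restrict_act_i : (restrict a U hU).act ≫ iU U = (G ◁ iU U) ≫ a.act := actU_i a U hU

open W4c2lssmoduli

variable {Y V : Over S} (f : X ⟶ Y) (v : V ⟶ Y) (g : XU U ⟶ V)

/-- `G`-universal closedness can be restricted to an open immersion into the target. -/
theorem isGUnivClosed [IsOpenImmersion v.left] (hf : IsGUnivClosed a f) (hg : g ≫ v = iU U ≫ f)
    (hUV : ∀ x, f.left x ∈ Set.range v.left → x ∈ U) : IsGUnivClosed (restrict a U hU) g := by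
  have hv : Mono v := Over.mono_of_mono_left _
  have hi := mono_iU U
  refine ⟨?_, fun A _ _ _ K _ _ _ sA x h hxh => ?_⟩
  · change _ = _
    rw [← cancel_mono v, Category.assoc, Category.assoc, hg, ← Category.assoc, restrict_act_i,
      Category.assoc, hf.1, whiskerLeft_snd_assoc]
  · obtain ⟨i, γ, hi1, hi2⟩ := hf.2 A K sA (x ≫ iU U) (h ≫ v) (by
      rw [Category.assoc, ← hg, ← Category.assoc, hxh, Category.assoc])
    have hr : Set.range i.left ⊆ Set.range U.ι := by
      rintro _ ⟨z, rfl⟩
      rw [Scheme.Opens.range_ι]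
      apply hUV
      refine ⟨h.left z, ?_⟩
      have h0 : i.left ≫ f.left = h.left ≫ v.left := by
        rw [← Over.comp_left, hi1, Over.comp_left]
      rw [← Scheme.Hom.comp_apply, ← Scheme.Hom.comp_apply]
      exact congrArg (fun w : (Over.mk sA).left ⟶ Y.left => w z) h0.symm
    let j : Over.mk sA ⟶ XU U := Over.homMk (IsOpenImmersion.lift U.ι i.left hr) (by
      change _ ≫ U.ι ≫ X.hom = _
      rw [IsOpenImmersion.lift_fac_assoc, Over.w])
    have hj : j ≫ iU U = i := Over.OverMorphism.ext (IsOpenImmersion.lift_fac _ _ _)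
    refine ⟨j, γ, ?_, ?_⟩
    · rw [← cancel_mono v, Category.assoc, hg, ← Category.assoc, hj, hi1]
    · rw [← cancel_mono (iU U), Category.assoc, hj, hi2, Category.assoc, restrict_act_i,
        lift_whiskerLeft_assoc]

end K405.ActOpen
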