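import Mathlib.RingTheory.AdjoinRoot
import Mathlib.Algebra.Polynomial.Taylor
import Mathlib.Algebra.Polynomial.HasseDeriv

/-!
# Monic polynomials whose roots form a subgroup functor of `𝔾_a` are additive
-/

set_option autoImplicit false
universe u
open Polynomial

namespace K405.AddPoly

theorem degree_taylor_sub_lt {B : Type*} [CommRing B] [Nontrivial B] (g : B[X]) (hg : g.Monic) (r : B) :
    (g.comp (X + C r) - g).degree < g.degree := by
  have h1 : (g.comp (X + C r)).Monic := hg.comp_X_add_C r
  have h2 : (g.comp (X + C r)).degree = g.degree := by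
    rw [degree_eq_natDegree h1.ne_zero, degree_eq_natDegree hg.ne_zero, natDegree_comp_eq_of_mul_ne_zero,
      natDegree_X_add_C, mul_one]
    · rw [hg.leadingCoeff, (monic_X_add_C r).leadingCoeff]
      simp
  have := degree_sub_lt_left h2 h1.ne_zero (by rw [h1.leadingCoeff, hg.leadingCoeff])
  rwa [h2] at this

theorem hasseDeriv_map {A B : Type*} [CommRing A] [CommRing B] (φ : A →+* B) (g : A[X]) (n : ℕ) :
    hasseDeriv n (g.map φ) = (hasseDeriv n g).map φ := by
  ext m
  rw [hasseDeriv_coeff, coeff_map, coeff_map, hasseDeriv_coeff, map_mul, map_natCast]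

/-- If the roots of a monic polynomial `g` form a subgroup functor, its Hasse derivatives are constant. -/
theorem hasseDeriv_eq_C {k : Type u} [Field k] (g : k[X]) (hg : g.Monic) (h0 : g.eval 0 = 0)
    (hadd : ∀ (B : Type u) [CommRing B] [Algebra k B] (x y : B), aeval x g = 0 → aeval y g = 0 →
      aeval (x + y) g = 0) (n : ℕ) (hn : n ≠ 0) : hasseDeriv n g = C (g.coeff n) := by
  have hne : g ≠ 1 := by
    rintro rfl
    simp at h0
  have hd : 0 < g.natDegree := hg.natDegree_pos_of_not_isUnit (fun h => hne (hg.eq_one_of_isUnit h))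
  let B₁ := AdjoinRoot g
  have : Nontrivial B₁ := AdjoinRoot.nontrivial g (by
    rw [degree_eq_natDegree hg.ne_zero]; exact_mod_cast hd.ne')
  let g₁ : B₁[X] := g.map (algebraMap k B₁)
  have hg₁ : g₁.Monic := hg.map _
  let r : B₁ := AdjoinRoot.root g
  have hr : aeval r g = 0 := by rw [aeval_def]; exact AdjoinRoot.eval₂_root g
  let B₂ := AdjoinRoot g₁
  let s : B₂ := AdjoinRoot.root g₁
  have hs : aeval s g = 0 := by
    have := AdjoinRoot.eval₂_root g₁
    rw [eval₂_map] at this
    exact this
  have hr2 : aeval (algebraMap B₁ B₂ r) g = 0 := by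
    rw [aeval_algebraMap_apply, hr, map_zero]
  have h1 := hadd B₂ s (algebraMap B₁ B₂ r) hs hr2
  have h2 : g₁ ∣ (g₁.comp (X + C r) - g₁) := by
    rw [← AdjoinRoot.mk_eq_zero, map_sub, AdjoinRoot.mk_self, sub_zero, ← AdjoinRoot.aeval_eq,
      aeval_comp, map_add, aeval_X, aeval_C]
    change aeval (s + algebraMap B₁ B₂ r) (g.map (algebraMap k B₁)) = 0
    rw [aeval_map_algebraMap]
    exact h1
  have h3 : g₁.comp (X + C r) - g₁ = 0 := by
    by_contra h
    exact hg₁.not_dvd_of_degree_lt h (degree_taylor_sub_lt g₁ hg₁ r) h2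
  have h4 : taylor r g₁ = g₁ := by rw [taylor_apply]; exact sub_eq_zero.mp h3
  have h5 : (hasseDeriv n g₁).eval r = g₁.coeff n := by rw [← taylor_coeff, h4]
  have h6 : g ∣ hasseDeriv n g - C (g.coeff n) := by
    rw [← AdjoinRoot.mk_eq_zero, map_sub, ← AdjoinRoot.aeval_eq, sub_eq_zero]
    change aeval r (hasseDeriv n g) = _
    have h7 : (hasseDeriv n g₁).eval r = aeval r (hasseDeriv n g) := by
      rw [hasseDeriv_map, eval_map, aeval_def]
    rw [← h7, h5, coeff_map]
    rfl
  by_contra h
  refine hg.not_dvd_of_degree_lt (sub_ne_zero.mpr h) ?_ h6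
  refine degree_lt_degree ?_
  refine lt_of_le_of_lt (natDegree_sub_le _ _) (max_lt ?_ ?_)
  · have := natDegree_hasseDeriv_le g n
    omega
  · rwa [natDegree_C]

/-- If the roots of a monic polynomial `g` form a subgroup functor, then `g` is additive. -/
theorem aeval_add_eq {k : Type u} [Field k] (g : k[X]) (hg : g.Monic) (h0 : g.eval 0 = 0)
    (hadd : ∀ (B : Type u) [CommRing B] [Algebra k B] (x y : B), aeval x g = 0 → aeval y g = 0 →
      aeval (x + y) g = 0)
    {B : Type*} [CommRing B] [Algebra k B] (x y : B) : aeval (x + y) g = aeval x g + aeval y g := by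
  have key : taylor x (g.map (algebraMap k B)) = g.map (algebraMap k B) + C (aeval x g) := by
    ext n
    rw [taylor_coeff, hasseDeriv_map, coeff_add, coeff_map]
    rcases eq_or_ne n 0 with rfl | hn
    · rw [hasseDeriv_zero', coeff_zero_eq_eval_zero, h0, map_zero, zero_add, coeff_C_zero, eval_map, aeval_def]
    · rw [hasseDeriv_eq_C g hg h0 hadd n hn, map_C, eval_C, coeff_C_of_ne_zero hn, add_zero]
  have := taylor_eval x (g.map (algebraMap k B)) y
  rw [key, eval_add, eval_C, eval_map, eval_map, ← aeval_def, ← aeval_def] at this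
  rw [add_comm x y, ← this, add_comm]

end K405.AddPoly
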