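import Groth.Agent.AlgGrp.K405.AffHom

/-!
# Affine coequalizers over a base

Given `m, p : P ⟶ R` over `S` (all quasi-compact and quasi-separated over `S`), the relative
spectrum of the algebra of sections `s` of `φ_* O_R` with `m^* s = p^* s`.
-/

set_option autoImplicit false
universe u
open CategoryTheory AlgebraicGeometry Limits Opposite TopologicalSpace

namespace K405.AffCoeq

open AlgebraicGeometry.Scheme AlgebraicGeometry.Scheme.AffineZariskiSite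
open Groth.Agent.CohqB K405.AffHom

section alg

variable {A B A' B' : Type*} [CommRing A] [CommRing B] [CommRing A'] [CommRing B']
  (α β : A →+* B) (α' β' : A' →+* B') (ρ : A →+* A') (σ : B →+* B')

/-- Localization commutes with equalizers. -/
theorem isLocalization_eqLocus (h1 : ∀ x, α' (ρ x) = σ (α x)) (h2 : ∀ x, β' (ρ x) = σ (β x))
    (a : RingHom.eqLocus α β) (hu : IsUnit (ρ a)) (hs : ∀ z : A', ∃ (n : ℕ) (y : A), ρ a ^ n * z = ρ y)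
    (hi : ∀ x y : A, ρ x = ρ y → ∃ n : ℕ, (a : A) ^ n * x = (a : A) ^ n * y)
    (hi' : ∀ x y : B, σ x = σ y → ∃ n : ℕ, α a ^ n * x = α a ^ n * y)
    (τ : RingHom.eqLocus α β →+* RingHom.eqLocus α' β') (hτ : ∀ x, (τ x : A') = ρ x) :
    letI := τ.toAlgebra
    IsLocalization.Away a (RingHom.eqLocus α' β') := by
  let := τ.toAlgebra
  have ha : α a = β a := a.2
  constructor
  constructor
  · rintro ⟨_, n, rfl⟩
    change IsUnit (τ (a ^ n))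
    rw [map_pow]
    apply IsUnit.pow
    obtain ⟨c, hc⟩ := hu.exists_right_inv
    have hc1 : α' c = β' c := by
      have e1 : α' (ρ a) * α' c = 1 := by rw [← map_mul, hc, map_one]
      have e2 : β' (ρ a) * β' c = 1 := by rw [← map_mul, hc, map_one]
      have e3 : α' (ρ a) = β' (ρ a) := by rw [h1, h2, ha]
      rw [← e3] at e2
      calc α' c = (α' (ρ a) * β' c) * α' c := by rw [e2, one_mul]
        _ = (α' (ρ a) * α' c) * β' c := by ring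
        _ = β' c := by rw [e1, one_mul]
    refine IsUnit.of_mul_eq_one ⟨c, hc1⟩ ?_
    apply Subtype.ext
    change (τ a : A') * c = 1
    rw [hτ, hc]
  · intro z
    obtain ⟨n, y, hy⟩ := hs z.1
    have hz : α' z.1 = β' z.1 := z.2
    obtain ⟨l, hl⟩ := hi' (α y) (β y) (by
      rw [← h1, ← h2, ← hy, map_mul, map_mul, map_pow, map_pow, hz, h1, h2, ha])
    refine ⟨⟨⟨(a : A) ^ l * y, ?_⟩, ⟨a ^ (n + l), n + l, rfl⟩⟩, ?_⟩
    · change α _ = β _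
      rw [map_mul, map_mul, map_pow, map_pow, hl, ha]
    · apply Subtype.ext
      change z.1 * (τ (a ^ (n + l)) : A') = (τ _ : A')
      rw [hτ, hτ]
      change z.1 * ρ ((a : A) ^ (n + l)) = ρ ((a : A) ^ l * y)
      rw [map_pow, map_mul, map_pow, ← hy, pow_add]
      ring
  · intro x y hxy
    have hxy' : ρ x = ρ y := by
      rw [← hτ, ← hτ]
      exact congrArg Subtype.val hxy
    obtain ⟨n, hn⟩ := hi _ _ hxy'
    exact ⟨⟨a ^ n, n, rfl⟩, Subtype.ext hn⟩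

end alg

noncomputable section

variable {P R S : Scheme.{u}} (m p : P ⟶ R) (φ : R ⟶ S) (q : P ⟶ S) (hm : m ≫ φ = q) (hp : p ≫ φ = q)

/-- Sections `s` of `φ_* O_R` with `m^* s = p^* s`. -/
def inv (U : S.Opens) : Subring Γ(R, φ ⁻¹ᵁ U) :=
  RingHom.eqLocus (m.appLE (φ ⁻¹ᵁ U) (q ⁻¹ᵁ U) (pre_le hm U)).hom
    (p.appLE (φ ⁻¹ᵁ U) (q ⁻¹ᵁ U) (pre_le hp U)).hom

/-- restriction of sections along `f` -/
abbrev res {X Y : Scheme.{u}} (f : X ⟶ Y) {U V : Y.Opens} (h : U ≤ V) : Γ(X, f ⁻¹ᵁ V) ⟶ Γ(X, f ⁻¹ᵁ U) :=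
  X.presheaf.map (homOfLE (f.preimage_mono h)).op

theorem appLE_res {m : P ⟶ R} (hm : m ≫ φ = q) {U V : S.Opens} (h : U ≤ V) (x : Γ(R, φ ⁻¹ᵁ V)) :
    m.appLE (φ ⁻¹ᵁ U) (q ⁻¹ᵁ U) (pre_le hm U) (res φ h x) =
      res q h (m.appLE (φ ⁻¹ᵁ V) (q ⁻¹ᵁ V) (pre_le hm V) x) := by
  have h1 : res φ h ≫ m.appLE (φ ⁻¹ᵁ U) (q ⁻¹ᵁ U) (pre_le hm U) =
      m.appLE (φ ⁻¹ᵁ V) (q ⁻¹ᵁ V) (pre_le hm V) ≫ res q h := by
    rw [Scheme.Hom.map_appLE, Scheme.Hom.appLE_map]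
  exact congr(CommRingCat.Hom.hom $h1 x)

theorem res_mem {U V : S.Opens} (h : U ≤ V) (x : Γ(R, φ ⁻¹ᵁ V)) (hx : x ∈ inv m p φ q hm hp V) :
    res φ h x ∈ inv m p φ q hm hp U := by
  change m.appLE _ _ _ _ = p.appLE _ _ _ _
  rw [appLE_res φ q hm, appLE_res φ q hp]
  exact congrArg _ hx

theorem app_mem (U : S.Opens) (x : Γ(S, U)) : φ.app U x ∈ inv m p φ q hm hp U := by
  have h1 : φ.app U ≫ m.appLE (φ ⁻¹ᵁ U) (q ⁻¹ᵁ U) (pre_le hm U) = q.app U := by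
    rw [← Scheme.Hom.comp_appLE, appLE_congr_hom hm, Scheme.Hom.appLE_eq_app]
  have h2 : φ.app U ≫ p.appLE (φ ⁻¹ᵁ U) (q ⁻¹ᵁ U) (pre_le hp U) = q.app U := by
    rw [← Scheme.Hom.comp_appLE, appLE_congr_hom hp, Scheme.Hom.appLE_eq_app]
  change (φ.app U ≫ m.appLE (φ ⁻¹ᵁ U) (q ⁻¹ᵁ U) (pre_le hm U)) x =
    (φ.app U ≫ p.appLE (φ ⁻¹ᵁ U) (q ⁻¹ᵁ U) (pre_le hp U)) x
  rw [h1, h2]

/-- The presheaf of invariants. -/
def F : S.Opensᵒᵖ ⥤ CommRingCat.{u} where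
  obj U := .of (inv m p φ q hm hp U.unop)
  map {U V} i := CommRingCat.ofHom ((res φ i.unop.le).hom.restrict _ _
    fun x hx => res_mem m p φ q hm hp i.unop.le x hx)
  map_id U := by
    ext x
    change R.presheaf.map _ x.1 = x.1
    rw [show (homOfLE (φ.preimage_mono (𝟙 U : U ⟶ U).unop.le)).op = 𝟙 (op (φ ⁻¹ᵁ U.unop)) from rfl,
      CategoryTheory.Functor.map_id]
    rfl
  map_comp {U V W} i j := by
    ext x
    change R.presheaf.map _ x.1 = R.presheaf.map _ (R.presheaf.map _ x.1)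
    rw [← CommRingCat.comp_apply, ← Functor.map_comp]
    rfl

/-- The structure map. -/
def str : S.presheaf ⟶ F m p φ q hm hp where
  app U := CommRingCat.ofHom ((φ.app U.unop).hom.codRestrict (inv m p φ q hm hp U.unop)
    fun x => app_mem m p φ q hm hp U.unop x)
  naturality {U V} i := by
    ext x
    apply Subtype.ext
    exact congr(CommRingCat.Hom.hom $(φ.naturality i) x)

theorem coequifibered [QuasiCompact φ] [QuasiSeparated φ] [QuasiCompact q] [QuasiSeparated q] :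
    ((toOpensFunctor S).op.whiskerLeft (str m p φ q hm hp)).Coequifibered := by
  refine coequifibered_iff_forall_isLocalizationAway.mpr fun U r ↦ ?_
  have H1 := _root_.RelSpec.QCAlg.isQC_pushforward φ U.1 U.2 r
  have H2 := _root_.RelSpec.QCAlg.isQC_pushforward q U.1 U.2 r
  let i1 := (res φ (S.basicOpen_le r)).hom.toAlgebra
  let i2 := (res q (S.basicOpen_le r)).hom.toAlgebra
  replace H1 : IsLocalization.Away (φ.app U.1 r) Γ(R, φ ⁻¹ᵁ S.basicOpen r) := H1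
  replace H2 : IsLocalization.Away (q.app U.1 r) Γ(P, q ⁻¹ᵁ S.basicOpen r) := H2
  have hq : m.appLE (φ ⁻¹ᵁ U.1) (q ⁻¹ᵁ U.1) (pre_le hm U.1) (φ.app U.1 r) = q.app U.1 r := by
    have h1 : φ.app U.1 ≫ m.appLE (φ ⁻¹ᵁ U.1) (q ⁻¹ᵁ U.1) (pre_le hm U.1) = q.app U.1 := by
      rw [← Scheme.Hom.comp_appLE, appLE_congr_hom hm, Scheme.Hom.appLE_eq_app]
    exact congr(CommRingCat.Hom.hom $h1 r)
  refine isLocalization_eqLocus _ _ _ _ (res φ (S.basicOpen_le r)).hom (res q (S.basicOpen_le r)).hom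
    (fun x => appLE_res φ q hm (S.basicOpen_le r) x) (fun x => appLE_res φ q hp (S.basicOpen_le r) x)
    ⟨φ.app U.1 r, app_mem m p φ q hm hp U.1 r⟩ ?_ ?_ ?_ ?_ _ (fun x => rfl)
  · exact IsLocalization.Away.algebraMap_isUnit (φ.app U.1 r)
  · intro z
    obtain ⟨n, y, h⟩ := IsLocalization.Away.surj (φ.app U.1 r) z
    exact ⟨n, y, by rw [mul_comm]; exact h⟩
  · intro x y h
    exact IsLocalization.Away.exists_of_eq (φ.app U.1 r) h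
  · intro x y h
    have h2 := IsLocalization.Away.exists_of_eq (q.app U.1 r) h
    rw [← hq] at h2
    exact h2

/-- the comparison data -/
def data : RelSpec.LiftData ((toOpensFunctor S).op.whiskerLeft (str m p φ q hm hp)) φ where
  ψ U := CommRingCat.ofHom (inv m p φ q hm hp U.toOpens).subtype
  nat {U V} i := by
    ext x
    rfl
  comp U := by
    ext x
    rfl

theorem exists_coeq [QuasiCompact φ] [QuasiSeparated φ] [QuasiCompact q] [QuasiSeparated q] :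
    ∃ (C : Scheme.{u}) (f' : R ⟶ C) (π : C ⟶ S) (h : f' ≫ π = φ), IsAffineHom π ∧ m ≫ f' = p ≫ f' ∧
      (∀ U : S.Opens, IsAffineOpen U → Function.Injective (f'.appLE (π ⁻¹ᵁ U) (φ ⁻¹ᵁ U) (pre_le h U))) ∧
      (∀ U : S.Opens, IsAffineOpen U → ∀ s ∈ inv m p φ q hm hp U, ∃ t,
        f'.appLE (π ⁻¹ᵁ U) (φ ⁻¹ᵁ U) (pre_le h U) t = s) := by
  have H := coequifibered m p φ q hm hp
  have h1 : ∀ (U : S.Opens) (hU : IsAffineOpen U),
      (RelSpec.lift H (data m p φ q hm hp)).appLE (RelSpec.toBase H ⁻¹ᵁ U) (φ ⁻¹ᵁ U)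
        (pre_le (RelSpec.lift_toBase H _) U) = sec H ⟨U, hU⟩ ≫
          CommRingCat.ofHom (inv m p φ q hm hp U).subtype :=
    fun U hU => appLE_lift H (data m p φ q hm hp) ⟨U, hU⟩
  refine ⟨RelSpec.obj H, RelSpec.lift H (data m p φ q hm hp), RelSpec.toBase H, RelSpec.lift_toBase H _,
    inferInstance, ?_, ?_, ?_⟩
  · refine hom_ext (RelSpec.toBase H) _ _ q (by rw [Category.assoc, RelSpec.lift_toBase, hm])
      (by rw [Category.assoc, RelSpec.lift_toBase, hp]) fun U hU => ?_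
    have h2 := Scheme.Hom.appLE_comp_appLE m (RelSpec.lift H (data m p φ q hm hp))
      (RelSpec.toBase H ⁻¹ᵁ U) (φ ⁻¹ᵁ U) (q ⁻¹ᵁ U) (pre_le (RelSpec.lift_toBase H _) U) (pre_le hm U)
    have h3 := Scheme.Hom.appLE_comp_appLE p (RelSpec.lift H (data m p φ q hm hp))
      (RelSpec.toBase H ⁻¹ᵁ U) (φ ⁻¹ᵁ U) (q ⁻¹ᵁ U) (pre_le (RelSpec.lift_toBase H _) U) (pre_le hp U)
    rw [← h2, ← h3, h1 U hU, Category.assoc, Category.assoc]
    congr 1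
    ext x
    exact x.2
  · intro U hU
    rw [h1 U hU]
    change Function.Injective ((inv m p φ q hm hp U).subtype ∘ (sec H ⟨U, hU⟩))
    exact Function.Injective.comp Subtype.val_injective
      ((ConcreteCategory.isIso_iff_bijective (sec H ⟨U, hU⟩)).1 inferInstance).1
  · intro U hU s hs
    obtain ⟨t, ht⟩ := ((ConcreteCategory.isIso_iff_bijective (sec H ⟨U, hU⟩)).1 inferInstance).2 ⟨s, hs⟩
    refine ⟨t, ?_⟩
    rw [h1 U hU]
    change (inv m p φ q hm hp U).subtype (sec H ⟨U, hU⟩ t) = s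
    rw [ht]
    rfl

theorem appLE_mem {Z : Scheme.{u}} (ν : Z ⟶ S) (g : R ⟶ Z) (hg : g ≫ ν = φ) (hg' : m ≫ g = p ≫ g)
    (U : S.Opens) (x : Γ(Z, ν ⁻¹ᵁ U)) :
    g.appLE (ν ⁻¹ᵁ U) (φ ⁻¹ᵁ U) (pre_le hg U) x ∈ inv m p φ q hm hp U := by
  have h2 := Scheme.Hom.appLE_comp_appLE m g (ν ⁻¹ᵁ U) (φ ⁻¹ᵁ U) (q ⁻¹ᵁ U) (pre_le hg U) (pre_le hm U)
  have h3 := Scheme.Hom.appLE_comp_appLE p g (ν ⁻¹ᵁ U) (φ ⁻¹ᵁ U) (q ⁻¹ᵁ U) (pre_le hg U) (pre_le hp U)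
  rw [appLE_congr_hom hg', ← h3] at h2
  exact congr(CommRingCat.Hom.hom $h2 x)

/-- The universal property. -/
theorem existsUnique {C : Scheme.{u}} {f' : R ⟶ C} {π : C ⟶ S} (h : f' ≫ π = φ) (h' : m ≫ f' = p ≫ f')
    (hinj : ∀ U : S.Opens, IsAffineOpen U → Function.Injective (f'.appLE (π ⁻¹ᵁ U) (φ ⁻¹ᵁ U) (pre_le h U)))
    (hsurj : ∀ U : S.Opens, IsAffineOpen U → ∀ s ∈ inv m p φ q hm hp U, ∃ t,
        f'.appLE (π ⁻¹ᵁ U) (φ ⁻¹ᵁ U) (pre_le h U) t = s)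
    {Z : Scheme.{u}} (ν : Z ⟶ S) [IsAffineHom ν] (g : R ⟶ Z) (hg : g ≫ ν = φ) (hg' : m ≫ g = p ≫ g) :
    ∃! e : C ⟶ Z, f' ≫ e = g ∧ e ≫ ν = π := by
  have hmono : ∀ (U : S.Opens), IsAffineOpen U → ∀ {A : CommRingCat.{u}} (a b : A ⟶ Γ(C, π ⁻¹ᵁ U)),
      a ≫ f'.appLE (π ⁻¹ᵁ U) (φ ⁻¹ᵁ U) (pre_le h U) = b ≫ f'.appLE (π ⁻¹ᵁ U) (φ ⁻¹ᵁ U) (pre_le h U) →
        a = b := by
    intro U hU A a b hab
    ext x
    apply hinj U hU
    exact congr(CommRingCat.Hom.hom $hab x)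
  have key : ∀ U : S.Opens, IsAffineOpen U → ∃ θ : Γ(Z, ν ⁻¹ᵁ U) ⟶ Γ(C, π ⁻¹ᵁ U),
      θ ≫ f'.appLE (π ⁻¹ᵁ U) (φ ⁻¹ᵁ U) (pre_le h U) = g.appLE (ν ⁻¹ᵁ U) (φ ⁻¹ᵁ U) (pre_le hg U) := by
    intro U hU
    let w : Γ(C, π ⁻¹ᵁ U) ≃+* inv m p φ q hm hp U := RingEquiv.ofBijective
      ((f'.appLE (π ⁻¹ᵁ U) (φ ⁻¹ᵁ U) (pre_le h U)).hom.codRestrict (inv m p φ q hm hp U)
        (fun x => appLE_mem m p φ q hm hp π f' h h' U x))
      ⟨fun x y hxy => hinj U hU (congrArg Subtype.val hxy), fun s => by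
        obtain ⟨t, ht⟩ := hsurj U hU s.1 s.2
        exact ⟨t, Subtype.ext ht⟩⟩
    refine ⟨CommRingCat.ofHom (w.symm.toRingHom.comp ((g.appLE (ν ⁻¹ᵁ U) (φ ⁻¹ᵁ U)
      (pre_le hg U)).hom.codRestrict (inv m p φ q hm hp U)
        (fun x => appLE_mem m p φ q hm hp ν g hg hg' U x))), ?_⟩
    ext x
    exact congrArg Subtype.val (w.apply_symm_apply
      ⟨g.appLE (ν ⁻¹ᵁ U) (φ ⁻¹ᵁ U) (pre_le hg U) x, appLE_mem m p φ q hm hp ν g hg hg' U x⟩)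
  choose θ hθ using key
  obtain ⟨e, he, he'⟩ := exists_hom ν π (fun U => θ U.1 U.2) (fun {U V} i => by
    apply hmono U.1 U.2
    have e1 : res π (toOpens_mono i.le) ≫ f'.appLE (π ⁻¹ᵁ U.1) (φ ⁻¹ᵁ U.1) (pre_le h U.1) =
      f'.appLE (π ⁻¹ᵁ V.1) (φ ⁻¹ᵁ V.1) (pre_le h V.1) ≫ res φ (toOpens_mono i.le) := by
      rw [Scheme.Hom.map_appLE, Scheme.Hom.appLE_map]
    have e2 : res ν (toOpens_mono i.le) ≫ g.appLE (ν ⁻¹ᵁ U.1) (φ ⁻¹ᵁ U.1) (pre_le hg U.1) =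
      g.appLE (ν ⁻¹ᵁ V.1) (φ ⁻¹ᵁ V.1) (pre_le hg V.1) ≫ res φ (toOpens_mono i.le) := by
      rw [Scheme.Hom.map_appLE, Scheme.Hom.appLE_map]
    rw [Category.assoc, Category.assoc, hθ U.1 U.2]
    refine e2.trans (Eq.trans ?_ (congrArg (fun z => θ V.1 V.2 ≫ z) e1).symm)
    rw [← Category.assoc, hθ V.1 V.2]) (fun U => by
    apply hmono U.1 U.2
    rw [Category.assoc, hθ U.1 U.2]
    have e1 : ν.app U.1 ≫ g.appLE (ν ⁻¹ᵁ U.1) (φ ⁻¹ᵁ U.1) (pre_le hg U.1) = φ.app U.1 := by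
      rw [← Scheme.Hom.comp_appLE, appLE_congr_hom hg, Scheme.Hom.appLE_eq_app]
    have e2 : π.app U.1 ≫ f'.appLE (π ⁻¹ᵁ U.1) (φ ⁻¹ᵁ U.1) (pre_le h U.1) = φ.app U.1 := by
      rw [← Scheme.Hom.comp_appLE, appLE_congr_hom h, Scheme.Hom.appLE_eq_app]
    exact e1.trans e2.symm)
  refine ⟨e, ⟨?_, he⟩, ?_⟩
  · refine hom_ext ν _ _ φ (by rw [Category.assoc, he, h]) hg fun U hU => ?_
    have h2 := Scheme.Hom.appLE_comp_appLE f' e (ν ⁻¹ᵁ U) (π ⁻¹ᵁ U) (φ ⁻¹ᵁ U) (pre_le he U) (pre_le h U)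
    rw [← h2, ← hθ U hU]
    congr 1
    exact he' ⟨U, hU⟩
  · rintro e₁ ⟨h₁, h₁'⟩
    refine hom_ext ν _ _ π h₁' he fun U hU => ?_
    apply hmono U hU
    have h2 := Scheme.Hom.appLE_comp_appLE f' e₁ (ν ⁻¹ᵁ U) (π ⁻¹ᵁ U) (φ ⁻¹ᵁ U) (pre_le h₁' U) (pre_le h U)
    rw [h2, appLE_congr_hom h₁, ← hθ U hU]
    congr 1
    exact (he' ⟨U, hU⟩).symm

end

end K405.AffCoeq
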