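import Groth.Agent.CohqB.RelSpec
import Groth.Prelude.Def_RelSpec

/-!
# Morphisms to schemes affine over a base, in terms of sections over affine opens
-/

set_option autoImplicit false
universe u
open CategoryTheory AlgebraicGeometry Limits Opposite TopologicalSpace

namespace K405.AffHom

open AlgebraicGeometry.Scheme AlgebraicGeometry.Scheme.AffineZariskiSite
open Groth.Agent.CohqB

variable {T X Z S : Scheme.{u}}

/-- the open inclusion used in `appLE` -/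
theorem pre_le {π : X ⟶ S} {m : T ⟶ X} {t : T ⟶ S} (h : m ≫ π = t) (U : S.Opens) :
    t ⁻¹ᵁ U ≤ m ⁻¹ᵁ (π ⁻¹ᵁ U) := by
  rw [← h]; exact le_rfl

/-- Two morphisms over `S` to a scheme affine over `S` agree if they agree on sections over affine
opens. -/
theorem hom_ext (π : X ⟶ S) [IsAffineHom π] (m₁ m₂ : T ⟶ X) (t : T ⟶ S)
    (h₁ : m₁ ≫ π = t) (h₂ : m₂ ≫ π = t)
    (h : ∀ (U : S.Opens) (_ : IsAffineOpen U),
      m₁.appLE (π ⁻¹ᵁ U) (t ⁻¹ᵁ U) (pre_le h₁ U) = m₂.appLE (π ⁻¹ᵁ U) (t ⁻¹ᵁ U) (pre_le h₂ U)) :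
    m₁ = m₂ := by
  refine Scheme.Cover.hom_ext (T.openCoverOfIsOpenCover _
    (.comap (iSup_affineOpens_eq_top S) t.base.hom)) _ _ fun U ↦ ?_
  change (t ⁻¹ᵁ U.1).ι ≫ m₁ = (t ⁻¹ᵁ U.1).ι ≫ m₂
  rw [← Scheme.Hom.resLE_comp_ι m₁ (pre_le h₁ U.1), ← Scheme.Hom.resLE_comp_ι m₂ (pre_le h₂ U.1)]
  congr 1
  have : IsAffine (π ⁻¹ᵁ U.1).toScheme := U.2.preimage π
  apply ext_of_isAffine
  rw [Scheme.Hom.appTop, Scheme.Hom.resLE_app_top, Scheme.Hom.appTop, Scheme.Hom.resLE_app_top, h U.1 U.2]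

section chart

variable {F : X.AffineZariskiSiteᵒᵖ ⥤ CommRingCat.{u}}
  {α : (Scheme.AffineZariskiSite.toOpensFunctor X).op ⋙ X.presheaf ⟶ F} (H : α.Coequifibered)

theorem top_le (U : X.AffineZariskiSite) :
    (⊤ : (Spec (F.obj (op U))).Opens) ≤ RelSpec.ι H U ⁻¹ᵁ (RelSpec.toBase H ⁻¹ᵁ U.toOpens) := by
  rw [← Scheme.Hom.comp_preimage, RelSpec.ι_toBase, Scheme.Hom.comp_preimage,
    (RelSpec.isAff U).fromSpec_preimage_self]
  exact le_top

/-- Sections of the relative spectrum over the preimage of an affine open. -/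
noncomputable def sec (U : X.AffineZariskiSite) :
    Γ(RelSpec.obj H, RelSpec.toBase H ⁻¹ᵁ U.toOpens) ⟶ F.obj (op U) :=
  (RelSpec.ι H U).appLE (RelSpec.toBase H ⁻¹ᵁ U.toOpens) ⊤ (top_le H U) ≫ (Scheme.ΓSpecIso (F.obj (op U))).hom

instance isIso_sec (U : X.AffineZariskiSite) : IsIso (sec H U) := by
  have h1 : IsIso ((RelSpec.ι H U).appLE (RelSpec.toBase H ⁻¹ᵁ U.toOpens) ⊤ (top_le H U)) := by
    have h2 : IsIso ((RelSpec.ι H U).app (RelSpec.toBase H ⁻¹ᵁ U.toOpens)) :=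
      Scheme.Hom.isIso_app _ _ (by rw [RelSpec.preimage])
    have h3 : (⊤ : (Spec (F.obj (op U))).Opens) = RelSpec.ι H U ⁻¹ᵁ (RelSpec.toBase H ⁻¹ᵁ U.toOpens) :=
      le_antisymm (top_le H U) le_top
    rw [Scheme.Hom.appLE]
    have h4 : IsIso ((Spec (F.obj (op U))).presheaf.map (homOfLE (top_le H U)).op) := by
      have : homOfLE (top_le H U) = eqToHom h3 := rfl
      rw [this]
      infer_instance
    infer_instance
  rw [sec]
  infer_instance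

theorem appLE_congr_hom {X Y : Scheme.{u}} {f g : X ⟶ Y} (h : f = g) (U : Y.Opens) (V : X.Opens)
    (e : V ≤ f ⁻¹ᵁ U) : f.appLE U V e = g.appLE U V (h ▸ e) := by
  subst h; rfl

theorem appLE_lift {T : Scheme.{u}} {g : T ⟶ X} (d : RelSpec.LiftData α g) (U : X.AffineZariskiSite) :
    (RelSpec.lift H d).appLE (RelSpec.toBase H ⁻¹ᵁ U.toOpens) (g ⁻¹ᵁ U.toOpens)
      (pre_le (RelSpec.lift_toBase H d) _) = sec H U ≫ d.ψ U := by
  have e0 : (⊤ : (g ⁻¹ᵁ U.toOpens).toScheme.Opens) ≤ ((g ⁻¹ᵁ U.toOpens).ι ≫ RelSpec.lift H d) ⁻¹ᵁ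
      (RelSpec.toBase H ⁻¹ᵁ U.toOpens) := by
    rw [← Scheme.Hom.comp_preimage, Category.assoc, RelSpec.lift_toBase, Scheme.Hom.comp_preimage]
    simp
  have h1 := appLE_congr_hom (RelSpec.ι_lift H d U) (RelSpec.toBase H ⁻¹ᵁ U.toOpens) ⊤ e0
  have h2 := Scheme.Hom.appLE_comp_appLE (g ⁻¹ᵁ U.toOpens).ι (RelSpec.lift H d)
    (RelSpec.toBase H ⁻¹ᵁ U.toOpens) (g ⁻¹ᵁ U.toOpens) ⊤ (pre_le (RelSpec.lift_toBase H d) _) (by simp)
  have h3 := Scheme.Hom.appLE_comp_appLE ((g ⁻¹ᵁ U.toOpens).toSpecΓ ≫ Spec.map (d.ψ U)) (RelSpec.ι H U)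
    (RelSpec.toBase H ⁻¹ᵁ U.toOpens) ⊤ ⊤ (top_le H U) le_top
  have h4 : ((g ⁻¹ᵁ U.toOpens).toSpecΓ ≫ Spec.map (d.ψ U)).appLE ⊤ ⊤ le_top =
      (Scheme.ΓSpecIso (F.obj (op U))).hom ≫ d.ψ U ≫ (g ⁻¹ᵁ U.toOpens).topIso.inv := by
    have h5 : ((g ⁻¹ᵁ U.toOpens).toSpecΓ ≫ Spec.map (d.ψ U)).appLE ⊤ ⊤ le_top =
      ((g ⁻¹ᵁ U.toOpens).toSpecΓ ≫ Spec.map (d.ψ U)).appTop := Scheme.Hom.appLE_eq_app _
    rw [h5, Scheme.Hom.comp_appTop, Scheme.Opens.toSpecΓ_appTop, Scheme.ΓSpecIso_naturality_assoc]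
  rw [← cancel_mono (g ⁻¹ᵁ U.toOpens).topIso.inv]
  have h6 : (g ⁻¹ᵁ U.toOpens).ι.appLE (g ⁻¹ᵁ U.toOpens) ⊤ (by simp) = (g ⁻¹ᵁ U.toOpens).topIso.inv := by
    rw [Scheme.Opens.ι_appLE]
    rfl
  rw [h6] at h2
  rw [h2, h1, sec, Category.assoc, Category.assoc, ← h4]
  rw [h3]
  congr 1

theorem app_toBase_sec (U : X.AffineZariskiSite) :
    (RelSpec.toBase H).app U.toOpens ≫ sec H U = RelSpec.str α U := by
  have h1 := appLE_congr_hom (RelSpec.ι_toBase H U) U.toOpens ⊤ (by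
    rw [Scheme.Hom.comp_preimage]; exact top_le H U)
  have h2 : (Spec.map (RelSpec.str α U) ≫ (RelSpec.isAff U).fromSpec).appLE U.toOpens ⊤
      (RelSpec.ι_toBase H U ▸ (by rw [Scheme.Hom.comp_preimage]; exact top_le H U)) =
      (Scheme.ΓSpecIso _).inv ≫ (Spec.map (RelSpec.str α U)).appTop := by
    rw [Scheme.Hom.comp_appLE, (RelSpec.isAff U).fromSpec_app_self, Category.assoc,
      Scheme.Hom.map_appLE]
    congr 1
  rw [h2, ← Scheme.ΓSpecIso_inv_naturality] at h1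
  rw [sec, ← Category.assoc, ← Scheme.Hom.comp_appLE, h1, Category.assoc, Iso.inv_hom_id,
    Category.comp_id]

/-- naturality of `sec` -/
theorem sec_naturality {U V : X.AffineZariskiSite} (i : U ⟶ V) :
    (RelSpec.obj H).presheaf.map (homOfLE ((RelSpec.toBase H).preimage_mono (toOpens_mono i.le))).op ≫
      sec H U = sec H V ≫ F.map i.op := by
  have h1 := Scheme.Hom.appLE_comp_appLE (Spec.map (F.map i.op)) (RelSpec.ι H V)
    (RelSpec.toBase H ⁻¹ᵁ V.toOpens) ⊤ ⊤ (top_le H V) le_top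
  have h2 : (Spec.map (F.map i.op)).appLE ⊤ ⊤ le_top = (Spec.map (F.map i.op)).appTop :=
    Scheme.Hom.appLE_eq_app _
  rw [appLE_congr_hom (RelSpec.ι_map H i), h2] at h1
  rw [sec, sec, Category.assoc, ← Scheme.ΓSpecIso_naturality, ← Category.assoc, ← Category.assoc, h1,
    Scheme.Hom.map_appLE]

end chart

/-- Morphisms over `X` to a scheme affine over `X`, from compatible ring maps. -/
theorem exists_hom (ν : Z ⟶ X) [IsAffineHom ν] (t : T ⟶ X)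
    (θ : ∀ U : X.AffineZariskiSite, Γ(Z, ν ⁻¹ᵁ U.toOpens) ⟶ Γ(T, t ⁻¹ᵁ U.toOpens))
    (nat : ∀ {U V : X.AffineZariskiSite} (i : U ⟶ V),
      Z.presheaf.map (homOfLE (ν.preimage_mono (toOpens_mono i.le))).op ≫ θ U =
        θ V ≫ T.presheaf.map (homOfLE (t.preimage_mono (toOpens_mono i.le))).op)
    (comp : ∀ U : X.AffineZariskiSite, ν.app U.toOpens ≫ θ U = t.app U.toOpens) :
    ∃ (h : T ⟶ Z) (e : h ≫ ν = t), ∀ U : X.AffineZariskiSite,
      h.appLE (ν ⁻¹ᵁ U.toOpens) (t ⁻¹ᵁ U.toOpens) (pre_le e _) = θ U := by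
  have H := (_root_.RelSpec.QCAlg.directImage ν).coequifibered
  let d0 : RelSpec.LiftData ((Scheme.AffineZariskiSite.toOpensFunctor X).op.whiskerLeft
      (_root_.RelSpec.QCAlg.directImage ν).str) ν :=
    { ψ := fun U => 𝟙 Γ(Z, ν ⁻¹ᵁ U.toOpens)
      nat := fun {U V} i => by
        have h1 : Z.presheaf.map (homOfLE (ν.preimage_mono (toOpens_mono i.le))).op ≫ 𝟙 Γ(Z, ν ⁻¹ᵁ U.toOpens) =
          𝟙 Γ(Z, ν ⁻¹ᵁ V.toOpens) ≫ Z.presheaf.map (homOfLE (ν.preimage_mono (toOpens_mono i.le))).op := by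
          rw [Category.comp_id, Category.id_comp]
        exact h1
      comp := fun U => Category.comp_id _ }
  let d : RelSpec.LiftData ((Scheme.AffineZariskiSite.toOpensFunctor X).op.whiskerLeft
      (_root_.RelSpec.QCAlg.directImage ν).str) t :=
    { ψ := θ
      nat := fun {U V} i => nat i
      comp := comp }
  have h0 : IsIso (RelSpec.lift H d0) := by
    apply RelSpec.isIso_lift
    intro U
    exact Function.bijective_id
  have e : (RelSpec.lift H d ≫ inv (RelSpec.lift H d0)) ≫ ν = t := by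
    rw [Category.assoc]
    have : inv (RelSpec.lift H d0) ≫ ν = RelSpec.toBase H := by
      rw [IsIso.inv_comp_eq, RelSpec.lift_toBase]
    rw [this, RelSpec.lift_toBase]
  refine ⟨_, e, fun U => ?_⟩
  have h1 : (RelSpec.lift H d ≫ inv (RelSpec.lift H d0)) ≫ RelSpec.lift H d0 = RelSpec.lift H d := by
    rw [Category.assoc, IsIso.inv_hom_id, Category.comp_id]
  have h2 := appLE_lift H d U
  have h3 := appLE_lift H d0 U
  have h4 := Scheme.Hom.appLE_comp_appLE (RelSpec.lift H d ≫ inv (RelSpec.lift H d0)) (RelSpec.lift H d0)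
    (RelSpec.toBase H ⁻¹ᵁ U.toOpens) (ν ⁻¹ᵁ U.toOpens) (t ⁻¹ᵁ U.toOpens)
    (pre_le (RelSpec.lift_toBase H d0) _) (pre_le e _)
  rw [appLE_congr_hom h1, h2, h3] at h4
  have h5 : sec H U ≫ d0.ψ U = sec H U := Category.comp_id _
  rw [h5] at h4
  exact (cancel_epi (sec H U)).1 h4

end K405.AffHom
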