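import Groth.Agent.AlgGrp.K405.Torsor
import Mathlib.CategoryTheory.Monoidal.Cartesian.Grp
import Mathlib.AlgebraicGeometry.Morphisms.Separated

/-!
# Associated bundles: the basic cartesian squares
-/

set_option autoImplicit false
universe v u
open CategoryTheory MonoidalCategory CartesianMonoidalCategory MonObj AlgebraicGeometry Limits

namespace K405.AssocBundle

variable {S : Scheme.{u}} {G H : Over S} [GrpObj G] [GrpObj H] (j : H ⟶ G)

/-- The action map on `G × X` in components. -/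
theorem act_eq {X : Over S} (aX : AlgGrp.Action H X) (b : AlgGrp.Action H (G ⊗ X))
    (hb : ∀ (T : Over S) (h : T ⟶ H) (g : T ⟶ G) (x : T ⟶ X),
      lift h (lift g x) ≫ b.act = lift (g * (h ≫ j)⁻¹) (lift h x ≫ aX.act)) :
    b.act = lift ((snd H (G ⊗ X) ≫ fst G X) * (fst H (G ⊗ X) ≫ j)⁻¹)
      (lift (fst H (G ⊗ X)) (snd H (G ⊗ X) ≫ snd G X) ≫ aX.act) := by
  rw [← hb]
  have : lift (fst H (G ⊗ X)) (lift (snd H (G ⊗ X) ≫ fst G X) (snd H (G ⊗ X) ≫ snd G X)) = 𝟙 _ := by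
    ext <;> simp
  rw [this, Category.id_comp]

theorem act_comp_fst {X : Over S} (aX : AlgGrp.Action H X) (b : AlgGrp.Action H (G ⊗ X))
    (hb : ∀ (T : Over S) (h : T ⟶ H) (g : T ⟶ G) (x : T ⟶ X),
      lift h (lift g x) ≫ b.act = lift (g * (h ≫ j)⁻¹) (lift h x ≫ aX.act))
    (r : AlgGrp.Action H G) (hr : ∀ (T : Over S) (h : T ⟶ H) (g : T ⟶ G),
      lift h g ≫ r.act = g * (h ≫ j)⁻¹) :
    b.act ≫ fst G X = (H ◁ fst G X) ≫ r.act := by
  rw [act_eq j aX b hb, lift_fst, ← hr]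
  congr 1

theorem act_comp_map {X Y : Over S} (aX : AlgGrp.Action H X) (aY : AlgGrp.Action H Y)
    (b : AlgGrp.Action H (G ⊗ X))
    (hb : ∀ (T : Over S) (h : T ⟶ H) (g : T ⟶ G) (x : T ⟶ X),
      lift h (lift g x) ≫ b.act = lift (g * (h ≫ j)⁻¹) (lift h x ≫ aX.act))
    (c : AlgGrp.Action H (G ⊗ Y))
    (hc : ∀ (T : Over S) (h : T ⟶ H) (g : T ⟶ G) (x : T ⟶ Y),
      lift h (lift g x) ≫ c.act = lift (g * (h ≫ j)⁻¹) (lift h x ≫ aY.act))
    (i : X ⟶ Y) (hi : aX.act ≫ i = (H ◁ i) ≫ aY.act) :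
    b.act ≫ (G ◁ i) = (H ◁ (G ◁ i)) ≫ c.act := by
  rw [act_eq j aX b hb, act_eq j aY c hc]
  ext1
  · simp [MonObj.comp_mul, GrpObj.comp_inv]
  · simp only [Category.assoc, whiskerLeft_snd, lift_snd_assoc, lift_snd, hi]
    simp only [← Category.assoc]
    congr 1
    ext <;> simp

/-- The square `G × X ⟶ G`, `G_H(X) ⟶ G/H` is cartesian. -/
theorem isPullback_fst {B X QX : Over S} (r : AlgGrp.Action H G)
    (hr : ∀ (T : Over S) (h : T ⟶ H) (g : T ⟶ G), lift h g ≫ r.act = g * (h ≫ j)⁻¹)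
    (π : G ⟶ B) (hπ : GIT.IsInvariant r π) [IsIso (GIT.PsiY r π hπ)]
    (aX : AlgGrp.Action H X) (b : AlgGrp.Action H (G ⊗ X))
    (hb : ∀ (T : Over S) (h : T ⟶ H) (g : T ⟶ G) (x : T ⟶ X),
      lift h (lift g x) ≫ b.act = lift (g * (h ≫ j)⁻¹) (lift h x ≫ aX.act))
    (qX : G ⊗ X ⟶ QX) (hq : GIT.IsInvariant b qX) [IsIso (GIT.PsiY b qX hq)]
    [Flat qX.left] [Surjective qX.left] [QuasiCompact qX.left]
    (pX : QX ⟶ B) (hp : qX ≫ pX = fst G X ≫ π) :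
    IsPullback (fst G X).left qX.left π.left pX.left :=
  K405.Torsor.isPullback_of_equivariant b r qX π hq hπ (fst G X) pX
    (act_comp_fst j aX b hb r hr) hp

/-- The square `G × X ⟶ G × Y`, `G_H(X) ⟶ G_H(Y)` attached to an equivariant morphism is cartesian. -/
theorem isPullback_map {X Y QX QY : Over S}
    (aX : AlgGrp.Action H X) (aY : AlgGrp.Action H Y) (b : AlgGrp.Action H (G ⊗ X))
    (hb : ∀ (T : Over S) (h : T ⟶ H) (g : T ⟶ G) (x : T ⟶ X),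
      lift h (lift g x) ≫ b.act = lift (g * (h ≫ j)⁻¹) (lift h x ≫ aX.act))
    (c : AlgGrp.Action H (G ⊗ Y))
    (hc : ∀ (T : Over S) (h : T ⟶ H) (g : T ⟶ G) (x : T ⟶ Y),
      lift h (lift g x) ≫ c.act = lift (g * (h ≫ j)⁻¹) (lift h x ≫ aY.act))
    (i : X ⟶ Y) (hi : aX.act ≫ i = (H ◁ i) ≫ aY.act)
    (qX : G ⊗ X ⟶ QX) (hqX : GIT.IsInvariant b qX) [IsIso (GIT.PsiY b qX hqX)]
    [Flat qX.left] [Surjective qX.left] [QuasiCompact qX.left]
    (qY : G ⊗ Y ⟶ QY) (hqY : GIT.IsInvariant c qY) [IsIso (GIT.PsiY c qY hqY)]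
    (m : QX ⟶ QY) (hm : qX ≫ m = (G ◁ i) ≫ qY) :
    IsPullback (G ◁ i).left qX.left qY.left m.left :=
  K405.Torsor.isPullback_of_equivariant b c qX qY hqX hqY (G ◁ i) m
    (act_comp_map j aX aY b hb c hc i hi) hm

/-- `G × (X × Y)` is the fibre product of `G × X` and `G × Y` over `G`. -/
theorem isPullback_prod (G X Y : Over S) :
    IsPullback (G ◁ fst X Y).left (G ◁ snd X Y).left (fst G X).left (fst G Y).left := by
  have h : IsPullback (G ◁ fst X Y) (G ◁ snd X Y) (fst G X) (fst G Y) := by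
    refine ⟨⟨by simp⟩, ⟨PullbackCone.IsLimit.mk _
      (fun s => lift (s.fst ≫ fst G X) (lift (s.fst ≫ snd G X) (s.snd ≫ snd G Y))) ?_ ?_ ?_⟩⟩
    · intro s
      ext1 <;> simp
    · intro s
      ext1
      · simp [s.condition]
      · simp
    · intro s m h1 h2
      ext1
      · rw [← h1]; simp
      · ext1
        · rw [← h1]; simp
        · rw [← h2]; simp
  exact h.map (Over.forget S)

/-- `G_H(X × Y) = G_H(X) ×_{G/H} G_H(Y)`. -/
theorem isPullback_prod_bundle {B X Y QX QY QXY : Over S} (r : AlgGrp.Action H G)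
    (hr : ∀ (T : Over S) (h : T ⟶ H) (g : T ⟶ G), lift h g ≫ r.act = g * (h ≫ j)⁻¹)
    (π : G ⟶ B) (hπ : GIT.IsInvariant r π) [IsIso (GIT.PsiY r π hπ)]
    (aX : AlgGrp.Action H X) (aY : AlgGrp.Action H Y)
    (b : AlgGrp.Action H (G ⊗ X))
    (hb : ∀ (T : Over S) (h : T ⟶ H) (g : T ⟶ G) (x : T ⟶ X),
      lift h (lift g x) ≫ b.act = lift (g * (h ≫ j)⁻¹) (lift h x ≫ aX.act))
    (c : AlgGrp.Action H (G ⊗ Y))
    (hc : ∀ (T : Over S) (h : T ⟶ H) (g : T ⟶ G) (x : T ⟶ Y),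
      lift h (lift g x) ≫ c.act = lift (g * (h ≫ j)⁻¹) (lift h x ≫ aY.act))
    (d : AlgGrp.Action H (G ⊗ (X ⊗ Y)))
    (hd : ∀ (T : Over S) (h : T ⟶ H) (g : T ⟶ G) (x : T ⟶ X) (y : T ⟶ Y),
      lift h (lift g (lift x y)) ≫ d.act = lift (g * (h ≫ j)⁻¹) (lift (lift h x ≫ aX.act) (lift h y ≫ aY.act)))
    (qX : G ⊗ X ⟶ QX) (hqX : GIT.IsInvariant b qX) [IsIso (GIT.PsiY b qX hqX)]
    [Flat qX.left] [Surjective qX.left] [QuasiCompact qX.left]
    (qY : G ⊗ Y ⟶ QY) (hqY : GIT.IsInvariant c qY) [IsIso (GIT.PsiY c qY hqY)]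
    [Flat qY.left] [Surjective qY.left] [QuasiCompact qY.left]
    (qXY : G ⊗ (X ⊗ Y) ⟶ QXY) (hqXY : GIT.IsInvariant d qXY) [IsIso (GIT.PsiY d qXY hqXY)]
    [Flat qXY.left] [Surjective qXY.left] [QuasiCompact qXY.left]
    (pX : QX ⟶ B) (hpX : qX ≫ pX = fst G X ≫ π) (pY : QY ⟶ B) (hpY : qY ≫ pY = fst G Y ≫ π)
    (fX : QXY ⟶ QX) (hfX : qXY ≫ fX = (G ◁ fst X Y) ≫ qX)
    (fY : QXY ⟶ QY) (hfY : qXY ≫ fY = (G ◁ snd X Y) ≫ qY) (w : fX ≫ pX = fY ≫ pY) :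
    IsPullback fX.left fY.left pX.left pY.left := by
  have hd' : d.act = lift ((snd H (G ⊗ (X ⊗ Y)) ≫ fst G (X ⊗ Y)) * (fst H (G ⊗ (X ⊗ Y)) ≫ j)⁻¹)
      (lift (lift (fst H (G ⊗ (X ⊗ Y))) (snd H (G ⊗ (X ⊗ Y)) ≫ snd G (X ⊗ Y) ≫ fst X Y) ≫ aX.act)
        (lift (fst H (G ⊗ (X ⊗ Y))) (snd H (G ⊗ (X ⊗ Y)) ≫ snd G (X ⊗ Y) ≫ snd X Y) ≫ aY.act)) := by
    rw [← hd]
    have : lift (fst H (G ⊗ (X ⊗ Y))) (lift (snd H (G ⊗ (X ⊗ Y)) ≫ fst G (X ⊗ Y))
      (lift (snd H (G ⊗ (X ⊗ Y)) ≫ snd G (X ⊗ Y) ≫ fst X Y)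
        (snd H (G ⊗ (X ⊗ Y)) ≫ snd G (X ⊗ Y) ≫ snd X Y))) = 𝟙 _ := by
      ext <;> simp
    rw [this, Category.id_comp]
  have e2 : d.act ≫ (G ◁ snd X Y) = (H ◁ (G ◁ snd X Y)) ≫ c.act := by
    rw [hd', act_eq j aY c hc]
    ext1
    · simp [MonObj.comp_mul, GrpObj.comp_inv]
    · simp only [Category.assoc, whiskerLeft_snd, lift_snd_assoc, lift_snd]
      simp only [← Category.assoc]
      congr 1
      ext <;> simp
  have h1 : IsPullback (G ◁ snd X Y).left qXY.left qY.left fY.left :=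
    K405.Torsor.isPullback_of_equivariant d c qXY qY hqXY hqY (G ◁ snd X Y) fY e2 hfY
  have h2 : IsPullback (fst G X).left qX.left π.left pX.left :=
    isPullback_fst j r hr π hπ aX b hb qX hqX pX hpX
  have h3 := (isPullback_prod G X Y).paste_horiz h2.flip
  refine K405.Torsor.isPullback_right_of_descends (@Surjective ⊓ @Flat ⊓ @QuasiCompact) h1.flip ?_ ?_
    ⟨⟨inferInstance, inferInstance⟩, inferInstance⟩
  · rw [← Over.comp_left, hfX, ← Over.comp_left, hpY, Over.comp_left, Over.comp_left]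
    exact h3
  · rw [← Over.comp_left, ← Over.comp_left, w]

/-- A morphism over `Spec k` from a quasi-compact object to a separated one is quasi-compact. -/
theorem quasiCompact_left {X Y : Over S} (f : X ⟶ Y) [QuasiCompact X.hom] [IsSeparated Y.hom] :
    QuasiCompact f.left := by
  have : QuasiCompact (f.left ≫ Y.hom) := by rw [Over.w]; infer_instance
  exact QuasiCompact.of_comp f.left Y.hom

instance quasiCompact_tensor {X Y : Over S} [QuasiCompact X.hom] [QuasiCompact Y.hom] :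
    QuasiCompact (X ⊗ Y).hom := by
  change QuasiCompact (pullback.fst X.hom Y.hom ≫ X.hom)
  infer_instance

end K405.AssocBundle
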