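import Groth.Agent.CAlg.K82.ArtinFlat
import Mathlib.RingTheory.Flat.Basic
import Mathlib.RingTheory.RingHom.Flat
import Mathlib.RingTheory.Ideal.Colon
import Mathlib.RingTheory.Ideal.MinimalPrime.Localization
import Mathlib.RingTheory.Noetherian.Basic

/-!
# Dévissage for invariants of a family of pairs of flat ring maps

`α j, β j : C → D j` are flat ring homomorphisms agreeing on `A`.  For a stable ideal `J`
(`J D = D J`), `E J` is the module of elements of `C` invariant modulo `J`.  If `E J` is bounded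
modulo `J` whenever all the elements of `E J` outside `J` are nonzerodivisors modulo `J`, then it is
bounded for all stable `J`.
-/

set_option autoImplicit false

namespace K405.Devissage

variable {A C : Type*} [CommRing A] [CommRing C] [Algebra A C]

/-- `M` is contained in a finitely generated submodule modulo `J`. -/
def Bdd (M : Submodule A C) (J : Ideal C) : Prop :=
  ∃ t : Submodule A C, t.FG ∧ M ≤ t ⊔ J.restrictScalars A

/-- The quotient map as a linear map. -/
abbrev qk (A : Type*) [CommRing A] [Algebra A C] (J : Ideal C) : C →ₗ[A] C ⧸ J :=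
  (Ideal.Quotient.mkₐ A J).toLinearMap

lemma qk_eq_iff (J : Ideal C) (x y : C) : qk A J x = qk A J y ↔ x - y ∈ J :=
  Ideal.Quotient.eq

/-- lifting generators -/
lemma exists_fg_le {M : Submodule A C} {J : Ideal C} (h : (M.map (qk A J)).FG) :
    ∃ t : Submodule A C, t ≤ M ∧ t.FG ∧ M ≤ t ⊔ J.restrictScalars A := by
  classical
  obtain ⟨S, hS⟩ := h
  have hS' : (S : Set (C ⧸ J)) ⊆ qk A J '' (M : Set C) := by
    rw [← Submodule.map_coe, ← hS]
    exact Submodule.subset_span
  obtain ⟨s', hs', hs''⟩ := Finset.subset_set_image_iff.1 hS'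
  refine ⟨Submodule.span A s', Submodule.span_le.2 hs', ⟨s', rfl⟩, fun m hm => ?_⟩
  have h1 : qk A J m ∈ (Submodule.span A (s' : Set C)).map (qk A J) := by
    rw [Submodule.map_span, ← Finset.coe_image, hs'', hS]
    exact ⟨m, hm, rfl⟩
  obtain ⟨x, hx, hxm⟩ := h1
  rw [eq_comm, qk_eq_iff] at hxm
  rw [show m = x + (m - x) by ring]
  exact Submodule.add_mem_sup hx hxm

lemma bdd_iff [IsNoetherianRing A] {M : Submodule A C} {J : Ideal C} : Bdd M J ↔ (M.map (qk A J)).FG := by
  constructor
  · rintro ⟨t, ht, hM⟩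
    have h1 : M.map (qk A J) ≤ t.map (qk A J) := by
      rintro _ ⟨m, hm, rfl⟩
      obtain ⟨x, hx, y, hy, hxy⟩ := Submodule.mem_sup.1 (hM hm)
      refine ⟨x, hx, ?_⟩
      rw [eq_comm, qk_eq_iff, ← hxy]
      simpa using hy
    exact (isNoetherian_submodule.1 (isNoetherian_of_fg_of_noetherian _ (ht.map _))) _ h1
  · intro h
    obtain ⟨t, -, ht, hM⟩ := exists_fg_le h
    exact ⟨t, ht, hM⟩

lemma Bdd.mono {M M' : Submodule A C} {J : Ideal C} (h : Bdd M' J) (hM : M ≤ M') : Bdd M J := by
  obtain ⟨t, ht, ht'⟩ := h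
  exact ⟨t, ht, hM.trans ht'⟩

lemma bdd_self {M : Submodule A C} {J : Ideal C} (h : M ≤ J.restrictScalars A) : Bdd M J :=
  ⟨⊥, Submodule.fg_bot, by simpa using h⟩

lemma bdd_trans [IsNoetherianRing A] {M : Submodule A C} {I J : Ideal C} (h1 : Bdd M I)
    (h2 : Bdd (M ⊓ I.restrictScalars A) J) : Bdd M J := by
  obtain ⟨t, htM, ht, hM⟩ := exists_fg_le (bdd_iff.1 h1)
  obtain ⟨t', ht', hM'⟩ := h2
  refine ⟨t ⊔ t', ht.sup ht', fun m hm => ?_⟩
  obtain ⟨x, hx, y, hy, rfl⟩ := Submodule.mem_sup.1 (hM hm)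
  have hyM : y ∈ M := by
    have := M.sub_mem hm (htM hx)
    simpa using this
  obtain ⟨x', hx', z, hz, rfl⟩ := Submodule.mem_sup.1 (hM' ⟨hyM, hy⟩)
  rw [← add_assoc]
  exact Submodule.add_mem_sup (Submodule.add_mem_sup hx hx') hz

section colon

variable {D : Type*} [CommRing D]

lemma mem_colon' {J : Ideal C} {s c : C} : c ∈ J.colon {s} ↔ c * s ∈ J := by
  rw [Submodule.mem_colon_singleton, smul_eq_mul]

/-- Flatness and colon ideals. -/
lemma mem_map_colon (φ : C →+* D) (hφ : φ.Flat) {J : Ideal C} {s : C} {d : D} (h : φ s * d ∈ J.map φ) :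
    d ∈ (J.colon {s}).map φ := by
  algebraize [φ]
  have h1 : s • d ∈ J • (⊤ : Submodule C D) := by
    rw [Algebra.smul_def s d]
    have h2 : φ s * d ∈ (J.map (algebraMap C D)).restrictScalars C := h
    rw [← Ideal.smul_top_eq_map] at h2
    exact h2
  have h3 := K82.ArtinFlat.mem_colon_smul_top h1
  rw [Ideal.smul_top_eq_map] at h3
  exact h3

end colon

variable {ι : Type*} {D : ι → Type*} [∀ j, CommRing (D j)] (α β : ∀ j, C →+* D j)

/-- Stable ideals. -/
def Stable (J : Ideal C) : Prop := ∀ j, J.map (α j) = J.map (β j)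

variable (hA : ∀ j a, α j (algebraMap A C a) = β j (algebraMap A C a))

/-- Elements invariant modulo `J`. -/
def E (J : Ideal C) : Submodule A C where
  carrier := {s | ∀ j, α j s - β j s ∈ J.map (α j)}
  add_mem' {s t} hs ht j := by
    rw [map_add, map_add, add_sub_add_comm]
    exact Ideal.add_mem _ (hs j) (ht j)
  zero_mem' j := by
    rw [map_zero, map_zero, sub_zero]
    exact Ideal.zero_mem _
  smul_mem' a s hs j := by
    rw [Algebra.smul_def, map_mul, map_mul, ← hA, ← mul_sub]
    exact Ideal.mul_mem_left _ _ (hs j)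

variable {α β}

omit hA in
lemma mem_E {hA : ∀ j a, α j (algebraMap A C a) = β j (algebraMap A C a)} {J : Ideal C} {s : C} :
    s ∈ E α β hA J ↔ ∀ j, α j s - β j s ∈ J.map (α j) := Iff.rfl

lemma le_E {J : Ideal C} (hJ : Stable α β J) : J.restrictScalars A ≤ E α β hA J := fun _ hs j =>
  Ideal.sub_mem _ (Ideal.mem_map_of_mem _ hs) (by rw [hJ]; exact Ideal.mem_map_of_mem _ hs)

lemma E_mono {J J' : Ideal C} (h : J ≤ J') : E α β hA J ≤ E α β hA J' := fun s hs j =>
  Ideal.map_mono h (hs j)

lemma stable_colon (hα : ∀ j, (α j).Flat) (hβ : ∀ j, (β j).Flat) {J : Ideal C} (hJ : Stable α β J)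
    {s : C} (hs : s ∈ E α β hA J) : Stable α β (J.colon {s}) := by
  intro j
  apply le_antisymm
  · rw [Ideal.map_le_iff_le_comap]
    intro c hc
    rw [mem_colon'] at hc
    apply mem_map_colon (β j) (hβ j)
    have h1 : β j s * α j c = α j (c * s) - (α j s - β j s) * α j c := by rw [map_mul]; ring
    rw [h1, ← hJ j]
    exact Ideal.sub_mem _ (Ideal.mem_map_of_mem _ hc) (Ideal.mul_mem_right _ _ (hs j))
  · rw [Ideal.map_le_iff_le_comap]
    intro c hc
    rw [mem_colon'] at hc
    apply mem_map_colon (α j) (hα j)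
    have h1 : α j s * β j c = β j (c * s) + (α j s - β j s) * β j c := by rw [map_mul]; ring
    rw [h1]
    refine Ideal.add_mem _ ?_ (Ideal.mul_mem_right _ _ (hs j))
    rw [hJ j]
    exact Ideal.mem_map_of_mem _ hc

lemma stable_sup_span {J : Ideal C} (hJ : Stable α β J) {S : Set C} (hS : S ⊆ E α β hA J) :
    Stable α β (J ⊔ Ideal.span S) := by
  intro j
  rw [Ideal.map_sup, Ideal.map_sup, Ideal.map_span, Ideal.map_span]
  apply le_antisymm
  · refine sup_le ?_ ?_
    · rw [hJ j]; exact le_sup_left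
    · rw [Ideal.span_le]
      rintro _ ⟨s, hs, rfl⟩
      have h1 : α j s = (α j s - β j s) + β j s := by ring
      rw [SetLike.mem_coe, h1]
      refine Ideal.add_mem _ (Ideal.mem_sup_left ?_) (Ideal.mem_sup_right (Ideal.subset_span ⟨s, hs, rfl⟩))
      rw [← hJ j]
      exact hS hs j
  · refine sup_le ?_ ?_
    · rw [hJ j]; exact le_sup_left
    · rw [Ideal.span_le]
      rintro _ ⟨s, hs, rfl⟩
      have h1 : β j s = α j s - (α j s - β j s) := by ring
      rw [SetLike.mem_coe, h1]
      exact Ideal.sub_mem _ (Ideal.mem_sup_right (Ideal.subset_span ⟨s, hs, rfl⟩))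
        (Ideal.mem_sup_left (hS hs j))

/-- The division step. -/
lemma bdd_mul (hα : ∀ j, (α j).Flat) {J : Ideal C} (hJ : Stable α β J) {s : C} (hs : s ∈ E α β hA J)
    (h : Bdd (E α β hA (J.colon {s})) (J.colon {s})) :
    Bdd (E α β hA J ⊓ (J ⊔ Ideal.span {s}).restrictScalars A) J := by
  obtain ⟨t, ht, hE⟩ := h
  refine ⟨t.map (LinearMap.mulRight A s), ht.map _, ?_⟩
  rintro m ⟨hm1, hm2⟩
  have hm2' : m ∈ J ⊔ Ideal.span {s} := hm2
  obtain ⟨x, hx, y, hy, rfl⟩ := Submodule.mem_sup.1 hm2'
  obtain ⟨c, rfl⟩ := Ideal.mem_span_singleton'.1 hy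
  have hc : c ∈ E α β hA (J.colon {s}) := by
    intro j
    apply mem_map_colon (α j) (hα j)
    have h1 : α j s * (α j c - β j c) = (α j (x + c * s) - β j (x + c * s)) - (α j x - β j x) -
        (α j s - β j s) * β j c := by
      simp only [map_add, map_mul]
      ring
    rw [h1]
    refine Ideal.sub_mem _ (Ideal.sub_mem _ (hm1 j) (Ideal.sub_mem _ (Ideal.mem_map_of_mem _ hx) ?_))
      (Ideal.mul_mem_right _ _ (hs j))
    rw [hJ j]
    exact Ideal.mem_map_of_mem _ hx
  obtain ⟨p, hp, q, hq, rfl⟩ := Submodule.mem_sup.1 (hE hc)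
  have h2 : x + (p + q) * s = p * s + (x + q * s) := by ring
  rw [h2]
  refine Submodule.add_mem_sup ⟨p, hp, rfl⟩ ?_
  exact J.add_mem hx (mem_colon'.1 hq)

/-- **Dévissage.** -/
theorem bdd_E [IsNoetherianRing A] [IsNoetherianRing C] (hα : ∀ j, (α j).Flat) (hβ : ∀ j, (β j).Flat)
    (base : ∀ J : Ideal C, Stable α β J → (∀ s ∈ E α β hA J, s ∉ J → ∀ c, c * s ∈ J → c ∈ J) →
      Bdd (E α β hA J) J) (J : Ideal C) (hJ : Stable α β J) : Bdd (E α β hA J) J := by
  induction J using IsNoetherian.induction with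
  | hgt J IH =>
    by_cases h : ∀ s ∈ E α β hA J, s ∉ J → ∀ c, c * s ∈ J → c ∈ J
    · exact base J hJ h
    push Not at h
    obtain ⟨s₀, hs₀, hs₀J, c₀, hc₀, hc₀J⟩ := h
    let F : Set C := {s | s ∈ E α β hA J ∧ ∀ c ∈ J.colon {s₀}, c * s ∈ J}
    let I : Ideal C := J ⊔ Ideal.span F
    have hFE : F ⊆ E α β hA J := fun s hs => hs.1
    have hIst : Stable α β I := stable_sup_span hA hJ hFE
    have hs₀F : s₀ ∈ F := ⟨hs₀, fun c hc => mem_colon'.1 hc⟩
    have hJI : J < I := by
      refine lt_of_le_of_ne le_sup_left fun h => hs₀J ?_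
      rw [h]
      exact Ideal.mem_sup_right (Ideal.subset_span hs₀F)
    have h1 : Bdd (E α β hA J) I := (IH I hJI hIst).mono (E_mono hA hJI.le)
    refine bdd_trans h1 ?_
    -- finitely many generators
    have hfg : (Ideal.span F).FG := IsNoetherian.noetherian _
    obtain ⟨S, hSF, hS⟩ := (Submodule.fg_span_iff_fg_span_finset_subset F).1 hfg
    have key : ∀ T : Finset C, (T : Set C) ⊆ F →
        Bdd (E α β hA J ⊓ (J ⊔ Ideal.span (T : Set C)).restrictScalars A) J := by
      classical
      intro T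
      induction T using Finset.induction_on with
      | empty =>
        intro _
        apply bdd_self
        rw [Finset.coe_empty, Ideal.span_empty, sup_bot_eq]
        exact inf_le_right
      | insert s T _ ih =>
        intro hT
        have hsF : s ∈ F := hT (Finset.mem_insert_self _ _)
        have hTF : (T : Set C) ⊆ F := fun x hx => hT (Finset.mem_insert_of_mem hx)
        let J' : Ideal C := J ⊔ Ideal.span (T : Set C)
        have hJ' : Stable α β J' := stable_sup_span hA hJ (hTF.trans hFE)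
        have hsJ' : s ∈ E α β hA J' := E_mono hA le_sup_left hsF.1
        have hQ : J < J'.colon {s} := by
          have h2 : J.colon {s₀} ≤ J'.colon {s} := fun c hc =>
            mem_colon'.2 (Ideal.mem_sup_left (hsF.2 c hc))
          refine lt_of_le_of_ne (fun c hc => h2 (mem_colon'.2 (Ideal.mul_mem_right _ _ hc))) fun h => hc₀J ?_
          rw [h]
          exact h2 (mem_colon'.2 hc₀)
        have h3 := bdd_mul hA hα hJ' hsJ' (IH _ hQ (stable_colon hA hα hβ hJ' hsJ'))
        have h4 : J ⊔ Ideal.span ((insert s T : Finset C) : Set C) = J' ⊔ Ideal.span {s} := by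
          rw [Finset.coe_insert, Ideal.span_insert, sup_comm (Ideal.span {s}), ← sup_assoc]
        rw [h4]
        refine bdd_trans (I := J') (h3.mono ?_) ((ih hTF).mono ?_)
        · exact inf_le_inf_right _ (E_mono hA le_sup_left)
        · exact inf_le_inf_right _ inf_le_left
    have h5 := key S hSF
    have h6 : Ideal.span F = Ideal.span (S : Set C) := hS
    rwa [← h6] at h5

end K405.Devissage
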