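import Groth.Agent.Books.AffBridge2
import Groth.Agent.Sga3C.Transl
import Mathlib.AlgebraicGeometry.ValuativeCriterion
import Mathlib.RingTheory.PowerSeries.Inverse
import Mathlib.RingTheory.PowerSeries.Substitution
import Mathlib.RingTheory.PowerSeries.NoZeroDivisors

/-!
# Fixed points by degeneration

The common core of the fixed point theorem for `𝔾_a` and `𝔾_m` acting on a proper scheme.
-/

set_option autoImplicit false
universe u
open CategoryTheory MonoidalCategory CartesianMonoidalCategory MonObj GrpObj AlgebraicGeometry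
open PowerSeries

namespace K405.FixCore

open Groth.Agent.Books.AffBridge Groth.Agent.Books.AffBridge2 Groth.Agent.Sga3C.Transl

noncomputable section

theorem exists_lift_of_isProper {X S : Scheme.{u}} (f : X ⟶ S) [IsProper f]
    {R K : Type u} [CommRing R] [IsDomain R] [ValuationRing R] [Field K] [Algebra R K]
    [IsFractionRing R K] (x : Spec (CommRingCat.of K) ⟶ X) (y : Spec (CommRingCat.of R) ⟶ S)
    (w : x ≫ f = Spec.map (CommRingCat.ofHom (algebraMap R K)) ≫ y) :
    ∃ l : Spec (CommRingCat.of R) ⟶ X, Spec.map (CommRingCat.ofHom (algebraMap R K)) ≫ l = x ∧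
      l ≫ f = y := by
  have hv : (ValuativeCriterion ⊓ @QuasiCompact ⊓ @QuasiSeparated ⊓ @LocallyOfFiniteType) f := by
    rw [← IsProper.eq_valuativeCriterion]; infer_instance
  obtain ⟨⟨l, h1, h2⟩⟩ := (hv.1.1.1.existence
    { R := R
      K := K
      i₁ := x
      i₂ := y
      commSq := ⟨w⟩ }).exists_lift
  exact ⟨l, h1, h2⟩

variable {k : Type u} [Field k]

lemma specOver_hom_eq {R K : Type u} [CommRing R] [Algebra k R] [CommRing K] [Algebra R K]
    [Algebra k K] [IsScalarTower k R K] : (SpecOver k K).hom =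
      Spec.map (CommRingCat.ofHom (algebraMap R K)) ≫ (SpecOver k R).hom :=
  (Over.w (specMap k (IsScalarTower.toAlgHom k R K))).symm

/-- Extension of a map on the generic point of a valuation ring to a proper scheme. -/
theorem exists_extension {X : Over (Spec (CommRingCat.of k))} [IsProper X.hom]
    {R K : Type u} [CommRing R] [IsDomain R] [ValuationRing R] [Algebra k R] [Field K] [Algebra R K]
    [IsFractionRing R K] [Algebra k K] [IsScalarTower k R K] (x : SpecOver k K ⟶ X) :
    ∃ f : SpecOver k R ⟶ X, specMap k (IsScalarTower.toAlgHom k R K) ≫ f = x := by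
  obtain ⟨l, h1, h2⟩ := exists_lift_of_isProper X.hom (R := R) (K := K) x.left (SpecOver k R).hom
    ((Over.w x).trans specOver_hom_eq)
  exact ⟨Over.homMk l h2, Over.OverMorphism.ext h1⟩

/-- Two maps from an affine integral scheme to a separated scheme which agree generically agree. -/
theorem eq_of_generic {X : Over (Spec (CommRingCat.of k))} [IsSeparated X.hom]
    {C L : Type u} [CommRing C] [IsDomain C] [Algebra k C] [CommRing L] [Algebra k L]
    (i : C →ₐ[k] L) (hi : Function.Injective i) (u v : SpecOver k C ⟶ X)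
    (h : specMap k i ≫ u = specMap k i ≫ v) : u = v := by
  apply Over.OverMorphism.ext
  have : AlgebraicGeometry.IsReduced (SpecOver k C).left :=
    inferInstanceAs (AlgebraicGeometry.IsReduced (Spec (CommRingCat.of C)))
  have hd : IsDominant (specMap k i).left := by
    refine ⟨?_⟩
    change DenseRange (PrimeSpectrum.comap i.toRingHom)
    rw [PrimeSpectrum.denseRange_comap_iff_ker_le_nilRadical,
      (RingHom.injective_iff_ker_eq_bot i.toRingHom).1 hi]
    exact bot_le
  refine ext_of_isDominant_of_isSeparated X.hom ?_ (specMap k i).left ?_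
  · rw [Over.w, Over.w]
  · rw [← Over.comp_left, h, Over.comp_left]

/-- The constant coefficient as an algebra map. -/
def cc (A : Type u) [CommRing A] [Algebra k A] : A⟦X⟧ →ₐ[k] A :=
  { PowerSeries.constantCoeff (R := A) with
    commutes' := fun r => by
      change PowerSeries.constantCoeff (algebraMap k A⟦X⟧ r) = _
      rw [PowerSeries.algebraMap_apply]
      simp }

/-- Constants as an algebra map. -/
def cst (A : Type u) [CommRing A] [Algebra k A] : A →ₐ[k] A⟦X⟧ :=
  IsScalarTower.toAlgHom k A A⟦X⟧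

lemma cc_cst (A : Type u) [CommRing A] [Algebra k A] (a : A) : cc (k := k) A (cst (k := k) A a) = a := by
  change PowerSeries.constantCoeff (algebraMap A A⟦X⟧ a) = a
  rw [PowerSeries.algebraMap_apply]
  simp

/-- **The core of the fixed point theorem.** -/
theorem core {G X : Over (Spec (CommRingCat.of k))} [GrpObj G] [IsProper X.hom]
    (x₀ : 𝟙_ (Over (Spec (CommRingCat.of k))) ⟶ X) (a : AlgGrp.Action G X)
    {A : Type u} [CommRing A] [IsDomain A] [Algebra k A] (gu : SpecOver k A ⟶ G)
    {K : Type u} [Field K] [Algebra k⟦X⟧ K] [IsFractionRing k⟦X⟧ K] [Algebra k K]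
    [IsScalarTower k k⟦X⟧ K] (t : SpecOver k K ⟶ G)
    {L : Type u} [Field L] [Algebra A⟦X⟧ L] [IsFractionRing A⟦X⟧ L] [Algebra k L]
    [IsScalarTower k A⟦X⟧ L]
    (σ : k⟦X⟧ →ₐ[k] A⟦X⟧) (hσ0 : ∀ p, cc (k := k) A (σ p) = algebraMap k A (cc (k := k) k p))
    (ιK σK : K →ₐ[k] L)
    (hι : ιK.comp (IsScalarTower.toAlgHom k k⟦X⟧ K) = (IsScalarTower.toAlgHom k A⟦X⟧ L).comp
      (PowerSeries.mapAlgHom (Algebra.ofId k A)))
    (hσ : σK.comp (IsScalarTower.toAlgHom k k⟦X⟧ K) = (IsScalarTower.toAlgHom k A⟦X⟧ L).comp σ)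
    (htr : (specMap k ((IsScalarTower.toAlgHom k A⟦X⟧ L).comp (cst A)) ≫ gu) * (specMap k ιK ≫ t) =
      specMap k σK ≫ t) :
    ∃ x : 𝟙_ (Over (Spec (CommRingCat.of k))) ⟶ X,
      lift gu (toUnit _ ≫ x) ≫ a.act = toUnit _ ≫ x := by
  obtain ⟨f, hf⟩ := exists_extension (R := k⟦X⟧) (K := K) (lift t (toUnit _ ≫ x₀) ≫ a.act)
  let x : 𝟙_ (Over (Spec (CommRingCat.of k))) ⟶ X := (unitIso k).hom ≫ specMap k (cc k) ≫ f
  have hx : ∀ (B : Type u) [CommRing B] [Algebra k B],
      toUnit (SpecOver k B) ≫ x = specMap k (Algebra.ofId k B) ≫ specMap k (cc k) ≫ f := by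
    intro B _ _
    have : toUnit (SpecOver k B) ≫ (unitIso k).hom = specMap k (Algebra.ofId k B) := by
      rw [← cancel_mono (unitIso k).inv, Category.assoc, Iso.hom_inv_id, Category.comp_id]
      exact toUnit_unique _ _
    rw [← this, Category.assoc]
  let io : k⟦X⟧ →ₐ[k] A⟦X⟧ := PowerSeries.mapAlgHom (Algebra.ofId k A)
  let u₁ : SpecOver k A⟦X⟧ ⟶ X := lift (specMap k (cst A) ≫ gu) (specMap k io ≫ f) ≫ a.act
  let u₂ : SpecOver k A⟦X⟧ ⟶ X := specMap k σ ≫ f
  have hu : u₁ = u₂ := by
    apply eq_of_generic (IsScalarTower.toAlgHom k A⟦X⟧ L) (IsFractionRing.injective A⟦X⟧ L)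
    simp only [u₁, u₂]
    rw [comp_lift_act, ← Category.assoc, ← Category.assoc, ← Category.assoc, ← specMap_comp,
      ← specMap_comp, ← specMap_comp, ← hσ]
    change lift _ (specMap k ((IsScalarTower.toAlgHom k A⟦X⟧ L).comp
      (PowerSeries.mapAlgHom (Algebra.ofId k A))) ≫ f) ≫ a.act = _
    rw [← hι, specMap_comp (k := k) (IsScalarTower.toAlgHom k k⟦X⟧ K) ιK,
      specMap_comp (k := k) (IsScalarTower.toAlgHom k k⟦X⟧ K) σK, Category.assoc, Category.assoc, hf,
      comp_lift_act, comp_lift_act, ← htr, lift_mul_act, ← Category.assoc, ← Category.assoc,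
      toUnit_unique (specMap k ιK ≫ toUnit _) (toUnit _),
      toUnit_unique (specMap k σK ≫ toUnit _) (toUnit _)]
  refine ⟨x, ?_⟩
  have h1 := congrArg (fun z => specMap k (cc (k := k) A) ≫ z) hu
  simp only [u₁, u₂] at h1
  rw [comp_lift_act, ← Category.assoc, ← Category.assoc, ← Category.assoc, ← specMap_comp,
    ← specMap_comp, ← specMap_comp] at h1
  have e1 : (cc (k := k) A).comp (cst (k := k) A) = AlgHom.id k A := by
    ext b; exact cc_cst (k := k) A b
  have e2 : (cc (k := k) A).comp io = (Algebra.ofId k A).comp (cc k) := by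
    ext p
    change PowerSeries.constantCoeff (PowerSeries.map _ p) = algebraMap k A (PowerSeries.constantCoeff p)
    rw [← PowerSeries.coeff_zero_eq_constantCoeff_apply, PowerSeries.coeff_map,
      PowerSeries.coeff_zero_eq_constantCoeff_apply]
    rfl
  have e3 : (cc (k := k) A).comp σ = (Algebra.ofId k A).comp (cc k) := by
    ext p
    exact hσ0 p
  rw [e1, e2, e3, specMap_id, Category.id_comp, specMap_comp, Category.assoc, ← hx] at h1
  exact h1

end

end K405.FixCore
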