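import Groth.Agent.Sga3B.GaPts
import Groth.Agent.Sga3B.AffPts
import Mathlib.Algebra.Polynomial.Degree.Domain

/-!
# Group laws on the affine line

`mul_formula`: a group scheme structure on an object `L` isomorphic (as a scheme over a field `k`)
to the affine line is, in the coordinate, `x * y = x + y - e`.
-/

set_option autoImplicit false
universe u
open CategoryTheory MonoidalCategory CartesianMonoidalCategory MonObj GrpObj AlgebraicGeometry Limits
open Polynomial

namespace K405.GaLaw

open Groth.Agent.Books.AffBridge Groth.Agent.Sga3B.AffPts Groth.Agent.Sga3B.GaPts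

noncomputable section

/-- A polynomial in two variables behaving like a group law is `X + Y - c`. -/
theorem poly_law {k : Type*} [Field k] (F G : k[X][X]) (c : k) (h1 : F.comp G = X)
    (h2 : F.map ((C : k →+* k[X]).comp (evalRingHom c)) = X)
    (h3 : F.comp (C (C c)) = C X) : F = X + C X - C (C c) := by
  have hd : F.natDegree * G.natDegree = 1 := by
    rw [← natDegree_comp, h1, natDegree_X]
  have hF : F.natDegree = 1 := Nat.eq_one_of_mul_eq_one_right hd
  obtain ⟨a, ha, b, rfl⟩ := natDegree_eq_one.1 hF
  have h1' : a * G.coeff 1 = 1 := by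
    have := congrArg (fun p => p.coeff 1) h1
    simpa [add_comp, Polynomial.mul_comp, coeff_C] using this
  have hu : IsUnit a := IsUnit.of_mul_eq_one _ h1'
  obtain ⟨α, -, rfl⟩ := Polynomial.isUnit_iff.1 hu
  have h2' : α = 1 := by
    have := congrArg (fun p => (p.coeff 1).coeff 0) h2
    simpa [coeff_C] using this
  subst h2'
  have h3' : b = X - C c := by
    have : C (C c) + C b = (C X : k[X][X]) := by simpa [add_comp] using h3
    have h4 : C (C c + b) = (C X : k[X][X]) := by rw [C_add]; exact this
    have h5 := C_injective h4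
    rw [← h5]; ring
  subst h3'
  simp
  ring

variable {k : Type u} [Field k]

/-- The point of the affine line with coordinate `b`. -/
def pt {B : Type u} [CommRing B] [Algebra k B] (b : B) :
    SpecOver k B ⟶ Red.Ga (Spec (CommRingCat.of k)) := gaPt _ ((fnSpec (R := k) B).symm b)

/-- The coordinate of a point. -/
def co {B : Type u} [CommRing B] [Algebra k B]
    (x : SpecOver k B ⟶ Red.Ga (Spec (CommRingCat.of k))) : B := fnSpec (R := k) B (Red.gaFn x)

section

variable {B : Type u} [CommRing B] [Algebra k B] {B' : Type u} [CommRing B'] [Algebra k B']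

@[simp] lemma co_pt (b : B) : co (pt (k := k) b) = b := by
  rw [co, pt, gaFn_gaPt, AlgEquiv.apply_symm_apply]

@[simp] lemma pt_co (x : SpecOver k B ⟶ Red.Ga (Spec (CommRingCat.of k))) : pt (co x) = x := by
  rw [co, pt, AlgEquiv.symm_apply_apply, gaPt_gaFn]

lemma co_injective : Function.Injective
    (co : (SpecOver k B ⟶ Red.Ga (Spec (CommRingCat.of k))) → B) :=
  Function.LeftInverse.injective pt_co

lemma fnSpec_fnMap (f : B →ₐ[k] B') (b : Fn (SpecOver k B)) :
    fnSpec (R := k) B' (fnMap (specMap k f) b) = f (fnSpec (R := k) B b) := by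
  have h := Scheme.ΓSpecIso_naturality (CommRingCat.ofHom f.toRingHom)
  exact congr(CommRingCat.Hom.hom $h b)

lemma co_comp (f : B →ₐ[k] B') (x : SpecOver k B ⟶ Red.Ga (Spec (CommRingCat.of k))) :
    co (specMap k f ≫ x) = f (co x) := by
  rw [co, gaFn_comp, co]
  exact fnSpec_fnMap f _

end

section Law

variable {L : Over (Spec (CommRingCat.of k))} [GrpObj L] (e : L ≅ Red.Ga (Spec (CommRingCat.of k)))

/-- The coordinate of the unit section. -/
def unitCo : k := co (B := k) ((1 : SpecOver k k ⟶ L) ≫ e.hom)

lemma co_one {B : Type u} [CommRing B] [Algebra k B] :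
    co (B := B) ((1 : SpecOver k B ⟶ L) ≫ e.hom) = algebraMap k B (unitCo e) := by
  have : (1 : SpecOver k B ⟶ L) = specMap k (Algebra.ofId k B) ≫ (1 : SpecOver k k ⟶ L) := by
    rw [MonObj.comp_one]
  rw [this, Category.assoc, co_comp]
  rfl

/-- the generic first coordinate -/
def gx : SpecOver k k[X][X] ⟶ L := pt X ≫ e.inv

/-- the generic second coordinate -/
def gy : SpecOver k k[X][X] ⟶ L := pt (C X) ≫ e.inv

omit [GrpObj L] in
@[simp] lemma co_gx : co (gx e ≫ e.hom) = X := by simp [gx]

omit [GrpObj L] in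
@[simp] lemma co_gy : co (gy e ≫ e.hom) = C X := by simp [gy]

omit [GrpObj L] in
lemma ext_co {B : Type u} [CommRing B] [Algebra k B] {x y : SpecOver k B ⟶ L}
    (h : co (x ≫ e.hom) = co (y ≫ e.hom)) : x = y := by
  rw [← cancel_mono e.hom]
  exact co_injective h

lemma law : co ((gx e * gy e) ≫ e.hom) = X + C X - C (C (unitCo e)) := by
  apply poly_law _ (co ((gx e * (gy e)⁻¹) ≫ e.hom))
  · let f : k[X][X] →ₐ[k] k[X][X] :=
      (aeval (R := k[X]) (co ((gx e * (gy e)⁻¹) ≫ e.hom))).restrictScalars k
    have hx : specMap k f ≫ gx e = gx e * (gy e)⁻¹ := by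
      apply ext_co e
      rw [Category.assoc, co_comp, co_gx]
      simp [f]
    have hy : specMap k f ≫ gy e = gy e := by
      apply ext_co e
      rw [Category.assoc, co_comp, co_gy]
      simp [f]
    have h : specMap k f ≫ (gx e * gy e) = gx e := by
      rw [MonObj.comp_mul, hx, hy, inv_mul_cancel_right]
    have h2 : co (specMap k f ≫ (gx e * gy e) ≫ e.hom) = X := by
      rw [← Category.assoc, h, co_gx]
    rw [co_comp] at h2
    exact h2
  · let f : k[X][X] →ₐ[k] k[X][X] :=
      mapAlgHom ((Algebra.ofId k k[X]).comp (aeval (unitCo e)))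
    have hx : specMap k f ≫ gx e = gx e := by
      apply ext_co e
      rw [Category.assoc, co_comp, co_gx]
      simp [f]
    have hy : specMap k f ≫ gy e = 1 := by
      apply ext_co e
      rw [Category.assoc, co_comp, co_gy, co_one]
      simp [f, Algebra.ofId_apply]
    have h : specMap k f ≫ (gx e * gy e) = gx e := by
      rw [MonObj.comp_mul, hx, hy, _root_.mul_one]
    have h2 : co (specMap k f ≫ (gx e * gy e) ≫ e.hom) = X := by
      rw [← Category.assoc, h, co_gx]
    rw [co_comp] at h2
    refine Eq.trans ?_ h2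
    change _ = Polynomial.map _ _
    rfl
  · let f : k[X][X] →ₐ[k] k[X][X] :=
      (aeval (R := k[X]) (C (C (unitCo e)) : k[X][X])).restrictScalars k
    have hx : specMap k f ≫ gx e = 1 := by
      apply ext_co e
      rw [Category.assoc, co_comp, co_gx, co_one]
      simp [f]
    have hy : specMap k f ≫ gy e = gy e := by
      apply ext_co e
      rw [Category.assoc, co_comp, co_gy]
      simp [f]
    have h : specMap k f ≫ (gx e * gy e) = gy e := by
      rw [MonObj.comp_mul, hx, hy, _root_.one_mul]
    have h2 : co (specMap k f ≫ (gx e * gy e) ≫ e.hom) = C X := by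
      rw [← Category.assoc, h, co_gy]
    rw [co_comp] at h2
    exact h2

lemma law' : Red.gaFn ((gx e * gy e) ≫ e.hom) =
    Red.gaFn (gx e ≫ e.hom) + Red.gaFn (gy e ≫ e.hom) -
      Red.gaFn ((1 : SpecOver k k[X][X] ⟶ L) ≫ e.hom) := by
  apply (fnSpec (R := k) k[X][X]).injective
  have h := law e
  have h1 := co_gx e
  have h2 := co_gy e
  have h3 := co_one e (B := k[X][X])
  erw [map_sub, map_add]
  change co _ = co _ + co _ - co _
  rw [h, h1, h2, h3]
  rfl

/-- **Group laws on the affine line**: `x * y = x + y - e` in the coordinate. -/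
theorem mul_formula {T : Over (Spec (CommRingCat.of k))} (x y : T ⟶ L) :
    Red.gaFn ((x * y) ≫ e.hom) =
    Red.gaFn (x ≫ e.hom) + Red.gaFn (y ≫ e.hom) - Red.gaFn ((1 : T ⟶ L) ≫ e.hom) := by
  let g : k[X][X] →ₐ[k] Fn T :=
    { eval₂RingHom (aeval (R := k) (A := Fn T) (Red.gaFn (y ≫ e.hom))).toRingHom
        (Red.gaFn (x ≫ e.hom) : Fn T) with
      commutes' := fun r => by
        change eval₂ _ _ (C (C r)) = _
        rw [eval₂_C]
        exact (aeval (R := k) (A := Fn T) (Red.gaFn (y ≫ e.hom))).commutes r }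
  have hgX : g X = Red.gaFn (x ≫ e.hom) := eval₂_X _ _
  have hgY : g (C X) = Red.gaFn (y ≫ e.hom) :=
    (eval₂_C _ _).trans (aeval_X (R := k) (A := Fn T) _)
  let h : T ⟶ SpecOver k k[X][X] := affPt T g
  have key : ∀ b : k[X][X], h ≫ pt b = gaPt T (g b) := fun b => by
    rw [pt, comp_gaPt]
    congr 1
    have h2 : h ≫ affPt _ ((fnSpec (R := k) k[X][X]).symm.toAlgHom) = h := by
      rw [affPt_spec]
      have : (fnSpec (R := k) k[X][X]).toAlgHom.comp (fnSpec (R := k) k[X][X]).symm.toAlgHom =
          AlgHom.id k k[X][X] := by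
        ext <;> simp
      rw [this, specMap_id, Category.comp_id]
    rw [comp_affPt] at h2
    have h3 := (affPt_bijective _).1 h2
    exact DFunLike.congr_fun h3 b
  have hx : h ≫ gx e = x := by
    rw [← cancel_mono e.hom]
    apply gaFn_injective
    rw [gx, Category.assoc, Category.assoc, e.inv_hom_id, Category.comp_id, key, hgX, gaFn_gaPt]
  have hy : h ≫ gy e = y := by
    rw [← cancel_mono e.hom]
    apply gaFn_injective
    rw [gy, Category.assoc, Category.assoc, e.inv_hom_id, Category.comp_id, key, hgY, gaFn_gaPt]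
  have h1 : h ≫ (1 : SpecOver k k[X][X] ⟶ L) = 1 := MonObj.comp_one _
  have hl := congrArg (fun z => h.left.appTop z) (law' e)
  simp only [map_sub, map_add] at hl
  rw [← gaFn_comp, ← gaFn_comp, ← gaFn_comp, ← gaFn_comp] at hl
  rw [← hx, ← hy, ← h1, ← MonObj.comp_mul, Category.assoc, Category.assoc, Category.assoc,
    Category.assoc]
  exact hl

end Law

end

end K405.GaLaw
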