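import Groth.Agent.AlgGrp.K405.FixCore
import Groth.Agent.AlgGrp.K405.GaLaw
import Groth.Agent.AlgGrp.K405.GmLaw
import Groth.Prelude.Def_Red2

/-!
# Fixed points of `𝔾_a` and `𝔾_m` on a proper scheme
-/

set_option autoImplicit false
universe u
open CategoryTheory MonoidalCategory CartesianMonoidalCategory MonObj GrpObj AlgebraicGeometry
open PowerSeries

namespace K405.FixGa

open Groth.Agent.Books.AffBridge Groth.Agent.Books.AffBridge2 Groth.Agent.Sga3C.Transl
open Groth.Agent.Sga3B.AffPts Groth.Agent.Sga3B.GaPts K405.FixCore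

noncomputable section

variable {k : Type u} [Field k]

lemma affPt_fnSpec_symm {B : Type u} [CommRing B] [Algebra k B] (T : Over (Spec (CommRingCat.of k)))
    (g : B →ₐ[k] Fn T) (b : B) : fnMap (affPt T g) ((fnSpec (R := k) B).symm b) = g b := by
  have h2 : affPt T g ≫ affPt _ ((fnSpec (R := k) B).symm.toAlgHom) = affPt T g := by
    rw [affPt_spec]
    have : (fnSpec (R := k) B).toAlgHom.comp (fnSpec (R := k) B).symm.toAlgHom = AlgHom.id k B := by
      ext c
      exact (fnSpec (R := k) B).apply_symm_apply c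
    rw [this, specMap_id, Category.comp_id]
  rw [comp_affPt] at h2
  have h3 := (affPt_bijective _).1 h2
  exact DFunLike.congr_fun h3 b

lemma affPt_ptGa {B : Type u} [CommRing B] [Algebra k B] (T : Over (Spec (CommRingCat.of k)))
    (g : B →ₐ[k] Fn T) (b : B) : affPt T g ≫ K405.GaLaw.pt (k := k) b = gaPt T (g b) := by
  rw [K405.GaLaw.pt, comp_gaPt]
  congr 1
  exact affPt_fnSpec_symm T g b

lemma affPt_ptGm {B : Type u} [CommRing B] [Algebra k B] (T : Over (Spec (CommRingCat.of k)))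
    (g : B →ₐ[k] Fn T) (b : Bˣ) : affPt T g ≫ K405.GmLaw.pt (k := k) b =
      GmPts.ptOfUnit (Units.map (g : B →* Fn T) b) := by
  rw [K405.GmLaw.pt, GmPts.ptOfUnit_comp]
  congr 1
  ext
  exact affPt_fnSpec_symm T g (b : B)

/-- From the universal point to all points. -/
theorem isFixedPt_of_universal {G X : Over (Spec (CommRingCat.of k))} [GrpObj G]
    (a : AlgGrp.Action G X) (x : 𝟙_ (Over (Spec (CommRingCat.of k))) ⟶ X)
    {U : Over (Spec (CommRingCat.of k))} (gu : U ⟶ G)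
    (hu : ∀ (T : Over (Spec (CommRingCat.of k))) (g : T ⟶ G), ∃ h : T ⟶ U, h ≫ gu = g)
    (h : lift gu (toUnit _ ≫ x) ≫ a.act = toUnit _ ≫ x) : a.IsFixedPt x := by
  intro T g
  obtain ⟨h', rfl⟩ := hu T g
  have := congrArg (fun z => h' ≫ z) h
  rw [comp_lift_act, ← Category.assoc, toUnit_unique (h' ≫ toUnit _) (toUnit _)] at this
  exact this

section subst

variable (A : Type u) [CommRing A] [Algebra k A] (p : A⟦X⟧)

/-- The substitution `X ↦ X p`. -/
def sub : k⟦X⟧ →ₐ[k] A⟦X⟧ :=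
  PowerSeries.substAlgHom (R := k) (S := A) (τ := Unit) (a := (X * p : A⟦X⟧))
    (PowerSeries.HasSubst.of_constantCoeff_zero' (by simp))

lemma sub_X : sub (k := k) A p X = X * p :=
  PowerSeries.substAlgHom_X _

lemma cc_sub (f : k⟦X⟧) : cc (k := k) A (sub A p f) = algebraMap k A (cc (k := k) k f) := by
  rw [PowerSeries.eq_X_mul_shift_add_const f, map_add, map_mul, sub_X, map_add, map_mul, map_mul]
  have h1 : cc (k := k) A X = 0 := by
    change PowerSeries.constantCoeff _ = _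
    simp
  have h2 : cc (k := k) k X = 0 := by
    change PowerSeries.constantCoeff _ = _
    simp
  have h3 : sub (k := k) A p (C (constantCoeff f)) = algebraMap k _ (constantCoeff f) := by
    have : (C (constantCoeff f) : k⟦X⟧) = algebraMap k _ (constantCoeff f) := rfl
    rw [this, AlgHom.commutes]
  have h4 : cc (k := k) k (C (constantCoeff f)) = constantCoeff f := by
    change PowerSeries.constantCoeff _ = _
    simp
  rw [h1, map_add, map_mul, h2, h3, h4, AlgHom.commutes]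
  simp

lemma sub_injective [IsDomain A] (hp : p ≠ 0) : Function.Injective (sub (k := k) A p) := by
  rw [injective_iff_map_eq_zero]
  intro f hf
  by_contra hne
  obtain ⟨n, u, hu⟩ := IsDiscreteValuationRing.eq_unit_mul_pow_irreducible hne
    (PowerSeries.X_irreducible (R := k))
  rw [hu, map_mul, map_pow, sub_X] at hf
  have h1 : IsUnit (sub (k := k) A p (u : k⟦X⟧)) := u.isUnit.map _
  have h2 : (X * p : A⟦X⟧) ^ n = 0 := (h1.mul_right_eq_zero).1 hf
  have h4 : (X * p : A⟦X⟧) = 0 := eq_zero_of_pow_eq_zero h2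
  exact (mul_ne_zero PowerSeries.X_prime.ne_zero hp) h4

end subst

section core

variable {G X : Over (Spec (CommRingCat.of k))} [GrpObj G] [IsProper X.hom]
    (x₀ : 𝟙_ (Over (Spec (CommRingCat.of k))) ⟶ X) (a : AlgGrp.Action G X)
    (A : Type u) [CommRing A] [IsDomain A] [Algebra k A] (p : A⟦X⟧)

/-- the extension of `sub` to the fraction fields -/
def subK (hp : p ≠ 0) : FractionRing k⟦X⟧ →ₐ[k] FractionRing A⟦X⟧ :=
  IsFractionRing.liftAlgHom (A := k⟦X⟧)
    (g := (IsScalarTower.toAlgHom k A⟦X⟧ (FractionRing A⟦X⟧)).comp (sub A p))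
    ((IsFractionRing.injective A⟦X⟧ (FractionRing A⟦X⟧)).comp (sub_injective A p hp))

lemma subK_algebraMap (hp : p ≠ 0) (f : k⟦X⟧) :
    subK (k := k) A p hp (algebraMap _ _ f) = algebraMap _ _ (sub (k := k) A p f) := by
  rw [subK, IsFractionRing.liftAlgHom_apply]
  exact IsFractionRing.lift_algebraMap _ f

omit [IsDomain A] in
lemma map_ofId_injective [Nontrivial A] : Function.Injective (PowerSeries.mapAlgHom (Algebra.ofId k A)) :=
  PowerSeries.map_injective _ (algebraMap k A).injective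

/-- the extension of the inclusion to the fraction fields -/
def iotaK : FractionRing k⟦X⟧ →ₐ[k] FractionRing A⟦X⟧ :=
  IsFractionRing.liftAlgHom (A := k⟦X⟧)
    (g := (IsScalarTower.toAlgHom k A⟦X⟧ (FractionRing A⟦X⟧)).comp
      (PowerSeries.mapAlgHom (Algebra.ofId k A)))
    ((IsFractionRing.injective A⟦X⟧ (FractionRing A⟦X⟧)).comp (map_ofId_injective A))

lemma iotaK_algebraMap (f : k⟦X⟧) :
    iotaK (k := k) A (algebraMap _ _ f) =
      algebraMap _ _ (PowerSeries.mapAlgHom (Algebra.ofId k A) f) := by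
  rw [iotaK, IsFractionRing.liftAlgHom_apply]
  exact IsFractionRing.lift_algebraMap _ f

/-- constants in the fraction field -/
def aL : A →ₐ[k] FractionRing A⟦X⟧ :=
  (IsScalarTower.toAlgHom k A⟦X⟧ (FractionRing A⟦X⟧)).comp (cst A)

variable {A} in
include x₀ in
theorem exists_fixed (gu : SpecOver k A ⟶ G) (t : SpecOver k (FractionRing k⟦X⟧) ⟶ G) (hp : p ≠ 0)
    (htr : (specMap k (aL A) ≫ gu) * (specMap k (iotaK A) ≫ t) = specMap k (subK A p hp) ≫ t) :
    ∃ x : 𝟙_ (Over (Spec (CommRingCat.of k))) ⟶ X,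
      lift gu (toUnit _ ≫ x) ≫ a.act = toUnit _ ≫ x := by
  refine core x₀ a gu (K := FractionRing k⟦X⟧) t (L := FractionRing A⟦X⟧) (sub A p) (cc_sub A p)
    (iotaK A) (subK A p hp) ?_ ?_ htr
  · ext f
    exact iotaK_algebraMap A f
  · ext f
    exact subK_algebraMap A p hp f

end core

open Polynomial in
/-- **`𝔾_a` acting on a proper scheme with a rational point has a fixed rational point.** -/
theorem exists_fixedPt_Ga {G X : Over (Spec (CommRingCat.of k))} [GrpObj G] [IsProper X.hom]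
    (x₀ : 𝟙_ (Over (Spec (CommRingCat.of k))) ⟶ X) (a : AlgGrp.Action G X)
    (φ : Red.Ga (Spec (CommRingCat.of k)) ⟶ G) [IsMonHom φ] [IsIso φ] :
    ∃ x : 𝟙_ (Over (Spec (CommRingCat.of k))) ⟶ X, a.IsFixedPt x := by
  let w : k[X]⟦X⟧ := 1 + PowerSeries.C (Polynomial.X : k[X]) * PowerSeries.X
  have hw : IsUnit w := by
    rw [PowerSeries.isUnit_iff_constantCoeff]
    simp [w]
  obtain ⟨v, hv⟩ := hw
  have hp : ((v⁻¹ : (k[X]⟦X⟧)ˣ) : k[X]⟦X⟧) ≠ 0 := Units.ne_zero _
  let ti : FractionRing k⟦X⟧ := (algebraMap k⟦X⟧ _ PowerSeries.X)⁻¹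
  have ht : (specMap k (aL k[X]) ≫ (K405.GaLaw.pt (k := k) (Polynomial.X : k[X]) ≫ φ)) *
      (specMap k (iotaK k[X]) ≫ (K405.GaLaw.pt (k := k) ti ≫ φ)) =
      specMap k (subK k[X] _ hp) ≫ (K405.GaLaw.pt (k := k) ti ≫ φ) := by
    rw [← Category.assoc, ← Category.assoc, ← Category.assoc]
    refine Eq.trans (MonObj.mul_comp _ _ φ).symm ?_
    congr 1
    apply gaFn_injective
    rw [gaFn_mul]
    apply (fnSpec (R := k) (FractionRing k[X]⟦X⟧)).injective
    erw [map_add]
    change K405.GaLaw.co _ + K405.GaLaw.co _ = K405.GaLaw.co _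
    rw [K405.GaLaw.co_comp, K405.GaLaw.co_comp, K405.GaLaw.co_comp, K405.GaLaw.co_pt,
      K405.GaLaw.co_pt, map_inv₀, map_inv₀, iotaK_algebraMap, subK_algebraMap, sub_X,
      PowerSeries.mapAlgHom_apply, PowerSeries.map_X, map_mul]
    have hX : algebraMap k[X]⟦X⟧ (FractionRing k[X]⟦X⟧) PowerSeries.X ≠ 0 := by
      rw [ne_eq, FaithfulSMul.algebraMap_eq_zero_iff]
      exact PowerSeries.X_prime.ne_zero
    have hV : algebraMap k[X]⟦X⟧ (FractionRing k[X]⟦X⟧) (v : k[X]⟦X⟧) *
        algebraMap k[X]⟦X⟧ (FractionRing k[X]⟦X⟧) ((v⁻¹ : (k[X]⟦X⟧)ˣ) : k[X]⟦X⟧) = 1 := by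
      rw [← map_mul, Units.mul_inv, map_one]
    have hV2 : algebraMap k[X]⟦X⟧ (FractionRing k[X]⟦X⟧) (v : k[X]⟦X⟧) =
        1 + aL (k := k) k[X] Polynomial.X * algebraMap k[X]⟦X⟧ (FractionRing k[X]⟦X⟧) PowerSeries.X := by
      rw [hv, map_add, map_one, map_mul]
      rfl
    rw [_root_.mul_inv, ← eq_inv_of_mul_eq_one_left hV, hV2, mul_add, _root_.mul_one, mul_left_comm,
      inv_mul_cancel₀ hX, _root_.mul_one, add_comm]
  obtain ⟨x, hx⟩ := exists_fixed x₀ a _ (K405.GaLaw.pt (k := k) (Polynomial.X : k[X]) ≫ φ)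
    (K405.GaLaw.pt (k := k) ti ≫ φ) hp ht
  refine ⟨x, isFixedPt_of_universal a x _ ?_ hx⟩
  intro T g
  refine ⟨affPt T (Polynomial.aeval (R := k) (A := Fn T) (Red.gaFn (g ≫ inv φ))), ?_⟩
  have h1 : affPt T (Polynomial.aeval (R := k) (A := Fn T) (Red.gaFn (g ≫ inv φ))) ≫
      K405.GaLaw.pt (k := k) (Polynomial.X : k[X]) = g ≫ inv φ := by
    rw [affPt_ptGa, Polynomial.aeval_X]
    exact gaPt_gaFn _ _
  rw [← Category.assoc, h1, Category.assoc, IsIso.inv_hom_id, Category.comp_id]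

/-- **`𝔾_m` acting on a proper scheme with a rational point has a fixed rational point.** -/
theorem exists_fixedPt_Gm {G X : Over (Spec (CommRingCat.of k))} [GrpObj G] [IsProper X.hom]
    (x₀ : 𝟙_ (Over (Spec (CommRingCat.of k))) ⟶ X) (a : AlgGrp.Action G X)
    (φ : Red.Gm (Spec (CommRingCat.of k)) ⟶ G) [IsMonHom φ] [IsIso φ] :
    ∃ x : 𝟙_ (Over (Spec (CommRingCat.of k))) ⟶ X, a.IsFixedPt x := by
  let A : Type u := MonoidAlgebra k (Multiplicative ℤ)
  let y : Aˣ :=
    { val := MonoidAlgebra.single (Multiplicative.ofAdd 1) 1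
      inv := MonoidAlgebra.single (Multiplicative.ofAdd (-1)) 1
      val_inv := by
        rw [MonoidAlgebra.single_mul_single, ← ofAdd_add, add_neg_cancel, _root_.mul_one]; rfl
      inv_val := by
        rw [MonoidAlgebra.single_mul_single, ← ofAdd_add, neg_add_cancel, _root_.mul_one]; rfl }
  have hp : (PowerSeries.C (y : A) : A⟦X⟧) ≠ 0 := by
    intro h
    have := congrArg PowerSeries.constantCoeff h
    rw [PowerSeries.constantCoeff_C, map_zero] at this
    exact y.ne_zero this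
  have hX : algebraMap k⟦X⟧ (FractionRing k⟦X⟧) PowerSeries.X ≠ 0 := by
    rw [ne_eq, FaithfulSMul.algebraMap_eq_zero_iff]
    exact PowerSeries.X_prime.ne_zero
  let ti : (FractionRing k⟦X⟧)ˣ := Units.mk0 (algebraMap k⟦X⟧ _ PowerSeries.X) hX
  have ht : (specMap k (aL A) ≫ (K405.GmLaw.pt (k := k) y ≫ φ)) *
      (specMap k (iotaK A) ≫ (K405.GmLaw.pt (k := k) ti ≫ φ)) =
      specMap k (subK A _ hp) ≫ (K405.GmLaw.pt (k := k) ti ≫ φ) := by
    rw [← Category.assoc, ← Category.assoc, ← Category.assoc]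
    refine Eq.trans (MonObj.mul_comp _ _ φ).symm ?_
    congr 1
    apply (GmPts.equiv _).injective
    rw [map_mul]
    have hinj : Function.Injective (Units.map ((fnSpec (R := k) (FractionRing A⟦X⟧)) :
        Fn (SpecOver k (FractionRing A⟦X⟧)) →* FractionRing A⟦X⟧)) :=
      Units.map_injective (fnSpec (R := k) (FractionRing A⟦X⟧)).injective
    apply hinj
    refine (MonoidHom.map_mul _ _ _).trans ?_
    change K405.GmLaw.co _ * K405.GmLaw.co _ = K405.GmLaw.co _
    rw [K405.GmLaw.co_comp, K405.GmLaw.co_comp, K405.GmLaw.co_comp, K405.GmLaw.co_pt,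
      K405.GmLaw.co_pt]
    apply Units.ext
    change aL (k := k) A (y : A) * iotaK (k := k) A (algebraMap k⟦X⟧ _ PowerSeries.X) =
      subK (k := k) A _ hp (algebraMap k⟦X⟧ _ PowerSeries.X)
    rw [iotaK_algebraMap, subK_algebraMap, sub_X, PowerSeries.mapAlgHom_apply, PowerSeries.map_X,
      map_mul, mul_comm]
    rfl
  obtain ⟨x, hx⟩ := exists_fixed x₀ a _ (K405.GmLaw.pt (k := k) y ≫ φ)
    (K405.GmLaw.pt (k := k) ti ≫ φ) hp ht
  refine ⟨x, isFixedPt_of_universal a x _ ?_ hx⟩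
  intro T g
  let u : (Fn T)ˣ := GmPts.unitOfPt (g ≫ inv φ)
  let ch : A →ₐ[k] Fn T := MonoidAlgebra.lift k (Fn T) (Multiplicative ℤ)
    ((Units.coeHom (Fn T)).comp (zpowersHom (Fn T)ˣ u))
  refine ⟨affPt T ch, ?_⟩
  have h1 : affPt T ch ≫ K405.GmLaw.pt (k := k) y = g ≫ inv φ := by
    rw [affPt_ptGm]
    have : Units.map (ch : A →* Fn T) y = u := by
      ext
      change ch (MonoidAlgebra.single (Multiplicative.ofAdd 1) 1) = _
      rw [MonoidAlgebra.lift_single]
      simp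
    rw [this]
    exact GmPts.ptOfUnit_unitOfPt _
  rw [← Category.assoc, h1, Category.assoc, IsIso.inv_hom_id, Category.comp_id]

end

end K405.FixGa
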