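import Groth.Prelude.Def_W4c2lssmoduliGProp
import Groth.Agent.AlgSp.K603.DvrSch
import Groth.Agent.S2335
import Mathlib.AlgebraicGeometry.ValuativeCriterion

/-!
# G-universally closed morphisms
-/

set_option autoImplicit false
universe u
open CategoryTheory MonoidalCategory CartesianMonoidalCategory AlgebraicGeometry Limits

namespace K405.GUniv

section one

open IsLocalRing

set_option backward.isDefEq.respectTransparency false in
/-- Existence of a lift in one valuative square from a specialization property of one base change. -/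
lemma exists_lift_of_specializingMap {X Y : Scheme.{u}} (f : X ⟶ Y) (R K : Type u) [CommRing R] [IsDomain R]
    [ValuationRing R] [Field K] [Algebra R K] [IsFractionRing R K]
    (i₁ : Spec (CommRingCat.of K) ⟶ X) (i₂ : Spec (CommRingCat.of R) ⟶ Y)
    (w : i₁ ≫ f = Spec.map (CommRingCat.ofHom (algebraMap R K)) ≫ i₂)
    (H : SpecializingMap (pullback.fst i₂ f)) :
    ∃ l : Spec (CommRingCat.of R) ⟶ X, Spec.map (CommRingCat.ofHom (algebraMap R K)) ≫ l = i₁ ∧ l ≫ f = i₂ := by
  have : IsDomain (CommRingCat.of R) := ‹_›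
  have : ValuationRing (CommRingCat.of R) := ‹_›
  let : Field (CommRingCat.of K) := ‹_›
  let lft := pullback.lift (Spec.map (CommRingCat.ofHom (algebraMap R K))) i₁ w.symm
  obtain ⟨x, h₁, h₂⟩ := @H (lft (closedPoint _)) _ (specializes_closedPoint (R := R) _)
  let e : CommRingCat.of R ≅ (Spec <| .of R).presheaf.stalk (pullback.fst i₂ f x) :=
    (stalkClosedPointIso (.of R)).symm ≪≫
      (Spec <| .of R).presheaf.stalkCongr (.of_eq h₂.symm)
  let α := e.hom ≫ (pullback.fst i₂ f).stalkMap x
  have : IsLocalHom e.hom.hom := isLocalHom_of_isIso e.hom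
  have : IsLocalHom α.hom := inferInstanceAs
    (IsLocalHom (((pullback.fst i₂ f).stalkMap x).hom.comp e.hom.hom))
  let β := (pullback i₂ f).presheaf.stalkSpecializes h₁ ≫ Scheme.stalkClosedPointTo lft
  have hαβ : α ≫ β = CommRingCat.ofHom (algebraMap R K) := by
    simp only [CommRingCat.coe_of, Iso.trans_hom, Iso.symm_hom, TopCat.Presheaf.stalkCongr_hom,
      Category.assoc, α, e, β, stalkClosedPointIso_inv, StructureSheaf.toStalk]
    change (Scheme.ΓSpecIso (.of R)).inv ≫ (Spec <| .of R).presheaf.germ _ _ _ ≫ _ = _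
    simp only [TopCat.Presheaf.germ_stalkSpecializes_assoc, Scheme.Hom.germ_stalkMap_assoc]
    simp only [TopologicalSpace.Opens.map_top]
    rw [Scheme.germ_stalkClosedPointTo lft ⊤ trivial]
    erw [← Scheme.Hom.comp_app_assoc lft (pullback.fst i₂ f)]
    rw [pullback.lift_fst]
    simp
  have hbij := (bijective_rangeRestrict_comp_of_valuationRing (R := R) (K := K) α.hom β.hom
    (CommRingCat.hom_ext_iff.mp hαβ))
  let φ : (pullback i₂ f).presheaf.stalk x ⟶ CommRingCat.of R := CommRingCat.ofHom <|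
    (RingEquiv.ofBijective _ hbij).symm.toRingHom.comp β.hom.rangeRestrict
  have hαφ : α ≫ φ = 𝟙 _ := by ext x; exact (RingEquiv.ofBijective _ hbij).symm_apply_apply x
  have hαφ' : (pullback.fst i₂ f).stalkMap x ≫ φ = e.inv := by
    rw [← cancel_epi e.hom, ← Category.assoc, hαφ, e.hom_inv_id]
  have hφβ : φ ≫ CommRingCat.ofHom (algebraMap R K) = β :=
    hαβ ▸ CommRingCat.hom_ext (RingHom.ext fun x ↦ congr_arg Subtype.val
      ((RingEquiv.ofBijective _ hbij).apply_symm_apply (β.hom.rangeRestrict x)))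
  refine ⟨Spec.map ((pullback.snd i₂ f).stalkMap x ≫ φ) ≫ X.fromSpecStalk _, ?_, ?_⟩
  · simp only [← Spec.map_comp_assoc, Category.assoc, hφβ]
    simp only [Spec.map_comp, Category.assoc, Scheme.SpecMap_stalkMap_fromSpecStalk,
      Scheme.SpecMap_stalkSpecializes_fromSpecStalk_assoc, β]
    rw [Scheme.Spec_stalkClosedPointTo_fromSpecStalk_assoc]
    simp [lft]
  · simp only [Spec.map_comp, Category.assoc, Scheme.SpecMap_stalkMap_fromSpecStalk,
      ← pullback.condition]
    rw [← Scheme.SpecMap_stalkMap_fromSpecStalk_assoc, ← Spec.map_comp_assoc, hαφ']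
    simp only [Iso.trans_inv, TopCat.Presheaf.stalkCongr_inv, Iso.symm_inv, Spec.map_comp,
      Category.assoc, Scheme.SpecMap_stalkSpecializes_fromSpecStalk_assoc, e]
    rw [← Spec_stalkClosedPointIso, ← Spec.map_comp_assoc,
      Iso.inv_hom_id, Spec.map_id, Category.id_comp]

end one

section main

open W4c2lssmoduli

/-- points of a fibre product, for an abstract cartesian square -/
theorem exists_preimage {P X Y Z : Scheme.{u}} {fst : P ⟶ X} {snd : P ⟶ Y} {f : X ⟶ Z} {g : Y ⟶ Z}
    (h : IsPullback fst snd f g) (x : X) (y : Y) (e : f x = g y) : ∃ z : P, fst z = x ∧ snd z = y := by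
  obtain ⟨w, hw1, hw2⟩ := Scheme.Pullback.exists_preimage_pullback (f := f) (g := g) x y e
  refine ⟨h.isoPullback.inv w, ?_, ?_⟩
  · rw [← Scheme.Hom.comp_apply, h.isoPullback_inv_fst, hw1]
  · rw [← Scheme.Hom.comp_apply, h.isoPullback_inv_snd, hw2]

variable {k : Type u} [Field k] {G R S T : Over (Spec (CommRingCat.of k))} [GrpObj G]
  (a : AlgGrp.Action G R) (f : R ⟶ S) (q : S ⟶ T)

/-- Closedness after base change to a locally Noetherian scheme. -/
theorem isClosed_image [LocallyOfFiniteType (f ≫ q).left] [QuasiCompact (f ≫ q).left]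
    (hf : IsInvariantMor a f) (hp : IsGUnivClosed a (f ≫ q))
    {T' : Scheme.{u}} [IsLocallyNoetherian T'] (t : T' ⟶ T.left)
    (C : Set ↥(pullback q.left t)) (hC : IsClosed C)
    (hC' : C ⊆ (pullback.fst q.left t) ⁻¹' (Set.range f.left)) :
    IsClosed ((pullback.snd q.left t) '' C) := by
  let f' : pullback (f ≫ q).left t ⟶ pullback q.left t :=
    pullback.lift (pullback.fst _ _ ≫ f.left) (pullback.snd _ _) (by
      rw [Category.assoc, ← Over.comp_left, pullback.condition])
  have hf'1 : f' ≫ pullback.fst _ _ = pullback.fst _ _ ≫ f.left := pullback.lift_fst _ _ _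
  have hf'2 : f' ≫ pullback.snd _ _ = pullback.snd _ _ := pullback.lift_snd _ _ _
  have hpb : IsPullback f' (pullback.fst _ _) (pullback.fst q.left t) f.left := by
    refine IsPullback.of_right (h₁₂ := pullback.snd q.left t) (h₂₂ := q.left) (v₁₃ := t) ?_ hf'1
      (IsPullback.of_hasPullback q.left t).flip
    rw [hf'2, ← Over.comp_left]
    exact (IsPullback.of_hasPullback (f ≫ q).left t).flip
  let D : TopologicalSpace.Closeds ↥(pullback (f ≫ q).left t) := ⟨f' ⁻¹' C, hC.preimage f'.continuous⟩
  let ι := (Scheme.IdealSheafData.vanishingIdeal D).subschemeι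
  have hι : Set.range ι = f' ⁻¹' C := by
    rw [Scheme.IdealSheafData.range_subschemeι, Scheme.IdealSheafData.coe_support_vanishingIdeal]
    rfl
  have himg : (pullback.snd q.left t) '' C = Set.range (ι ≫ pullback.snd (f ≫ q).left t) := by
    ext y
    constructor
    · rintro ⟨c, hc, rfl⟩
      obtain ⟨r, hr⟩ := hC' hc
      obtain ⟨r', hr'1, hr'2⟩ := exists_preimage hpb c r hr.symm
      have : r' ∈ Set.range ι := by rw [hι]; change f' r' ∈ C; rw [hr'1]; exact hc
      obtain ⟨d, hd⟩ := this
      refine ⟨d, ?_⟩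
      rw [Scheme.Hom.comp_apply, hd, ← hf'2, Scheme.Hom.comp_apply, hr'1]
    · rintro ⟨d, rfl⟩
      have : ι d ∈ f' ⁻¹' C := by rw [← hι]; exact ⟨d, rfl⟩
      refine ⟨f' (ι d), this, ?_⟩
      rw [Scheme.Hom.comp_apply, ← hf'2, Scheme.Hom.comp_apply]
  rw [himg]
  apply isClosed_of_closure_subset
  intro y hy
  obtain ⟨A, _, _, _, α, κ, hκ, hα⟩ := K603.DvrSch.exists_dvr_of_mem_closure _ y hy
  rw [← himg]
  let j := Spec.map (CommRingCat.ofHom (algebraMap A (FractionRing A)))
  let sA : Spec (CommRingCat.of A) ⟶ Spec (CommRingCat.of k) := α ≫ t ≫ T.hom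
  have hκ' : κ ≫ ι ≫ pullback.fst (f ≫ q).left t ≫ (f ≫ q).left = j ≫ α ≫ t := by
    rw [pullback.condition, ← Category.assoc ι, ← Category.assoc κ, hκ, Category.assoc]
  let g : Over.mk (Spec.map (CommRingCat.ofHom (algebraMap A (FractionRing A))) ≫ sA) ⟶ R :=
    Over.homMk (κ ≫ ι ≫ pullback.fst _ _) (by
      change _ = j ≫ α ≫ t ≫ T.hom
      rw [← Over.w (f ≫ q)]
      simp only [Category.assoc]
      rw [reassoc_of% hκ'])
  let h : Over.mk sA ⟶ T := Over.homMk (α ≫ t) (by simp [sA])
  obtain ⟨i, γ, hi1, hi2⟩ := hp.2 A (FractionRing A) sA g h (by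
    ext1
    change (κ ≫ ι ≫ pullback.fst _ _) ≫ (f ≫ q).left = j ≫ α ≫ t
    simpa only [Category.assoc] using hκ')
  let i' : Spec (CommRingCat.of A) ⟶ pullback (f ≫ q).left t := pullback.lift i.left α (by
    rw [← Over.comp_left, hi1]; rfl)
  have hi'1 : i' ≫ pullback.fst _ _ = i.left := pullback.lift_fst _ _ _
  have hi'2 : i' ≫ pullback.snd _ _ = α := pullback.lift_snd _ _ _
  have hinv : (CartesianMonoidalCategory.lift γ g ≫ a.act) ≫ f = g ≫ f := by
    rw [Category.assoc, hf, CartesianMonoidalCategory.lift_snd_assoc]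
  have key : j ≫ i' ≫ f' = κ ≫ ι ≫ f' := by
    apply pullback.hom_ext
    · simp only [Category.assoc]
      rw [hf'1, reassoc_of% hi'1]
      have h1 := congrArg (fun z => z ≫ f) hi2
      rw [hinv] at h1
      have h2 := congrArg (fun z => Over.Hom.left z) h1
      simp only [Over.comp_left, Category.assoc] at h2
      exact h2
    · simp only [Category.assoc]
      rw [hf'2, hi'2]
      simpa only [Category.assoc] using hκ.symm
  have hgen : i' (j (IsLocalRing.closedPoint (FractionRing A))) ∈ f' ⁻¹' C := by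
    have h1 : ι (κ (IsLocalRing.closedPoint (FractionRing A))) ∈ f' ⁻¹' C := by rw [← hι]; exact ⟨_, rfl⟩
    have h2 := congrArg (fun z => z (IsLocalRing.closedPoint (FractionRing A))) key
    simp only [Scheme.Hom.comp_apply] at h2
    change f' _ ∈ C
    rw [h2]
    exact h1
  have hcl : i' (IsLocalRing.closedPoint A) ∈ f' ⁻¹' C := by
    have h1 : j (IsLocalRing.closedPoint (FractionRing A)) ⤳ IsLocalRing.closedPoint A :=
      IsLocalRing.specializes_closedPoint _
    exact (h1.map i'.continuous).mem_closed (hC.preimage f'.continuous) hgen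
  refine ⟨f' (i' (IsLocalRing.closedPoint A)), hcl, ?_⟩
  rw [← Scheme.Hom.comp_apply, hf'2, ← Scheme.Hom.comp_apply, hi'2, hα]

theorem isDominant_specMap {A K : Type u} [CommRing A] [IsDomain A] [Field K] [Algebra A K] [IsFractionRing A K] :
    IsDominant (Spec.map (CommRingCat.ofHom (algebraMap A K))) := by
  refine ⟨?_⟩
  change DenseRange (PrimeSpectrum.comap (algebraMap A K))
  rw [PrimeSpectrum.denseRange_comap_iff_ker_le_nilRadical,
    (RingHom.injective_iff_ker_eq_bot (algebraMap A K)).1 (IsFractionRing.injective A K)]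
  exact bot_le

/-- Cancellation for `G`-universally closed morphisms. -/
theorem isGUnivClosed_of_comp [IsSeparated q.left] (hf : IsInvariantMor a f) (hp : IsGUnivClosed a (f ≫ q)) :
    IsGUnivClosed a f := by
  refine ⟨hf, fun A _ _ _ K _ _ _ sA g h hgh => ?_⟩
  obtain ⟨i, γ, hi1, hi2⟩ := hp.2 A K sA g (h ≫ q) (by rw [← Category.assoc, hgh, Category.assoc])
  refine ⟨i, γ, ?_, hi2⟩
  have hinv : (CartesianMonoidalCategory.lift γ g ≫ a.act) ≫ f = g ≫ f := by
    rw [Category.assoc, hf, CartesianMonoidalCategory.lift_snd_assoc]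
  ext1
  have hr : IsReduced (Over.mk sA).left := inferInstanceAs (IsReduced (Spec (CommRingCat.of A)))
  have hd := isDominant_specMap (A := A) (K := K)
  refine ext_of_isDominant_of_isSeparated q.left ?_ (Spec.map (CommRingCat.ofHom (algebraMap A K))) ?_
  · rw [← Over.comp_left, ← Over.comp_left, Category.assoc, hi1]
  · have h1 := congrArg (fun z => z ≫ f) hi2
    rw [hinv, hgh] at h1
    have h2 := congrArg (fun z => Over.Hom.left z) h1
    simp only [Over.comp_left] at h2
    exact h2

/-- The image of a `G`-universally closed morphism is closed. -/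
theorem isClosed_range [IsLocallyNoetherian S.left] [LocallyOfFiniteType f.left] [QuasiCompact f.left]
    (hf : IsGUnivClosed a f) : IsClosed (Set.range f.left) := by
  apply isClosed_of_closure_subset
  intro y hy
  obtain ⟨A, _, _, _, α, κ, hκ, hα⟩ := K603.DvrSch.exists_dvr_of_mem_closure _ y hy
  let sA : Spec (CommRingCat.of A) ⟶ Spec (CommRingCat.of k) := α ≫ S.hom
  let g : Over.mk (Spec.map (CommRingCat.ofHom (algebraMap A (FractionRing A))) ≫ sA) ⟶ R :=
    Over.homMk κ (by
      change κ ≫ R.hom = Spec.map (CommRingCat.ofHom (algebraMap A (FractionRing A))) ≫ α ≫ S.hom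
      rw [← Over.w f, reassoc_of% hκ])
  obtain ⟨i, γ, hi1, hi2⟩ := hf.2 A (FractionRing A) sA g (Over.homMk α rfl) (by
    ext1
    exact hκ)
  refine ⟨i.left (IsLocalRing.closedPoint A), ?_⟩
  rw [← Scheme.Hom.comp_apply, ← Over.comp_left, hi1, ← hα]
  rfl

/-- The reduced image is proper. -/
theorem isProper [IsLocallyNoetherian T.left] [LocallyOfFiniteType (f ≫ q).left] [QuasiCompact (f ≫ q).left]
    [LocallyOfFiniteType q.left] [QuasiCompact q.left] [IsSeparated q.left]
    (hf : IsInvariantMor a f) (hp : IsGUnivClosed a (f ≫ q))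
    {Z : Scheme.{u}} (z : Z ⟶ S.left) [IsClosedImmersion z] (hz : Set.range z ⊆ Set.range f.left) :
    IsProper (z ≫ q.left) := by
  rw [Groth.Agent.S2335.result (z ≫ q.left)]
  intro A _ _ _ x y hxy
  have hd := isDominant_specMap (A := A) (K := FractionRing A)
  have hcl : IsClosedMap (pullback.fst y (z ≫ q.left)) := by
    intro C₀ hC₀
    let m : pullback y (z ≫ q.left) ⟶ pullback q.left y :=
      pullback.lift (pullback.snd _ _ ≫ z) (pullback.fst _ _) (by
        rw [Category.assoc, pullback.condition])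
    have hm1 : m ≫ pullback.fst _ _ = pullback.snd _ _ ≫ z := pullback.lift_fst _ _ _
    have hm2 : m ≫ pullback.snd _ _ = pullback.fst _ _ := pullback.lift_snd _ _ _
    have hpb : IsPullback m (pullback.snd _ _) (pullback.fst q.left y) z := by
      refine IsPullback.of_right (h₁₂ := pullback.snd q.left y) (h₂₂ := q.left) (v₁₃ := y) ?_ hm1
        (IsPullback.of_hasPullback q.left y).flip
      rw [hm2]
      exact (IsPullback.of_hasPullback y (z ≫ q.left))
    have hmc : IsClosedImmersion m := MorphismProperty.of_isPullback hpb.flip ‹_›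
    have h1 := isClosed_image a f q hf hp y (m '' C₀) (m.isClosedEmbedding.isClosedMap _ hC₀) (by
      rintro _ ⟨c, hc, rfl⟩
      apply hz
      rw [← Scheme.Hom.comp_apply, hm1, Scheme.Hom.comp_apply]
      exact ⟨_, rfl⟩)
    convert h1 using 1
    rw [← hm2, Set.image_image]
    rfl
  obtain ⟨l, hl1, hl2⟩ := exists_lift_of_specializingMap (z ≫ q.left) A (FractionRing A) x y hxy
    hcl.specializingMap
  refine ⟨l, ⟨hl2, hl1⟩, fun l' hl' => ?_⟩
  exact ext_of_isDominant_of_isSeparated (z ≫ q.left) (hl'.1.trans hl2.symm) 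
    (Spec.map (CommRingCat.ofHom (algebraMap A (FractionRing A)))) (hl'.2.trans hl1.symm)

end main

end K405.GUniv
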