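import Groth.Agent.AlgGrp.K405.Devissage
import Groth.Agent.Ega43.DvrScheme
import Groth.Agent.Ega4B.NagIntClos
import Mathlib.Algebra.Polynomial.Reverse
import Mathlib.RingTheory.EssentialFiniteness

/-!
# Integrality tested on discrete valuation rings; the base case of the dévissage
-/

set_option autoImplicit false
universe u
open Polynomial

namespace K405.InvInt

section dvr

/-- `1 ∈ x⁻¹ A[x⁻¹]` implies that `x` is integral. -/
theorem isIntegral_of_eq {A L : Type*} [CommRing A] [Field L] [Algebra A L] {x : L} (hx : x ≠ 0) (h : A[X])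
    (hh : x⁻¹ * aeval x⁻¹ h = 1) : IsIntegral A x := by
  have hnt : Nontrivial A := (algebraMap A L).domain_nontrivial
  let P : A[X] := 1 - X * h
  have hP0 : P.coeff 0 = 1 := by simp [P]
  have hP : aeval x⁻¹ P = 0 := by simp [P, hh]
  have hx' : x⁻¹ ≠ 0 := inv_ne_zero hx
  have hinv : Invertible x⁻¹ := invertibleOfNonzero hx'
  refine ⟨P.reverse, ?_, ?_⟩
  · rw [Polynomial.Monic, reverse_leadingCoeff, trailingCoeff, 
      natTrailingDegree_eq_zero_of_constantCoeff_ne_zero (by simp [hP0]), hP0]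
  · have := (eval₂_reverse_eq_zero_iff (algebraMap A L) x⁻¹ P).2 hP
    rwa [invOf_eq_inv, inv_inv] at this

/-- Integrality is tested on discrete valuation rings. -/
theorem exists_dvr_not_mem {A : Type u} {L : Type u} [CommRing A] [IsNoetherianRing A] [Field L] [Algebra A L]
    [Algebra.EssFiniteType A L] {x : L} (hx : ¬ IsIntegral A x) :
    ∃ (R : Type u) (_ : CommRing R) (_ : IsDomain R) (_ : IsDiscreteValuationRing R)
      (_ : Algebra R L) (_ : IsFractionRing R L) (g : A →+* R),
        (algebraMap R L).comp g = algebraMap A L ∧ x ∉ Set.range (algebraMap R L) := by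
  have hx0 : x ≠ 0 := by
    rintro rfl
    exact hx isIntegral_zero
  let φ : A[X] →ₐ[A] L := aeval x⁻¹
  let I : Ideal A[X] := RingHom.ker φ ⊔ Ideal.span {X}
  have hI : I ≠ ⊤ := by
    intro h
    have h1 : (1 : A[X]) ∈ I := by rw [h]; trivial
    obtain ⟨r, hr, y, hy, hry⟩ := Submodule.mem_sup.1 h1
    obtain ⟨c, rfl⟩ := Ideal.mem_span_singleton'.1 hy
    have h2 := congrArg φ hry
    rw [map_add, (RingHom.mem_ker).1 hr, zero_add, map_mul, map_one] at h2
    apply hx
    refine isIntegral_of_eq hx0 c ?_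
    simpa [φ, mul_comm] using h2
  obtain ⟨m, hm, hIm⟩ := Ideal.exists_le_maximal I hI
  let O := Localization.AtPrime m
  have hO : IsNoetherianRing O := IsLocalization.isNoetherianRing m.primeCompl O inferInstance
  have hunit : ∀ y : m.primeCompl, IsUnit (φ y) := by
    rintro ⟨y, hy⟩
    rw [isUnit_iff_ne_zero]
    intro h
    exact hy (hIm (Ideal.mem_sup_left ((RingHom.mem_ker).2 h)))
  let ψ : O →+* L := IsLocalization.lift (M := m.primeCompl) (g := φ.toRingHom) hunit
  have hψ : ∀ y, ψ (algebraMap A[X] O y) = φ y := fun y => IsLocalization.lift_eq _ _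
  have hXm : (X : A[X]) ∈ m := hIm (Ideal.mem_sup_right (Ideal.subset_span rfl))
  have hess : ψ.EssFiniteType := by
    let _ := ψ.toAlgebra
    have h1 : IsScalarTower A O L := IsScalarTower.of_algebraMap_eq fun a => by
      change _ = ψ (algebraMap A O a)
      rw [IsScalarTower.algebraMap_apply A A[X] O, hψ]
      simp [φ]
    exact Algebra.EssFiniteType.of_comp A O L
  have hker : RingHom.ker ψ ≠ IsLocalRing.maximalIdeal O := by
    intro h
    have h1 : algebraMap A[X] O X ∈ IsLocalRing.maximalIdeal O := by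
      rw [← IsLocalization.AtPrime.to_map_mem_maximal_iff (I := m) O] at *
      exact hXm
    rw [← h, RingHom.mem_ker, hψ] at h1
    simp only [φ, aeval_X] at h1
    exact inv_ne_zero hx0 h1
  obtain ⟨R, _, _, _, _, _, g, hg1, hg2⟩ :=
    Groth.Agent.Ega43.DvrScheme.exists_dvr_of_ringHom O L ψ hess hker
  refine ⟨R, inferInstance, inferInstance, inferInstance, inferInstance, inferInstance,
    g.comp (algebraMap A O), ?_, ?_⟩
  · rw [← RingHom.comp_assoc, hg2]
    ext a
    change ψ (algebraMap A O a) = _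
    rw [IsScalarTower.algebraMap_apply A A[X] O, hψ]
    simp [φ]
  · rintro ⟨r, hr⟩
    have h1 : algebraMap R L (r * g (algebraMap A[X] O X)) = 1 := by
      rw [map_mul, hr]
      have h2 : algebraMap R L (g (algebraMap A[X] O X)) = ψ (algebraMap A[X] O X) := by rw [← hg2]; rfl
      rw [h2, hψ]
      simp [φ, mul_inv_cancel₀ hx0]
    have h3 : r * g (algebraMap A[X] O X) = 1 := IsFractionRing.injective R L (by rw [h1, map_one])
    have h4 : IsUnit (g (algebraMap A[X] O X)) := IsUnit.of_mul_eq_one r (by rw [mul_comm, h3])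
    have h5 : IsUnit (algebraMap A[X] O X) := (isUnit_map_iff g _).1 h4
    have h6 := (IsLocalization.AtPrime.isUnit_to_map_iff O m X).1 h5
    exact h6 hXm

end dvr

section primes

/-- Integrality modulo an ideal of a Noetherian ring is tested modulo the primes containing it. -/
theorem isIntegral_of_primes {A C : Type*} [CommRing A] [CommRing C] [Algebra A C] [IsNoetherianRing C]
    (J : Ideal C) (s : C) (h : ∀ p : Ideal C, p.IsPrime → J ≤ p → IsIntegral A (Ideal.Quotient.mk p s)) :
    IsIntegral A (Ideal.Quotient.mk J s) := by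
  classical
  have hfin : J.minimalPrimes.Finite := Ideal.finite_minimalPrimes_of_isNoetherianRing C J
  have h1 : ∀ p : Ideal C, ∃ P : A[X], P.Monic ∧ (p ∈ J.minimalPrimes → aeval s P ∈ p) := by
    intro p
    by_cases hp : p ∈ J.minimalPrimes
    · obtain ⟨P, hP, hP'⟩ := h p hp.1.1 hp.1.2
      refine ⟨P, hP, fun _ => ?_⟩
      rw [← Ideal.Quotient.eq_zero_iff_mem]
      have h2 : Ideal.Quotient.mk p (aeval s P) = aeval (Ideal.Quotient.mk p s) P :=
        (aeval_algHom_apply (Ideal.Quotient.mkₐ A p) s P).symm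
      rw [h2]
      exact hP'
    · exact ⟨1, monic_one, fun h => absurd h hp⟩
  choose P hP hP' using h1
  let Q : A[X] := ∏ p ∈ hfin.toFinset, P p
  have hQ : Q.Monic := monic_prod_of_monic _ _ fun p _ => hP p
  have hQ' : aeval s Q ∈ J.radical := by
    rw [← Ideal.sInf_minimalPrimes, Submodule.mem_sInf]
    intro p hp
    have h3 : P p ∣ Q := Finset.dvd_prod_of_mem P (hfin.mem_toFinset.2 hp)
    obtain ⟨c, hc⟩ := h3
    rw [hc, map_mul]
    exact Ideal.mul_mem_right _ _ (hP' p hp)
  obtain ⟨n, hn⟩ := hQ'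
  refine ⟨Q ^ n, hQ.pow n, ?_⟩
  have h2 : Ideal.Quotient.mk J (aeval s (Q ^ n)) = aeval (Ideal.Quotient.mk J s) (Q ^ n) :=
    (aeval_algHom_apply (Ideal.Quotient.mkₐ A J) s (Q ^ n)).symm
  change aeval (Ideal.Quotient.mk J s) (Q ^ n) = 0
  rw [← h2, Ideal.Quotient.eq_zero_iff_mem, map_pow]
  exact hn

/-- Integrality modulo `J` from discrete valuation rings of the residue fields. -/
theorem isIntegral_of_dvr {A C : Type u} [CommRing A] [IsNoetherianRing A] [CommRing C] [Algebra A C]
    [Algebra.FiniteType A C] (J : Ideal C) (s : C)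
    (h : ∀ (p : Ideal C) [p.IsPrime], J ≤ p → ∀ (R : Type u) [CommRing R] [IsDomain R]
      [IsDiscreteValuationRing R] [Algebra R (FractionRing (C ⧸ p))] [IsFractionRing R (FractionRing (C ⧸ p))]
      (g : A →+* R), (algebraMap R (FractionRing (C ⧸ p))).comp g = algebraMap A (FractionRing (C ⧸ p)) →
        algebraMap (C ⧸ p) (FractionRing (C ⧸ p)) (Ideal.Quotient.mk p s) ∈
          Set.range (algebraMap R (FractionRing (C ⧸ p)))) :
    IsIntegral A (Ideal.Quotient.mk J s) := by
  have hC : IsNoetherianRing C := Algebra.FiniteType.isNoetherianRing A C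
  refine isIntegral_of_primes J s fun p hp hJp => ?_
  by_contra hcon
  have hess : Algebra.EssFiniteType A (FractionRing (C ⧸ p)) := by
    have h1 : Algebra.FiniteType A (C ⧸ p) := inferInstance
    have h2 : Algebra.EssFiniteType (C ⧸ p) (FractionRing (C ⧸ p)) :=
      Algebra.EssFiniteType.of_isLocalization _ (nonZeroDivisors (C ⧸ p))
    exact Algebra.EssFiniteType.comp A (C ⧸ p) _
  have hcon' : ¬ IsIntegral A (algebraMap (C ⧸ p) (FractionRing (C ⧸ p)) (Ideal.Quotient.mk p s)) := by
    intro h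
    exact hcon ((isIntegral_algHom_iff (IsScalarTower.toAlgHom A (C ⧸ p) (FractionRing (C ⧸ p)))
      (IsFractionRing.injective _ _)).1 h)
  obtain ⟨R, _, _, _, _, _, g, hg1, hg2⟩ := exists_dvr_not_mem hcon'
  exact hg2 (h p hJp R g hg1)

end primes

section base

open K405.Devissage

variable {A C : Type u} [CommRing A] [CommRing C] [Algebra A C] [Algebra.FiniteType A C]
  {ι : Type*} {D : ι → Type*} [∀ j, CommRing (D j)] {α β : ∀ j, C →+* D j}
  (hA : ∀ j a, α j (algebraMap A C a) = β j (algebraMap A C a))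

theorem bdd_base (hN : CAlg.IsNagata A) (J : Ideal C)
    (hnz : ∀ s ∈ E α β hA J, s ∉ J → ∀ c, c * s ∈ J → c ∈ J)
    (hint : ∀ s ∈ E α β hA J, IsIntegral A (Ideal.Quotient.mk J s)) : Bdd (E α β hA J) J := by
  have hAn : IsNoetherianRing A := hN.1
  by_cases hJ : J = ⊤
  · apply bdd_self
    rw [hJ]
    exact le_top
  obtain ⟨m, hm, hJm⟩ := Ideal.exists_le_maximal J hJ
  obtain ⟨p, hp, -⟩ := Ideal.exists_minimalPrimes_le (I := J) (J := m) hJm
  have hpp : p.IsPrime := hp.1.1
  have h1 : E α β hA J ⊓ p.restrictScalars A ≤ J.restrictScalars A := by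
    rintro s ⟨hs1, hs2⟩
    by_contra hsJ
    obtain ⟨y, hy, hxy⟩ := Ideal.exists_mul_mem_of_mem_minimalPrimes hp (x := s) hs2
    exact hy (hnz s hs1 hsJ y (by rwa [mul_comm]))
  refine bdd_trans (I := p) ?_ (bdd_self h1)
  rw [bdd_iff]
  have h2 : Module.Finite A (integralClosure A (C ⧸ p)) := Groth.Agent.Ega4B.NagIntClos.finite_of_isReduced hN
  have h3 : (Subalgebra.toSubmodule (integralClosure A (C ⧸ p))).FG := Module.Finite.iff_fg.1 h2
  refine (isNoetherian_submodule.1 (isNoetherian_of_fg_of_noetherian _ h3)) _ ?_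
  rintro _ ⟨s, hs, rfl⟩
  have h4 := (hint s hs).map (Ideal.Quotient.factorₐ A hp.1.2)
  exact h4

theorem bdd (hN : CAlg.IsNagata A) (hα : ∀ j, (α j).Flat) (hβ : ∀ j, (β j).Flat)
    (hint : ∀ (J : Ideal C) (s : C), s ∈ E α β hA J → IsIntegral A (Ideal.Quotient.mk J s))
    (J : Ideal C) (hJ : Stable α β J) : Bdd (E α β hA J) J := by
  have hAn : IsNoetherianRing A := hN.1
  have hC : IsNoetherianRing C := Algebra.FiniteType.isNoetherianRing A C
  exact bdd_E hA hα hβ (fun J _ hnz => bdd_base hA hN J hnz (hint J)) J hJ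

end base

end K405.InvInt
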