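import Groth.Prelude.Def_W4c2lssmoduliGProp
import Groth.Agent.AlgGrp.K405.InvInt
import Groth.Agent.AlgGrp.K404.Desc
import Groth.Agent.Sga3C.Transl
import Mathlib.AlgebraicGeometry.Morphisms.LocalIso
import Mathlib.AlgebraicGeometry.Morphisms.Descent

/-!
# Finiteness of the ring of invariants for a `G`-universally closed morphism to an affine scheme
-/

set_option autoImplicit false
universe u
open CategoryTheory MonoidalCategory CartesianMonoidalCategory AlgebraicGeometry Limits

namespace K405.InvFin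

/-- Lifting local points through a surjective local isomorphism. -/
theorem exists_lift_local {U Y : Scheme.{u}} (u : U ⟶ Y) [IsLocalIso u] [Surjective u]
    (R : CommRingCat.{u}) [IsLocalRing R] (t : Spec R ⟶ Y) : ∃ t' : Spec R ⟶ U, t' ≫ u = t := by
  obtain ⟨z, hz⟩ := u.surjective (t (IsLocalRing.closedPoint R))
  obtain ⟨W, hzW, hW⟩ := IsLocalIso.exists_isOpenImmersion (f := u) z
  have hr : Set.range t ⊆ Set.range (W.ι ≫ u) := by
    rintro _ ⟨x, rfl⟩
    have h1 : t x ⤳ t (IsLocalRing.closedPoint R) :=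
      (IsLocalRing.specializes_closedPoint x).map t.continuous
    refine h1.mem_open (W.ι ≫ u).isOpenEmbedding.isOpen_range ⟨⟨z, hzW⟩, ?_⟩
    rw [Scheme.Hom.comp_apply]
    exact hz
  exact ⟨IsOpenImmersion.lift (W.ι ≫ u) t hr ≫ W.ι, by
    rw [Category.assoc, IsOpenImmersion.lift_fac]⟩

variable {k : Type u} [Field k] {G Y : Over (Spec (CommRingCat.of k))} [GrpObj G]

/-- The action map is flat. -/
theorem flat_act (a : AlgGrp.Action G Y) : Flat a.act.left := by
  have h1 : a.act = (Groth.Agent.Sga3C.Transl.transl a (𝟙 G)).hom ≫ snd G Y := by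
    change _ = Groth.Agent.Sga3C.Transl.translHom a (𝟙 G) ≫ snd G Y
    rw [Groth.Agent.Sga3C.Transl.translHom_snd]
    simp
  have h2 : Flat (snd G Y).left := by
    have : Flat G.hom := by
      have : Subsingleton ↥(Spec (CommRingCat.of k)) := inferInstanceAs (Subsingleton (PrimeSpectrum k))
      infer_instance
    change Flat (pullback.snd G.hom Y.hom)
    infer_instance
  have h3 : IsIso (Groth.Agent.Sga3C.Transl.transl a (𝟙 G)).hom.left :=
    inferInstanceAs (IsIso ((Over.forget _).map (Groth.Agent.Sga3C.Transl.transl a (𝟙 G)).hom))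
  rw [h1, Over.comp_left]
  infer_instance

noncomputable section cover

variable (a : AlgGrp.Action G Y) {U : Scheme.{u}} (u : U ⟶ Y.left)

/-- `U` as an object over the field -/
abbrev UO : Over (Spec (CommRingCat.of k)) := Over.mk (u ≫ Y.hom)

/-- the cover as a morphism over the field -/
abbrev uO : UO u ⟶ Y := Over.homMk u rfl

/-- `(g, x) ↦ g u(x)` -/
def c : G ⊗ UO u ⟶ Y := (G ◁ uO u) ≫ a.act

/-- triples `(g, x, y)` with `g u(x) = u(y)` -/
def V : Scheme.{u} := pullback (c a u).left u

/-- first map -/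
def αV : V a u ⟶ U := pullback.fst (c a u).left u ≫ (snd G (UO u)).left

/-- second map -/
def βV : V a u ⟶ U := pullback.snd (c a u).left u

theorem flat_αV [Flat u] : Flat (αV a u) := by
  have h2 : Flat (snd G (UO u)).left := by
    have : Flat G.hom := by
      have : Subsingleton ↥(Spec (CommRingCat.of k)) := inferInstanceAs (Subsingleton (PrimeSpectrum k))
      infer_instance
    change Flat (pullback.snd G.hom (u ≫ Y.hom))
    infer_instance
  exact MorphismProperty.comp_mem @Flat _ _ (MorphismProperty.pullback_fst (P := @Flat) _ _ ‹Flat u›) h2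

theorem flat_βV [Flat u] : Flat (βV a u) := by
  have h1 : Flat (G ◁ uO u).left := by
    have := K404.Desc.tensorHom_left_of (@Flat) (𝟙 G) (uO u) (by rw [Over.id_left]; infer_instance)
      (by change Flat u; infer_instance)
    rwa [id_tensorHom] at this
  have h2 := flat_act a
  have h3 : Flat (c a u).left := by
    rw [c, Over.comp_left]
    infer_instance
  exact MorphismProperty.pullback_snd (P := @Flat) _ _ h3

theorem uO_inv {Z : Over (Spec (CommRingCat.of k))} (p : Y ⟶ Z) (hp : W4c2lssmoduli.IsInvariantMor a p) :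
    αV a u ≫ u ≫ p.left = βV a u ≫ u ≫ p.left := by
  have h1 : c a u ≫ p = snd G (UO u) ≫ uO u ≫ p := by
    rw [c, Category.assoc, hp, whiskerLeft_snd_assoc]
  have h2 := congrArg (fun z => Over.Hom.left z) h1
  simp only [Over.comp_left] at h2
  have h3 : pullback.fst (c a u).left u ≫ (c a u).left = pullback.snd (c a u).left u ≫ u := pullback.condition
  change (pullback.fst (c a u).left u ≫ (snd G (UO u)).left) ≫ u ≫ p.left =
    pullback.snd (c a u).left u ≫ u ≫ p.left
  rw [← Category.assoc (pullback.snd (c a u).left u), ← h3, Category.assoc, Category.assoc, h2]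
  rfl

/-- invariant functions pulled back to `U` -/
theorem uO_inv_fn (s : Γ(Y.left, ⊤)) (hs : a.act.left.appTop s = (snd G Y).left.appTop s) :
    (αV a u).appTop (u.appTop s) = (βV a u).appTop (u.appTop s) := by
  have h1 : (c a u).left.appTop s = (snd G (UO u)).left.appTop (u.appTop s) := by
    have h2 : (G ◁ uO u) ≫ snd G Y = snd G (UO u) ≫ uO u := whiskerLeft_snd _ _
    have h3 := congrArg (fun z => (Over.Hom.left z)) h2
    have h4 : (G ◁ uO u).left.appTop ((snd G Y).left.appTop s) =
        (snd G (UO u)).left.appTop (u.appTop s) := by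
      have := congrArg (fun z => Scheme.Hom.appTop z s) h3
      simp only [Over.comp_left, Scheme.Hom.comp_appTop] at this
      exact this
    rw [← h4, ← hs, c, Over.comp_left, Scheme.Hom.comp_appTop]
    rfl
  have h3 : pullback.fst (c a u).left u ≫ (c a u).left = pullback.snd (c a u).left u ≫ u := pullback.condition
  have h4 := congrArg (fun z => Scheme.Hom.appTop z s) h3
  simp only [Scheme.Hom.comp_appTop] at h4
  have h5 : (pullback.fst (c a u).left u).appTop ((c a u).left.appTop s) =
    (pullback.snd (c a u).left u).appTop (u.appTop s) := h4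
  rw [h1] at h5
  refine Eq.trans ?_ h5
  change (pullback.fst (c a u).left u ≫ (snd G (UO u)).left).appTop (u.appTop s) = _
  rw [Scheme.Hom.comp_appTop]
  rfl

/-- first family of ring maps -/
def αj (j : (V a u).affineOpens) : Γ(U, ⊤) →+* Γ(V a u, j.1) := ((αV a u).appLE ⊤ j.1 le_top).hom

/-- second family of ring maps -/
def βj (j : (V a u).affineOpens) : Γ(U, ⊤) →+* Γ(V a u, j.1) := ((βV a u).appLE ⊤ j.1 le_top).hom

theorem flat_αj [IsAffine U] [Flat u] (j : (V a u).affineOpens) : (αj a u j).Flat := by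
  have := flat_αV a u
  exact (αV a u).flat_appLE (isAffineOpen_top U) j.2 le_top

theorem flat_βj [IsAffine U] [Flat u] (j : (V a u).affineOpens) : (βj a u j).Flat := by
  have := flat_βV a u
  exact (βV a u).flat_appLE (isAffineOpen_top U) j.2 le_top

theorem αj_eq (j : (V a u).affineOpens) (x : Γ(U, ⊤)) (h : (αV a u).appTop x = (βV a u).appTop x) :
    αj a u j x = βj a u j x := by
  have h1 : αj a u j x = (V a u).presheaf.map (homOfLE le_top).op ((αV a u).appTop x) := by
    change _ = ((αV a u).appTop ≫ (V a u).presheaf.map (homOfLE le_top).op) x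
    rfl
  have h2 : βj a u j x = (V a u).presheaf.map (homOfLE le_top).op ((βV a u).appTop x) := by
    change _ = ((βV a u).appTop ≫ (V a u).presheaf.map (homOfLE le_top).op) x
    rfl
  rw [h1, h2, h]

variable {A : Type u} [CommRing A] [Algebra k A]
  (p : Y ⟶ Over.mk (Spec.map (CommRingCat.ofHom (algebraMap k A))))

/-- the structure map -/
def strC : A →+* Γ(U, ⊤) := ((Scheme.ΓSpecIso (CommRingCat.of A)).inv ≫ (u ≫ p.left).appTop).hom

theorem αj_strC (hp : W4c2lssmoduli.IsInvariantMor a p) (j : (V a u).affineOpens) (x : A) :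
    αj a u j (strC u p x) = βj a u j (strC u p x) := by
  apply αj_eq
  have h1 := uO_inv a u p hp
  have h2 := congrArg (fun z => Scheme.Hom.appTop z ((Scheme.ΓSpecIso (CommRingCat.of A)).inv x)) h1
  simp only [Scheme.Hom.comp_appTop] at h2
  exact h2

theorem strC_finiteType [IsAffine U] [LocallyOfFiniteType (u ≫ p.left)] : (strC u p).FiniteType := by
  have h1 : (u ≫ p.left).appTop.hom.FiniteType := by
    have : IsAffine (Over.mk (Spec.map (CommRingCat.ofHom (algebraMap k A)))).left :=
      inferInstanceAs (IsAffine (Spec _))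
    exact HasRingHomProperty.appTop (P := @LocallyOfFiniteType) _ inferInstance
  exact h1.comp (RingHom.FiniteType.of_surjective _
    (Scheme.ΓSpecIso (CommRingCat.of A)).symm.commRingCatIsoToRingEquiv.surjective)

end cover

section val

/-- morphisms to an affine scheme from an affine one, in terms of rings. -/
theorem specMap_comp_isoSpec_inv {U : Scheme.{u}} [IsAffine U] {A L : Type u} [CommRing A] [CommRing L]
    (v : U ⟶ Spec (CommRingCat.of A)) (x : Γ(U, ⊤) →+* L) :
    (Spec.map (CommRingCat.ofHom x) ≫ U.isoSpec.inv) ≫ v =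
      Spec.map (CommRingCat.ofHom (x.comp ((Scheme.ΓSpecIso (CommRingCat.of A)).inv ≫ v.appTop).hom)) := by
  rw [Category.assoc, ← Scheme.isoSpec_inv_naturality, Scheme.isoSpec_Spec_inv, ← Spec.map_comp,
    ← Spec.map_comp]
  rfl

theorem appTop_specMap_comp {U : Scheme.{u}} {R L : Type u} [CommRing R] [CommRing L]
    (φ : R →+* L) (i : Spec (CommRingCat.of R) ⟶ U) (s : Γ(U, ⊤)) :
    (Scheme.ΓSpecIso (CommRingCat.of L)).hom ((Spec.map (CommRingCat.ofHom φ) ≫ i).appTop s) =
      φ ((Scheme.ΓSpecIso (CommRingCat.of R)).hom (i.appTop s)) := by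
  have h2 := Scheme.ΓSpecIso_naturality (CommRingCat.ofHom φ)
  rw [Scheme.Hom.comp_appTop]
  exact congr(CommRingCat.Hom.hom $h2 (i.appTop s))

/-- evaluation of functions at a point with values in a ring -/
theorem appTop_specMap_isoSpec_inv {U : Scheme.{u}} [IsAffine U] {L : Type u} [CommRing L]
    (x : Γ(U, ⊤) →+* L) (s : Γ(U, ⊤)) :
    (Scheme.ΓSpecIso (CommRingCat.of L)).hom
      ((Spec.map (CommRingCat.ofHom x) ≫ U.isoSpec.inv).appTop s) = x s := by
  have h1 : U.isoSpec.inv.appTop ≫ (Scheme.ΓSpecIso Γ(U, ⊤)).hom = 𝟙 _ := by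
    rw [← cancel_epi (Scheme.ΓSpecIso Γ(U, ⊤)).hom, ← Category.assoc, Category.comp_id,
      ← Scheme.toSpecΓ_appTop, ← Scheme.Hom.comp_appTop, Scheme.isoSpec_inv_toSpecΓ,
      Scheme.Hom.id_appTop, Category.id_comp]
  have h2 := appTop_specMap_comp (R := Γ(U, ⊤)) x U.isoSpec.inv s
  refine h2.trans ?_
  congr 1
  exact congr(CommRingCat.Hom.hom $h1 s)

end val

section main

open K405.Devissage K405.InvInt

variable (a : AlgGrp.Action G Y) {U : Scheme.{u}} (u : U ⟶ Y.left) [IsAffine U] [IsLocalIso u] [Surjective u]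
  {A : Type u} [CommRing A] [Algebra k A]
  (p : Y ⟶ Over.mk (Spec.map (CommRingCat.ofHom (algebraMap k A))))
  (hp : W4c2lssmoduli.IsGUnivClosed a p)

include hp in
/-- The valuative input. -/
theorem mem_range {L : Type u} [Field L] (x : Γ(U, ⊤) →+* L)
    (s : Γ(U, ⊤)) (hs : ∀ j : (V a u).affineOpens, ∀ ρ : Γ(V a u, j.1) →+* L, ρ.comp (αj a u j) = x →
      ρ (αj a u j s) = ρ (βj a u j s))
    (R : Type u) [CommRing R] [IsDomain R] [IsDiscreteValuationRing R] [Algebra R L] [IsFractionRing R L]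
    (g : A →+* R) (hg : (algebraMap R L).comp g = x.comp (strC u p)) : x s ∈ Set.range (algebraMap R L) := by
  let sA : Spec (CommRingCat.of R) ⟶ Spec (CommRingCat.of k) :=
    Spec.map (CommRingCat.ofHom g) ≫ Spec.map (CommRingCat.ofHom (algebraMap k A))
  let x₀ : Spec (CommRingCat.of L) ⟶ U := Spec.map (CommRingCat.ofHom x) ≫ U.isoSpec.inv
  have hx₀ : x₀ ≫ u ≫ p.left = Spec.map (CommRingCat.ofHom (algebraMap R L)) ≫ Spec.map (CommRingCat.ofHom g) := by
    have h1 := specMap_comp_isoSpec_inv (u ≫ p.left : U ⟶ Spec (CommRingCat.of A)) x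
    refine h1.trans ?_
    rw [← Spec.map_comp, ← CommRingCat.ofHom_comp]
    congr 2
    exact hg.symm
  let xO : Over.mk (Spec.map (CommRingCat.ofHom (algebraMap R L)) ≫ sA) ⟶ UO u := Over.homMk x₀ (by
    change x₀ ≫ u ≫ Y.hom = _ ≫ Spec.map (CommRingCat.ofHom g) ≫ Spec.map (CommRingCat.ofHom (algebraMap k A))
    rw [← Over.w p, ← Category.assoc u, ← Category.assoc x₀, hx₀, Category.assoc]
    rfl)
  obtain ⟨i, γ, hi1, hi2⟩ := hp.2 R L sA (xO ≫ uO u) (Over.homMk (Spec.map (CommRingCat.ofHom g)) rfl) (by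
    ext1
    change (x₀ ≫ u) ≫ p.left = _
    rw [Category.assoc, hx₀]
    rfl)
  obtain ⟨i', hi'⟩ := exists_lift_local u (CommRingCat.of R) i.left
  have hcond : (lift γ xO).left ≫ (c a u).left = (Spec.map (CommRingCat.ofHom (algebraMap R L)) ≫ i') ≫ u := by
    rw [Category.assoc, hi', ← Over.comp_left, c]
    have h1 : lift γ xO ≫ (G ◁ uO u) ≫ a.act = lift γ (xO ≫ uO u) ≫ a.act := by
      refine (Category.assoc _ _ _).symm.trans ?_
      rw [lift_whiskerLeft]
    rw [h1, ← hi2]
    rfl
  let w : Spec (CommRingCat.of L) ⟶ V a u :=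
    pullback.lift (lift γ xO).left (Spec.map (CommRingCat.ofHom (algebraMap R L)) ≫ i') hcond
  have hw1 : w ≫ αV a u = x₀ := by
    have h1 : w ≫ pullback.fst (c a u).left u = (lift γ xO).left := pullback.lift_fst _ _ _
    change w ≫ pullback.fst (c a u).left u ≫ (snd G (UO u)).left = _
    rw [← Category.assoc, h1, ← Over.comp_left, lift_snd]
    rfl
  have hw2 : w ≫ βV a u = Spec.map (CommRingCat.ofHom (algebraMap R L)) ≫ i' := pullback.lift_snd _ _ _
  obtain ⟨_, ⟨W, hW, rfl⟩, hwW, -⟩ := (V a u).isBasis_affineOpens.exists_subset_of_mem_open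
    (Set.mem_univ (w (IsLocalRing.closedPoint L))) isOpen_univ
  have hle : (⊤ : (Spec (CommRingCat.of L)).Opens) ≤ w ⁻¹ᵁ W := by
    intro y _
    have : y = IsLocalRing.closedPoint L := Subsingleton.elim (α := PrimeSpectrum L) _ _
    rw [this]
    exact hwW
  let ρ : Γ(V a u, W) →+* L := (w.appLE W ⊤ hle ≫ (Scheme.ΓSpecIso (CommRingCat.of L)).hom).hom
  have htop : ∀ (v : Spec (CommRingCat.of L) ⟶ U) (e : ⊤ ≤ v ⁻¹ᵁ ⊤), v.appLE ⊤ ⊤ e = v.appTop :=
    fun v e => v.appLE_eq_app
  have hα : ∀ t, ρ (αj a u ⟨W, hW⟩ t) = x t := by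
    intro t
    rw [← appTop_specMap_isoSpec_inv x t]
    change (Scheme.ΓSpecIso (CommRingCat.of L)).hom (w.appLE W ⊤ hle ((αV a u).appLE ⊤ W le_top t)) = _
    have h1 := Scheme.Hom.appLE_comp_appLE w (αV a u) ⊤ W ⊤ le_top hle
    rw [htop (w ≫ αV a u), hw1] at h1
    congr 1
    exact congr(CommRingCat.Hom.hom $h1 t)
  have hβ : ∀ t, ρ (βj a u ⟨W, hW⟩ t) = algebraMap R L ((Scheme.ΓSpecIso (CommRingCat.of R)).hom (i'.appTop t)) := by
    intro t
    rw [← appTop_specMap_comp (algebraMap R L) i' t]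
    change (Scheme.ΓSpecIso (CommRingCat.of L)).hom (w.appLE W ⊤ hle ((βV a u).appLE ⊤ W le_top t)) = _
    have h1 := Scheme.Hom.appLE_comp_appLE w (βV a u) ⊤ W ⊤ le_top hle
    rw [htop (w ≫ βV a u), hw2] at h1
    congr 1
    exact congr(CommRingCat.Hom.hom $h1 t)
  have h3 := hs ⟨W, hW⟩ ρ (RingHom.ext hα)
  rw [hα, hβ] at h3
  exact ⟨_, h3.symm⟩

theorem hA (hp : W4c2lssmoduli.IsGUnivClosed a p) : letI := (strC u p).toAlgebra;
    ∀ (j : (V a u).affineOpens) (x : A), αj a u j (algebraMap A Γ(U, ⊤) x) = βj a u j (algebraMap A Γ(U, ⊤) x) :=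
  fun j x => αj_strC a u p hp.1 j x

/-- Boundedness of the invariants modulo a stable ideal. -/
theorem bdd (hN : CAlg.IsNagata A) [LocallyOfFiniteType (u ≫ p.left)] : letI := (strC u p).toAlgebra;
    ∀ J : Ideal Γ(U, ⊤), Stable (αj a u) (βj a u) J → Bdd (E (αj a u) (βj a u) (hA a u p hp) J) J := by
  let := (strC u p).toAlgebra
  intro J hJ
  have hfl : Flat u := (IsLocalIso.le_of_isZariskiLocalAtSource @Flat) _ _ _ ‹IsLocalIso u›
  have hAn : IsNoetherianRing A := hN.1
  have hft : Algebra.FiniteType A Γ(U, ⊤) := strC_finiteType u p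
  refine K405.InvInt.bdd (hA a u p hp) hN (flat_αj a u) (flat_βj a u) (fun J s hs => ?_) J hJ
  refine isIntegral_of_dvr J s fun q _ hJq R _ _ _ _ _ g hg => ?_
  refine mem_range a u p hp ((algebraMap (Γ(U, ⊤) ⧸ q) (FractionRing (Γ(U, ⊤) ⧸ q))).comp (Ideal.Quotient.mk q)) s
    (fun j ρ hρ => ?_) R g hg
  rw [← sub_eq_zero, ← map_sub]
  have h1 : J.map (αj a u j) ≤ RingHom.ker ρ := by
    rw [Ideal.map_le_iff_le_comap]
    intro c hc
    rw [Ideal.mem_comap, RingHom.mem_ker]
    change (ρ.comp (αj a u j)) c = 0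
    rw [hρ, RingHom.comp_apply, Ideal.Quotient.eq_zero_iff_mem.2 (hJq hc), map_zero]
  exact h1 (hs j)

end main

open K405.Devissage K405.InvInt

/-- Pullback of functions along flat surjective morphisms is injective. -/
theorem app_injective {X Y : Scheme.{u}} (f : X ⟶ Y) [Flat f] [Surjective f] (V : Y.Opens) :
    Function.Injective (f.app V) := by
  intro s t h
  apply TopCat.Presheaf.section_ext Y.sheaf V
  intro y hy
  obtain ⟨x, rfl⟩ := f.surjective y
  have h1 : Function.Injective (f.stalkMap x) := by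
    algebraize [(f.stalkMap x).hom]
    have : Module.FaithfullyFlat (Y.presheaf.stalk (f x)) (X.presheaf.stalk x) :=
      @Module.FaithfullyFlat.of_flat_of_isLocalHom _ _ _ _ _ _ _
        (Flat.stalkMap f x) (f.toLRSHom.prop x)
    exact ‹RingHom.FaithfullyFlat _›.injective
  apply h1
  have h2 := Scheme.Hom.germ_stalkMap_apply f V x hy s
  have h3 := Scheme.Hom.germ_stalkMap_apply f V x hy t
  refine h2.trans (Eq.trans ?_ h3.symm)
  rw [h]

/-- **Finiteness of invariants.** -/
theorem exists_finset (a : AlgGrp.Action G Y) [LocallyOfFiniteType Y.hom] [CompactSpace Y.left]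
    (A : Type u) [CommRing A] [Algebra k A] (hN : CAlg.IsNagata A)
    (p : Y ⟶ Over.mk (Spec.map (CommRingCat.ofHom (algebraMap k A))))
    (hp : W4c2lssmoduli.IsGUnivClosed a p) :
    ∃ t : Finset ↑Γ(Y.left, ⊤),
      (∀ s ∈ t, a.act.left.appTop s = (CartesianMonoidalCategory.snd G Y).left.appTop s) ∧
      ∀ s : ↑Γ(Y.left, ⊤), a.act.left.appTop s = (CartesianMonoidalCategory.snd G Y).left.appTop s →
        ∃ c : ↑Γ(Y.left, ⊤) → A,
          s = ∑ x ∈ t, ((Scheme.ΓSpecIso (CommRingCat.of A)).inv ≫ p.left.appTop) (c x) * x := by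
  obtain ⟨U, u, hu1, hu2, hu3⟩ := Y.left.exists_hom_isAffine_of_isZariskiLocalAtSource @IsLocalIso
  have hfl : Flat u := (IsLocalIso.le_of_isZariskiLocalAtSource @Flat) _ _ _ hu2
  have hlft : LocallyOfFiniteType (u ≫ p.left) := by
    have h1 : LocallyOfFiniteType u := (IsLocalIso.le_of_isZariskiLocalAtSource @LocallyOfFiniteType) _ _ _ hu2
    have h2 : LocallyOfFiniteType p.left := by
      have : LocallyOfFiniteType (p.left ≫ (Over.mk (Spec.map (CommRingCat.ofHom (algebraMap k A)))).hom) := by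
        rw [Over.w]; infer_instance
      exact locallyOfFiniteType_of_comp _ (Over.mk (Spec.map (CommRingCat.ofHom (algebraMap k A)))).hom
    infer_instance
  let φ : A →+* Γ(Y.left, ⊤) := ((Scheme.ΓSpecIso (CommRingCat.of A)).inv ≫ p.left.appTop).hom
  let := (strC u p).toAlgebra
  let : Algebra A Γ(Y.left, ⊤) := φ.toAlgebra
  have hAn : IsNoetherianRing A := hN.1
  let ψ : Γ(Y.left, ⊤) →ₗ[A] Γ(U, ⊤) :=
    { toFun := fun s => u.appTop s
      map_add' := fun s t => map_add _ s t
      map_smul' := fun x s => by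
        rw [Algebra.smul_def, map_mul]
        rfl }
  let N : Submodule A Γ(Y.left, ⊤) :=
    { carrier := {s | a.act.left.appTop s = (snd G Y).left.appTop s}
      add_mem' := fun {s t} hs ht => by
        change _ = _ at hs ht ⊢
        rw [map_add, map_add, hs, ht]
      zero_mem' := by
        change _ = _
        rw [map_zero, map_zero]
      smul_mem' := fun x s hs => by
        change _ = _ at hs ⊢
        rw [Algebra.smul_def, map_mul, map_mul, hs]
        congr 1
        have h1 := congrArg (fun z => Scheme.Hom.appTop (Over.Hom.left z)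
          ((Scheme.ΓSpecIso (CommRingCat.of A)).inv x)) hp.1
        simp only [Over.comp_left, Scheme.Hom.comp_appTop] at h1
        exact h1 }
  have hψ : Function.Injective ψ := app_injective u ⊤
  have hst : Stable (αj a u) (βj a u) (⊥ : Ideal Γ(U, ⊤)) := fun j => by
    rw [Ideal.map_bot, Ideal.map_bot]
  obtain ⟨t, ht, htE⟩ := bdd a u p hp hN ⊥ hst
  have hNt : N.map ψ ≤ t := by
    rintro _ ⟨s, hs, rfl⟩
    have h1 : ψ s ∈ E (αj a u) (βj a u) (hA a u p hp) ⊥ := by
      intro j
      rw [αj_eq a u j (ψ s) (uO_inv_fn a u s hs), sub_self]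
      exact Ideal.zero_mem _
    have h2 := htE h1
    rw [Submodule.restrictScalars_bot, sup_bot_eq] at h2
    exact h2
  have hNfg : N.FG := by
    apply Submodule.fg_of_fg_map_injective ψ hψ
    exact (isNoetherian_submodule.1 (isNoetherian_of_fg_of_noetherian _ ht)) _ hNt
  obtain ⟨T, hT⟩ := hNfg
  refine ⟨T, fun s hs => ?_, fun s hs => ?_⟩
  · have : s ∈ N := by rw [← hT]; exact Submodule.subset_span hs
    exact this
  · have : s ∈ Submodule.span A (T : Set Γ(Y.left, ⊤)) := by rw [hT]; exact hs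
    obtain ⟨c, -, hc⟩ := Submodule.mem_span_finset.1 this
    refine ⟨c, hc.symm.trans (Finset.sum_congr rfl fun x _ => ?_)⟩
    rw [Algebra.smul_def]
    rfl

end K405.InvFin
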