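import Groth.Agent.AlgGrp.K405.ActOpen
import Groth.Agent.AlgGrp.K405.AffCoeq
import Groth.Agent.AlgGrp.K405.InvFin
import Groth.Agent.AlgGrp.K405.GUniv
import Groth.Agent.AGF.K495.IntFG

/-!
# The `G`-normalization
-/

set_option autoImplicit false
universe u
open CategoryTheory MonoidalCategory CartesianMonoidalCategory AlgebraicGeometry Limits Opposite

namespace K405.GNorm

open W4c2lssmoduli K405.AffHom

variable {k : Type u} [Field k] {G R S : Over (Spec (CommRingCat.of k))} [GrpObj G]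

theorem exists_algebra [LocallyOfFiniteType S.hom] {U : S.left.Opens} (hU : IsAffineOpen U) :
    ∃ ψ : k →+* Γ(S.left, U), Spec.map (CommRingCat.ofHom ψ) = hU.fromSpec ≫ S.hom ∧ ψ.FiniteType := by
  have h1 : Spec.map (CommRingCat.ofHom (Spec.preimage (hU.fromSpec ≫ S.hom)).hom) = hU.fromSpec ≫ S.hom :=
    Spec.map_preimage _
  refine ⟨(Spec.preimage (hU.fromSpec ≫ S.hom)).hom, h1, ?_⟩
  have h2 : LocallyOfFiniteType (Spec.map (CommRingCat.ofHom (Spec.preimage (hU.fromSpec ≫ S.hom)).hom)) := by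
    rw [h1]
    infer_instance
  exact (HasRingHomProperty.Spec_iff (P := @LocallyOfFiniteType)).1 h2

theorem finite_app [LocallyOfFiniteType R.hom] [CompactSpace ↥R.left] [LocallyOfFiniteType S.hom]
    (a : AlgGrp.Action G R) (f : R ⟶ S) (hf : IsGUnivClosed a f) {C : Scheme.{u}} (f' : R.left ⟶ C)
    (π : C ⟶ S.left) (h : f' ≫ π = f.left) (h' : a.act.left ≫ f' = (snd G R).left ≫ f')
    {U : S.left.Opens} (hU : IsAffineOpen U)
    (hinj : Function.Injective (f'.appLE (π ⁻¹ᵁ U) (f.left ⁻¹ᵁ U) (pre_le h U))) :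
    (π.app U).hom.Finite := by
  obtain ⟨ψ, hψ, hft⟩ := exists_algebra (S := S) hU
  let : Algebra k Γ(S.left, U) := ψ.toAlgebra
  have hN : CAlg.IsNagata Γ(S.left, U) :=
    have : Algebra.FiniteType k Γ(S.left, U) := hft
    Groth.Agent.Ega4B.NagFinal.isNagata_of_finiteType (K495.IntFG.isNagata_field k)
  let W := f.left ⁻¹ᵁ U
  have hW : a.act.left ⁻¹ᵁ W = (snd G R).left ⁻¹ᵁ W := by
    change a.act.left ⁻¹ᵁ f.left ⁻¹ᵁ U = (snd G R).left ⁻¹ᵁ f.left ⁻¹ᵁ U
    have h1 : a.act.left ≫ f.left = (snd G R).left ≫ f.left := by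
      rw [← Over.comp_left, ← Over.comp_left]
      exact congrArg (fun z => Over.Hom.left z) hf.1
    rw [← Scheme.Hom.comp_preimage, ← Scheme.Hom.comp_preimage, h1]
  let v : Over.mk (Spec.map (CommRingCat.ofHom (algebraMap k Γ(S.left, U)))) ⟶ S :=
    Over.homMk hU.fromSpec hψ.symm
  have hv : IsOpenImmersion v.left := inferInstanceAs (IsOpenImmersion hU.fromSpec)
  have hgv : (f.left ∣_ U ≫ hU.isoSpec.hom) ≫ hU.fromSpec = W.ι ≫ f.left := by
    rw [Category.assoc, IsAffineOpen.isoSpec_hom_fromSpec, morphismRestrict_ι]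
  let g : ActOpen.XU W ⟶ Over.mk (Spec.map (CommRingCat.ofHom (algebraMap k Γ(S.left, U)))) :=
    Over.homMk (f.left ∣_ U ≫ hU.isoSpec.hom) (by
      change (f.left ∣_ U ≫ hU.isoSpec.hom) ≫ Spec.map (CommRingCat.ofHom ψ) = W.ι ≫ R.hom
      rw [hψ, ← Category.assoc, hgv, Category.assoc, Over.w])
  have hp : IsGUnivClosed (ActOpen.restrict a W hW) g := by
    refine ActOpen.isGUnivClosed a W hW f v g hf (Over.OverMorphism.ext hgv) fun x hx => ?_
    change f.left x ∈ Set.range hU.fromSpec at hx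
    rw [hU.range_fromSpec] at hx
    exact hx
  have hR : IsLocallyNoetherian R.left := LocallyOfFiniteType.isLocallyNoetherian R.hom
  have hRn : IsNoetherian R.left := {}
  have hWc : CompactSpace W := isCompact_iff_compactSpace.1 (TopologicalSpace.NoetherianSpace.isCompact _)
  have : CompactSpace (ActOpen.XU W).left := hWc
  have : LocallyOfFiniteType (ActOpen.XU W).hom := inferInstanceAs (LocallyOfFiniteType (W.ι ≫ R.hom))
  let φN : Γ(S.left, U) →+* Γ(W.toScheme, ⊤) :=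
    ((Scheme.ΓSpecIso (CommRingCat.of Γ(S.left, U))).inv ≫ g.left.appTop).hom
  obtain ⟨t, ht⟩ : ∃ t : Finset Γ(W.toScheme, ⊤), ∀ s : Γ(W.toScheme, ⊤),
      (ActOpen.restrict a W hW).act.left.appTop s = (snd G (ActOpen.XU W)).left.appTop s →
        ∃ c : Γ(W.toScheme, ⊤) → Γ(S.left, U), s = ∑ x ∈ t, φN (c x) * x := by
    obtain ⟨t, -, ht⟩ := K405.InvFin.exists_finset (ActOpen.restrict a W hW) Γ(S.left, U) hN g hp
    exact ⟨t, ht⟩
  have e0 : (⊤ : W.toScheme.Opens) ≤ (W.ι ≫ f') ⁻¹ᵁ (π ⁻¹ᵁ U) := by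
    rw [← Scheme.Hom.comp_preimage, Category.assoc, h, Scheme.Hom.comp_preimage]
    exact (Scheme.Opens.ι_preimage_self W).ge
  have e1 : π.app U ≫ (W.ι ≫ f').appLE (π ⁻¹ᵁ U) ⊤ e0 =
      (Scheme.ΓSpecIso (CommRingCat.of Γ(S.left, U))).inv ≫ g.left.appTop := by
    have a1 : (W.ι ≫ f') ≫ π = g.left ≫ hU.fromSpec := by
      rw [Category.assoc, h]
      exact hgv.symm
    rw [← Scheme.Hom.comp_appLE, appLE_congr_hom a1, Scheme.Hom.comp_appLE, hU.fromSpec_app_self,
      Category.assoc, Scheme.Hom.map_appLE]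
    congr 1
    exact Scheme.Hom.appLE_eq_app _
  have e2 : Function.Injective ((W.ι ≫ f').appLE (π ⁻¹ᵁ U) ⊤ e0) := by
    rw [← Scheme.Hom.appLE_comp_appLE W.ι f' (π ⁻¹ᵁ U) W ⊤ (pre_le h U) (Scheme.Opens.ι_preimage_self W).ge]
    have a1 : W.ι.appLE W ⊤ (Scheme.Opens.ι_preimage_self W).ge = W.topIso.inv := by
      rw [Scheme.Opens.ι_appLE]
      rfl
    rw [a1]
    change Function.Injective (W.topIso.inv ∘ (f'.appLE (π ⁻¹ᵁ U) W (pre_le h U)))
    exact Function.Injective.comp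
      ((ConcreteCategory.isIso_iff_bijective W.topIso.inv).1 inferInstance).1 hinj
  have e3 : ∀ x : Γ(C, π ⁻¹ᵁ U), (ActOpen.restrict a W hW).act.left.appTop ((W.ι ≫ f').appLE (π ⁻¹ᵁ U) ⊤ e0 x) =
      (snd G (ActOpen.XU W)).left.appTop ((W.ι ≫ f').appLE (π ⁻¹ᵁ U) ⊤ e0 x) := by
    intro x
    have a1 : (ActOpen.restrict a W hW).act.left ≫ W.ι = (G ◁ ActOpen.iU W).left ≫ a.act.left := by
      have := congrArg (fun z => Over.Hom.left z) (ActOpen.restrict_act_i a W hW)
      simp only [Over.comp_left] at this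
      exact this
    have a2 : (snd G (ActOpen.XU W)).left ≫ W.ι = (G ◁ ActOpen.iU W).left ≫ (snd G R).left := by
      have := congrArg (fun z => Over.Hom.left z) (whiskerLeft_snd G (ActOpen.iU W)).symm
      simp only [Over.comp_left] at this
      exact this
    have a3 : (ActOpen.restrict a W hW).act.left ≫ W.ι ≫ f' = (snd G (ActOpen.XU W)).left ≫ W.ι ≫ f' := by
      rw [← Category.assoc, a1, ← Category.assoc (snd G (ActOpen.XU W)).left, a2, Category.assoc,
        Category.assoc, h']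
    have a4 := Scheme.Hom.appLE_comp_appLE (ActOpen.restrict a W hW).act.left (W.ι ≫ f') (π ⁻¹ᵁ U) ⊤ ⊤ e0 le_top
    have a5 := Scheme.Hom.appLE_comp_appLE (snd G (ActOpen.XU W)).left (W.ι ≫ f') (π ⁻¹ᵁ U) ⊤ ⊤ e0 le_top
    rw [appLE_congr_hom a3, ← a5] at a4
    have a6 : (ActOpen.restrict a W hW).act.left.appLE ⊤ ⊤ le_top = (ActOpen.restrict a W hW).act.left.appTop :=
      Scheme.Hom.appLE_eq_app _
    have a7 : (snd G (ActOpen.XU W)).left.appLE ⊤ ⊤ le_top = (snd G (ActOpen.XU W)).left.appTop :=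
      Scheme.Hom.appLE_eq_app _
    rw [a6, a7] at a4
    exact congr(CommRingCat.Hom.hom $a4 x)
  have hNn : IsNoetherianRing Γ(S.left, U) := hN.1
  algebraize [(π.app U).hom, φN]
  let ψ' : Γ(C, π ⁻¹ᵁ U) →ₗ[Γ(S.left, U)] Γ(W.toScheme, ⊤) :=
    { toFun := fun x => (W.ι ≫ f').appLE (π ⁻¹ᵁ U) ⊤ e0 x
      map_add' := fun x y => map_add _ x y
      map_smul' := fun c x => by
        rw [Algebra.smul_def, map_mul]
        change _ = φN c * _
        congr 1
        exact congr(CommRingCat.Hom.hom $e1 c) }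
  have h1 : (⊤ : Submodule Γ(S.left, U) Γ(C, π ⁻¹ᵁ U)).map ψ' ≤ Submodule.span Γ(S.left, U) (t : Set Γ(W.toScheme, ⊤)) := by
    rintro _ ⟨x, -, rfl⟩
    obtain ⟨c, hc⟩ := ht (ψ' x) (e3 x)
    rw [hc]
    refine Submodule.sum_mem _ fun y hy => ?_
    exact Submodule.smul_mem _ (c y) (Submodule.subset_span hy)
  refine ⟨Submodule.fg_of_fg_map_injective ψ' e2 ?_⟩
  exact (isNoetherian_submodule.1 (isNoetherian_of_fg_of_noetherian _ ⟨t, rfl⟩)) _ h1

/-- A morphism with injective functions over a base is dominant. -/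
theorem denseRange {R C S : Scheme.{u}} (f' : R ⟶ C) (π : C ⟶ S) (φ : R ⟶ S) [IsAffineHom π] [QuasiCompact φ]
    (h : f' ≫ π = φ)
    (hinj : ∀ U : S.Opens, IsAffineOpen U → Function.Injective (f'.appLE (π ⁻¹ᵁ U) (φ ⁻¹ᵁ U) (pre_le h U))) :
    closure (Set.range f') = Set.univ := by
  rw [Set.eq_univ_iff_forall]
  intro x
  by_contra hx
  obtain ⟨_, ⟨U, hU, rfl⟩, hxU, -⟩ := S.isBasis_affineOpens.exists_subset_of_mem_open
    (Set.mem_univ (π x)) isOpen_univ
  let V : C.Opens := ⟨(closure (Set.range f'))ᶜ, isClosed_closure.isOpen_compl⟩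
  obtain ⟨s, hs, hxs⟩ := (IsAffineOpen.preimage hU π).exists_basicOpen_le (V := V) ⟨x, hx⟩ hxU
  have h1 : R.basicOpen (f'.appLE (π ⁻¹ᵁ U) (φ ⁻¹ᵁ U) (pre_le h U) s) = ⊥ := by
    rw [Scheme.basicOpen_appLE, eq_bot_iff]
    rintro y ⟨-, hy⟩
    have : f' y ∈ V := hs hy
    exact this (subset_closure ⟨y, rfl⟩)
  rw [← Scheme.isNilpotent_iff_basicOpen_eq_bot_of_isCompact
    (φ.isCompact_preimage hU.isCompact)] at h1
  obtain ⟨n, hn⟩ := h1
  rw [← map_pow] at hn
  have h2 : s ^ n = 0 := hinj U hU (by rw [hn, map_zero])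
  have h3 : C.basicOpen s = ⊥ := C.basicOpen_eq_bot_of_isNilpotent _ s ⟨n, h2⟩
  rw [h3] at hxs
  exact hxs

theorem main [LocallyOfFiniteType R.hom] [CompactSpace ↥R.left] [LocallyOfFiniteType S.hom]
    [CompactSpace ↥S.left] [LocallyOfFiniteType G.hom] [CompactSpace ↥G.left]
    (a : AlgGrp.Action G R) (f : R ⟶ S) (hf : IsGUnivClosed a f) :
    ∃ (S' : Over (Spec (CommRingCat.of k))) (f' : R ⟶ S') (π : S' ⟶ S),
      LocallyOfFiniteType S'.hom ∧ CompactSpace ↥S'.left ∧
      f' ≫ π = f ∧ a.act ≫ f' = CartesianMonoidalCategory.snd G R ≫ f' ∧ Function.Surjective f'.left.base ∧ IsFinite π.left ∧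
      ∀ (Z : Over (Spec (CommRingCat.of k))) (g : R ⟶ Z) (ν : Z ⟶ S),
        LocallyOfFiniteType Z.hom → CompactSpace ↥Z.left → g ≫ ν = f → W4c2lssmoduli.IsInvariantMor a g → IsFinite ν.left →
          ∃! h : S' ⟶ Z, f' ≫ h = g ∧ h ≫ ν = π := by
  have hR : IsLocallyNoetherian R.left := LocallyOfFiniteType.isLocallyNoetherian R.hom
  have hRn : IsNoetherian R.left := {}
  have hGR : LocallyOfFiniteType (G ⊗ R).hom := by
    change LocallyOfFiniteType (pullback.fst G.hom R.hom ≫ G.hom)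
    infer_instance
  have hGRn : IsLocallyNoetherian (G ⊗ R).left := LocallyOfFiniteType.isLocallyNoetherian (G ⊗ R).hom
  have hGRc : CompactSpace ↥(G ⊗ R).left := by
    change CompactSpace ↥(pullback G.hom R.hom)
    infer_instance
  have hGRn' : IsNoetherian (G ⊗ R).left := {}
  have hinv : a.act.left ≫ f.left = (snd G R).left ≫ f.left := by
    rw [← Over.comp_left, ← Over.comp_left]
    exact congrArg (fun z => Over.Hom.left z) hf.1
  obtain ⟨C, f', π, h, hπ, h', hinj, hsurj⟩ := K405.AffCoeq.exists_coeq a.act.left (snd G R).left f.left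
    ((snd G R).left ≫ f.left) hinv rfl
  have hfin : IsFinite π := ⟨fun U hU => finite_app a f hf f' π h h' hU (hinj U hU)⟩
  let S' : Over (Spec (CommRingCat.of k)) := Over.mk (π ≫ S.hom)
  let πO : S' ⟶ S := Over.homMk π rfl
  let fO : R ⟶ S' := Over.homMk f' (by
    change f' ≫ π ≫ S.hom = R.hom
    rw [← Category.assoc, h, Over.w])
  have hfO : fO ≫ πO = f := Over.OverMorphism.ext h
  have hinvO : a.act ≫ fO = snd G R ≫ fO := Over.OverMorphism.ext h'
  have hS'ft : LocallyOfFiniteType S'.hom := inferInstanceAs (LocallyOfFiniteType (π ≫ S.hom))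
  have hS'c : CompactSpace ↥S'.left := by
    have hS : QuasiCompact S.hom := by infer_instance
    have : QuasiCompact (π ≫ S.hom) := inferInstance
    exact (quasiCompact_iff_compactSpace (f := π ≫ S.hom)).1 this
  have hπO : IsFinite πO.left := hfin
  have hfOC : IsGUnivClosed a fO := K405.GUniv.isGUnivClosed_of_comp a fO πO hinvO (by rw [hfO]; exact hf)
  have hS'n : IsLocallyNoetherian S'.left := LocallyOfFiniteType.isLocallyNoetherian S'.hom
  have hfOft : LocallyOfFiniteType fO.left := by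
    have : LocallyOfFiniteType (fO.left ≫ S'.hom) := by rw [Over.w]; infer_instance
    exact locallyOfFiniteType_of_comp _ S'.hom
  refine ⟨S', fO, πO, hS'ft, hS'c, hfO, hinvO, ?_, hπO, ?_⟩
  · have h1 : IsClosed (Set.range fO.left) := K405.GUniv.isClosed_range a fO hfOC
    have h2 : closure (Set.range f') = Set.univ := denseRange f' π f.left h hinj
    change Function.Surjective f'
    rw [← Set.range_eq_univ, ← h2]
    exact (h1.closure_eq).symm
  · intro Z g ν hZ hZc hgν hg hν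
    obtain ⟨e, ⟨he1, he2⟩, he3⟩ := K405.AffCoeq.existsUnique a.act.left (snd G R).left f.left
      ((snd G R).left ≫ f.left) hinv rfl h h' hinj hsurj ν.left g.left
      (by rw [← Over.comp_left, hgν]) (by
        rw [← Over.comp_left, ← Over.comp_left]
        exact congrArg (fun z => Over.Hom.left z) hg)
    refine ⟨Over.homMk e (by
      change e ≫ Z.hom = π ≫ S.hom
      rw [← he2, Category.assoc, Over.w]), ⟨Over.OverMorphism.ext he1, Over.OverMorphism.ext he2⟩, ?_⟩
    rintro e' ⟨h1, h2⟩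
    apply Over.OverMorphism.ext
    refine he3 e'.left ⟨?_, ?_⟩
    · have := congrArg (fun z => Over.Hom.left z) h1
      exact this
    · have := congrArg (fun z => Over.Hom.left z) h2
      exact this

end K405.GNorm
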