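import Groth.Agent.AlgGrp.K405.AddPoly
import Groth.Agent.AlgGrp.K405.FixGa
import Groth.Agent.AlgGrp.K404.Desc
import Groth.Agent.Sga7.H758.FieldHom
import Groth.Agent.Sga3B.Pts
import Groth.Agent.Flat2B.SmoothGeom
import Mathlib.AlgebraicGeometry.Morphisms.Finite

/-!
# Isogenies with source the additive group
-/

set_option autoImplicit false
universe u
open CategoryTheory MonoidalCategory CartesianMonoidalCategory MonObj GrpObj AlgebraicGeometry Limits
open Polynomial

namespace K405.IsogGa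

open Groth.Agent.Books.AffBridge Groth.Agent.Books.AffBridge2
open Groth.Agent.Sga3B.AffPts Groth.Agent.Sga3B.GaPts K405.GaLaw K405.FixGa

noncomputable section

variable {k : Type u} [Field k]

/-- The coordinate. -/
abbrev fn {T : Over (Spec (CommRingCat.of k))} (x : T ⟶ Red.Ga (Spec (CommRingCat.of k))) : Fn T :=
  Red.gaFn x

/-- The coordinate map `k[X] → Fn T` of a point of `𝔾ₐ`. -/
abbrev ev {T : Over (Spec (CommRingCat.of k))} (x : T ⟶ Red.Ga (Spec (CommRingCat.of k))) : k[X] →ₐ[k] Fn T :=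
  aeval (R := k) (A := Fn T) (Red.gaFn x)

lemma fnMap_ev {T T' : Over (Spec (CommRingCat.of k))} (h : T' ⟶ T)
    (x : T ⟶ Red.Ga (Spec (CommRingCat.of k))) (p : k[X]) : fnMap h (ev x p) = ev (h ≫ x) p := by
  change fnMap h (aeval _ p) = aeval _ p
  rw [← aeval_algHom_apply]
  rfl

lemma fnMap_comp {T T' T'' : Over (Spec (CommRingCat.of k))} (h : T' ⟶ T) (h' : T'' ⟶ T') (c : Fn T) :
    fnMap h' (fnMap h c) = fnMap (h' ≫ h) c := by
  change h'.left.appTop (h.left.appTop c) = (h' ≫ h).left.appTop c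
  rw [Over.comp_left, Scheme.Hom.comp_appTop]
  rfl

lemma fnMap_id {T : Over (Spec (CommRingCat.of k))} (c : Fn T) : fnMap (𝟙 T) c = c := by
  change (𝟙 T : T ⟶ T).left.appTop c = c
  rw [Over.id_left, Scheme.Hom.id_appTop]
  rfl

/-- polynomial endomorphism of the line -/
def pm (g : k[X]) : Red.Ga (Spec (CommRingCat.of k)) ⟶ Red.Ga (Spec (CommRingCat.of k)) :=
  gaPt _ (ev (𝟙 _) g)

lemma gaFn_pm {T : Over (Spec (CommRingCat.of k))} (x : T ⟶ Red.Ga (Spec (CommRingCat.of k))) (g : k[X]) :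
    Red.gaFn (x ≫ pm g) = ev x g := by
  rw [pm, comp_gaPt, gaFn_gaPt]
  have := fnMap_ev x (𝟙 _) g
  rw [Category.comp_id] at this
  exact this

/-- `Spec k[X] ⟶ 𝔾ₐ` -/
def uu : SpecOver k k[X] ⟶ Red.Ga (Spec (CommRingCat.of k)) := pt X

/-- `𝔾ₐ ⟶ Spec k[X]` -/
def vv : Red.Ga (Spec (CommRingCat.of k)) ⟶ SpecOver k k[X] := affPt _ (ev (𝟙 _))

lemma vv_uu : vv ≫ uu = 𝟙 (Red.Ga (Spec (CommRingCat.of k))) := by
  rw [vv, uu, affPt_ptGa]
  have h : ev (𝟙 (Red.Ga (Spec (CommRingCat.of k)))) X = Red.gaFn (𝟙 _) := aeval_X (R := k) _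
  rw [h, gaPt_gaFn]

lemma uu_vv : uu ≫ vv = 𝟙 (SpecOver k k[X]) := by
  rw [vv, comp_affPt, affPt_spec, ← specMap_id]
  congr 1
  apply Polynomial.algHom_ext
  have h : fnMap uu (ev (𝟙 (Red.Ga (Spec (CommRingCat.of k)))) X) = ev uu X := by
    rw [fnMap_ev, Category.comp_id]
  change fnSpec (R := k) k[X] (fnMap uu (ev (𝟙 _) X)) = X
  rw [h, ev, aeval_X]
  exact co_pt X

lemma ev_surjective (c : Fn (Red.Ga (Spec (CommRingCat.of k)))) : ∃ p : k[X], ev (𝟙 _) p = c := by
  refine ⟨fnSpec (R := k) k[X] (fnMap uu c), ?_⟩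
  have h1 := affPt_fnSpec_symm (k := k) _ (ev (𝟙 _)) (fnSpec (R := k) k[X] (fnMap uu c))
  rw [AlgEquiv.symm_apply_apply] at h1
  rw [← h1]
  change (fnMap vv).comp (fnMap uu) c = c
  rw [AlgHom.comp_apply, fnMap_comp, vv_uu, fnMap_id]

lemma co_eq_ev {B : Type u} [CommRing B] [Algebra k B] (b : B) (g : k[X]) :
    fnSpec (R := k) B (ev (pt b) g) = aeval b g := by
  change fnSpec (R := k) B (aeval _ g) = _
  have h2 := aeval_algHom_apply (fnSpec (R := k) B).toAlgHom (fn (pt (k := k) b)) g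
  have h3 : (fnSpec (R := k) B).toAlgHom (fn (pt (k := k) b)) = b := co_pt b
  rw [h3] at h2
  exact h2.symm

lemma pt_add {B : Type u} [CommRing B] [Algebra k B] (x y : B) : pt (k := k) (x + y) = pt x * pt y := by
  rw [pt, map_add]
  exact gaPt_add _ _ _

lemma pt_zero {B : Type u} [CommRing B] [Algebra k B] : pt (k := k) (0 : B) = 1 := by
  apply gaFn_injective
  rw [gaFn_one, pt, gaFn_gaPt, map_zero]
  rfl

/-- A map of points into an affine scheme is determined by the functions. -/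
lemma hom_ext_fn {T H : Over (Spec (CommRingCat.of k))} [IsAffine H.left] {y z : T ⟶ H}
    (h : ∀ c : Fn H, fnMap y c = fnMap z c) : y = z := by
  have : IsIso (toSpecFn H).left := inferInstanceAs (IsIso H.left.toSpecΓ)
  have h1 : y ≫ toSpecFn H = z ≫ toSpecFn H := by
    rw [toSpecFn_naturality, toSpecFn_naturality]
    congr 2
    exact AlgHom.ext h
  ext1
  rw [← cancel_mono (toSpecFn H).left]
  exact congrArg (fun w => Over.Hom.left w) h1

section

variable {H : Over (Spec (CommRingCat.of k))} [GrpObj H] (f : Red.Ga (Spec (CommRingCat.of k)) ⟶ H)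

/-- the counit -/
def eps (h : Fn H) : k := fnSpec (R := k) k (fnMap (1 : SpecOver k k ⟶ H) h)

lemma fnMap_one {T : Over (Spec (CommRingCat.of k))} (h : Fn H) :
    fnMap (1 : T ⟶ H) h = algebraMap k _ (eps h) := by
  have h1 : (1 : T ⟶ H) = affPt T (Algebra.ofId k (Fn T)) ≫ (1 : SpecOver k k ⟶ H) := by
    rw [MonObj.comp_one]
  rw [h1, ← fnMap_comp, eps]
  have h2 := affPt_fnSpec_symm (k := k) T (Algebra.ofId k (Fn T)) (eps h)
  rw [eps, AlgEquiv.symm_apply_apply] at h2
  exact h2

/-- the equations of the kernel -/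
def eqs : Set k[X] := {p | ∃ h : Fn H, eps h = 0 ∧ ev (𝟙 _) p = fnMap f h}

lemma ker_iff [IsAffine H.left] {T : Over (Spec (CommRingCat.of k))}
    (x : T ⟶ Red.Ga (Spec (CommRingCat.of k))) : x ≫ f = 1 ↔ ∀ p ∈ eqs f, ev x p = 0 := by
  constructor
  · rintro hx p ⟨h, h1, h2⟩
    have h3 := fnMap_ev x (𝟙 _) p
    rw [Category.comp_id] at h3
    rw [← h3, h2, fnMap_comp, hx, fnMap_one, h1, map_zero]
  · intro hx
    apply hom_ext_fn
    intro c
    rw [fnMap_one]
    obtain ⟨p, hp⟩ := ev_surjective (fnMap f (c - algebraMap k _ (eps c)))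
    have h0 : eps (c - algebraMap k (Fn H) (eps c)) = 0 := by
      rw [eps, map_sub, map_sub, AlgHom.commutes, AlgEquiv.commutes]
      exact sub_self _
    have h1 := hx p ⟨_, h0, hp⟩
    have h3 := fnMap_ev x (𝟙 _) p
    rw [Category.comp_id] at h3
    rw [← h3, hp, fnMap_comp, map_sub, AlgHom.commutes, sub_eq_zero] at h1
    exact h1

/-- The counit as an algebra map. -/
def epsHom (H : Over (Spec (CommRingCat.of k))) [GrpObj H] : Fn H →ₐ[k] k :=
  (fnSpec (R := k) k).toAlgHom.comp (fnMap (1 : SpecOver k k ⟶ H))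

/-- There is a monic polynomial cutting out the kernel. -/
theorem exists_monic [IsAffine H.left] [IsFinite f.left] : ∃ g : k[X], g.Monic ∧
    ∀ (T : Over (Spec (CommRingCat.of k))) (x : T ⟶ Red.Ga (Spec (CommRingCat.of k))),
      x ≫ f = 1 ↔ ev x g = 0 := by
  obtain ⟨g, hg⟩ := IsPrincipalIdealRing.principal (Ideal.span (eqs f))
  have hx : ∀ (T : Over (Spec (CommRingCat.of k))) (x : T ⟶ Red.Ga (Spec (CommRingCat.of k))),
      x ≫ f = 1 ↔ ev x g = 0 := by
    intro T x
    rw [ker_iff]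
    have h1 : (∀ p ∈ eqs f, ev x p = 0) ↔ Ideal.span (eqs f) ≤ RingHom.ker (ev x) := by
      rw [Ideal.span_le]
      rfl
    rw [h1, hg, Ideal.submodule_span_eq, Ideal.span_le, Set.singleton_subset_iff]
    rfl
  have hne : g ≠ 0 := by
    rintro rfl
    have hf : f = 1 := by
      have := (hx _ (𝟙 _)).2 (map_zero _)
      rwa [Category.id_comp] at this
    have hfin : (f.left.app ⊤).hom.Finite := IsFinite.finite_app f.left ⊤ (isAffineOpen_top H.left)
    have hfin' : (fnMap f).toRingHom.Finite := hfin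
    obtain ⟨P, hP, hP'⟩ := hfin'.to_isIntegral (fn (𝟙 _))
    have h2 : ev (𝟙 _) (P.map (epsHom H).toRingHom) = 0 := by
      rw [ev, aeval_def, eval₂_map]
      refine Eq.trans ?_ hP'
      congr 1
      ext c
      change _ = fnMap f c
      rw [hf, fnMap_one]
      rfl
    have h3 := congrArg (fun z => fnSpec (R := k) k[X] (fnMap uu z)) h2
    simp only [map_zero] at h3
    rw [fnMap_ev, Category.comp_id, uu, co_eq_ev, aeval_X_left_apply] at h3
    exact (hP.map (epsHom H).toRingHom).ne_zero h3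
  refine ⟨g * C g.leadingCoeff⁻¹, monic_mul_leadingCoeff_inv hne, fun T x => ?_⟩
  rw [hx, map_mul]
  have hu : IsUnit (ev x (C g.leadingCoeff⁻¹)) := by
    apply IsUnit.map
    rw [isUnit_C]
    exact (inv_ne_zero (leadingCoeff_ne_zero.2 hne)).isUnit
  exact (hu.mul_left_eq_zero).symm

end

/-- The polynomial map of an additive polynomial is a homomorphism. -/
theorem isMonHom_pm {H : Over (Spec (CommRingCat.of k))} [GrpObj H]
    (f : Red.Ga (Spec (CommRingCat.of k)) ⟶ H) [IsMonHom f] (g : k[X]) (hg : g.Monic)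
    (hx : ∀ (T : Over (Spec (CommRingCat.of k))) (x : T ⟶ Red.Ga (Spec (CommRingCat.of k))),
      x ≫ f = 1 ↔ ev x g = 0) : IsMonHom (pm g) := by
  have hpt : ∀ (B : Type u) [CommRing B] [Algebra k B] (b : B), pt b ≫ f = 1 ↔ aeval b g = 0 := by
    intro B _ _ b
    rw [hx, ← co_eq_ev b g]
    exact (EmbeddingLike.map_eq_zero_iff (f := fnSpec (R := k) B)).symm
  apply Groth.Agent.Sga3B.Pts.isMonHom_of_points
  intro T x y
  apply gaFn_injective
  rw [gaFn_mul]
  rw [gaFn_pm, gaFn_pm, gaFn_pm]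
  change aeval (R := k) (A := Fn T) (Red.gaFn (x * y)) g = aeval (R := k) (A := Fn T) (Red.gaFn x) g +
    aeval (R := k) (A := Fn T) (Red.gaFn y) g
  rw [gaFn_mul]
  refine K405.AddPoly.aeval_add_eq g hg ?_ ?_ _ _
  · have h1 : aeval (0 : k) g = 0 := by
      rw [← hpt, pt_zero]
      exact MonObj.one_comp f
    rwa [coe_aeval_eq_eval] at h1
  · intro B _ _ x y hx hy
    rw [← hpt] at hx hy ⊢
    rw [pt_add]
    refine Eq.trans (MonObj.mul_comp _ _ f) ?_
    rw [hx, hy, _root_.mul_one]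

lemma pm_eq (g : k[X]) : pm g = vv ≫ specMap k (aeval (R := k) g) ≫ uu := by
  rw [vv, ← Category.assoc, affPt_specMap, uu, affPt_ptGa, pm]
  congr 1
  change ev (𝟙 _) g = ev (𝟙 _) (aeval g X)
  rw [aeval_X]

/-- `k[X]` is finite over `k[g]`. -/
lemma finite_aeval (g : k[X]) (hg : g.Monic) (hd : g.natDegree ≠ 0) : (aeval (R := k) (A := k[X]) g).toRingHom.Finite := by
  have h1 : (aeval (R := k) (A := k[X]) g).toRingHom.FiniteType := by
    refine RingHom.FiniteType.of_comp_finiteType (f := (C : k →+* k[X])) ?_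
    have : (aeval (R := k) (A := k[X]) g).toRingHom.comp (C : k →+* k[X]) = algebraMap k k[X] := by
      ext c
      simp
    rw [this, RingHom.finiteType_algebraMap]
    infer_instance
  have hX : (aeval (R := k) (A := k[X]) g).toRingHom.IsIntegralElem X := by
    refine ⟨g.map C - C X, ?_, ?_⟩
    · refine (hg.map C).sub_of_left ?_
      rw [degree_eq_natDegree (hg.map (C : k →+* k[X])).ne_zero, hg.natDegree_map, degree_C X_ne_zero]
      exact_mod_cast Nat.pos_of_ne_zero hd
    · rw [eval₂_sub, eval₂_C, eval₂_map]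
      have h3 : (aeval (R := k) (A := k[X]) g).toRingHom.comp (C : k →+* k[X]) = C := by
        ext c
        simp
      rw [h3]
      change eval₂ C X g - aeval g X = 0
      rw [aeval_X, eval₂_C_X, sub_self]
  have h2 : (aeval (R := k) (A := k[X]) g).toRingHom.IsIntegral := by
    have hC : ∀ c : k, (aeval (R := k) (A := k[X]) g).toRingHom.IsIntegralElem (C c) := fun c => by
      have : (C c : k[X]) = (aeval (R := k) (A := k[X]) g).toRingHom (C c) := by simp
      rw [this]
      exact RingHom.isIntegralElem_map _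
    intro p
    induction p using Polynomial.induction_on with
    | C a => exact hC a
    | add p q hp hq => exact RingHom.IsIntegralElem.add _ hp hq
    | monomial n a h =>
      rw [pow_succ, ← _root_.mul_assoc]
      exact RingHom.IsIntegralElem.mul _ h hX
  exact h2.to_finite h1

theorem isIso_vv : IsIso (vv (k := k)).left :=
  ⟨uu.left, congrArg (fun z => Over.Hom.left z) vv_uu, congrArg (fun z => Over.Hom.left z) uu_vv⟩

theorem isIso_uu : IsIso (uu (k := k)).left :=
  ⟨vv.left, congrArg (fun z => Over.Hom.left z) uu_vv, congrArg (fun z => Over.Hom.left z) vv_uu⟩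

theorem isFinite_pm (g : k[X]) (hg : g.Monic) (hd : g.natDegree ≠ 0) : IsFinite (pm g).left := by
  rw [pm_eq, Over.comp_left, Over.comp_left]
  have h1 : IsFinite (specMap k (aeval (R := k) (A := k[X]) g)).left := by
    change IsFinite (Spec.map (CommRingCat.ofHom (aeval (R := k) (A := k[X]) g).toRingHom))
    rw [IsFinite.SpecMap_iff]
    exact finite_aeval g hg hd
  have := isIso_uu (k := k)
  have := isIso_vv (k := k)
  infer_instance

theorem isIntegral_Ga : IsIntegral (Red.Ga (Spec (CommRingCat.of k))).left := by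
  have : IsIntegral (SpecOver k k[X]).left := inferInstanceAs (IsIntegral (Spec (CommRingCat.of k[X])))
  have := isIso_vv (k := k)
  have : Nonempty (Red.Ga (Spec (CommRingCat.of k))).left :=
    ⟨(η[Red.Ga (Spec (CommRingCat.of k))] : 𝟙_ (Over (Spec (CommRingCat.of k))) ⟶ _).left
      (IsLocalRing.closedPoint k)⟩
  exact isIntegral_of_isOpenImmersion (vv (k := k)).left

theorem locallyOfFiniteType_Ga : LocallyOfFiniteType (Red.Ga (Spec (CommRingCat.of k))).hom := by
  rw [← Over.w (vv (k := k))]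
  have : LocallyOfFiniteType (SpecOver k k[X]).hom := by
    change LocallyOfFiniteType (Spec.map (CommRingCat.ofHom (algebraMap k k[X])))
    rw [HasRingHomProperty.Spec_iff (P := @LocallyOfFiniteType)]
    change (algebraMap k k[X]).FiniteType
    rw [RingHom.finiteType_algebraMap]
    infer_instance
  have := isIso_vv (k := k)
  infer_instance

theorem surjective_pm (g : k[X]) (hg : g.Monic) (hd : g.natDegree ≠ 0) : Surjective (pm g).left := by
  have := isFinite_pm g hg hd
  have := locallyOfFiniteType_Ga (k := k)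
  have := isIntegral_Ga (k := k)
  exact Groth.Agent.Sga7.H758.FieldHom.surjective_of_isFinite k (Red.Ga (Spec (CommRingCat.of k))).hom _

/-- Homomorphisms descend along flat surjective quasi-compact homomorphisms. -/
theorem exists_desc_hom {S : Scheme.{u}} {G Q P : Over S} [GrpObj G] [GrpObj Q] [GrpObj P] (q : G ⟶ Q)
    [IsMonHom q] [Flat q.left] [Surjective q.left] [QuasiCompact q.left] (φ : G ⟶ P) [IsMonHom φ]
    (hφ : ∀ (T : Over S) (x : T ⟶ G), x ≫ q = 1 → x ≫ φ = 1) : ∃ ψ : Q ⟶ P, IsMonHom ψ ∧ q ≫ ψ = φ :=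
  K404.Desc.exists_desc_hom (pullback.fst q η[Q]) q
    ((IsPullback.of_hasPullback q η[Q]).of_iso (Iso.refl _) (Iso.refl _) (Iso.refl _) (Iso.refl _)
      (by simp) (by simp; exact toUnit_unique _ _) (by simp) (by simp)) φ
    (hφ _ _ (by rw [pullback.condition, Hom.one_def]; congr 1; exact toUnit_unique _ _))

/-- Two quotient homomorphisms with the same kernel have isomorphic targets. -/
theorem nonempty_iso_of_ker {S : Scheme.{u}} {G Q P : Over S} [GrpObj G] [GrpObj Q] [GrpObj P] (q : G ⟶ Q)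
    [IsMonHom q] [Flat q.left] [Surjective q.left] [QuasiCompact q.left] (p : G ⟶ P)
    [IsMonHom p] [Flat p.left] [Surjective p.left] [QuasiCompact p.left]
    (h : ∀ (T : Over S) (x : T ⟶ G), x ≫ q = 1 ↔ x ≫ p = 1) : Nonempty (Grp.mk Q ≅ Grp.mk P) := by
  obtain ⟨a, ha, hqa⟩ := exists_desc_hom q p (fun T x => (h T x).1)
  obtain ⟨b, hb, hpb⟩ := exists_desc_hom p q (fun T x => (h T x).2)
  have hq := K404.Desc.epi_of q
  have hp := K404.Desc.epi_of p
  have hab : a ≫ b = 𝟙 _ := by
    rw [← cancel_epi q, ← Category.assoc, hqa, hpb, Category.comp_id]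
  have hba : b ≫ a = 𝟙 _ := by
    rw [← cancel_epi p, ← Category.assoc, hpb, hqa, Category.comp_id]
  exact ⟨Grp.mkIso' (⟨a, b, hab, hba⟩ : Q ≅ P)⟩

/-- The main theorem. -/
theorem nonempty_iso (H : Over (Spec (CommRingCat.of k))) [GrpObj H] [IsAffine H.left] [Smooth H.hom]
    (f : Red.Ga (Spec (CommRingCat.of k)) ⟶ H) [IsMonHom f] [IsFinite f.left] [Surjective f.left] :
    Nonempty (Grp.mk H ≅ Grp.mk (Red.Ga (Spec (CommRingCat.of k)))) := by
  obtain ⟨g, hg, hx⟩ := exists_monic f
  have hm := isMonHom_pm f g hg hx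
  have hGi := isIntegral_Ga (k := k)
  have hGft := locallyOfFiniteType_Ga (k := k)
  have hd : g.natDegree ≠ 0 := by
    intro h0
    have h1 : g = 1 := hg.natDegree_eq_zero.1 h0
    have h2 := (hx (Red.Ga (Spec (CommRingCat.of k))) 1).1 (MonObj.one_comp f)
    rw [h1, map_one] at h2
    exact one_ne_zero (α := Γ((Red.Ga (Spec (CommRingCat.of k))).left, ⊤)) h2
  have hfin := isFinite_pm g hg hd
  have hsurj := surjective_pm g hg hd
  have hln : IsLocallyNoetherian (Red.Ga (Spec (CommRingCat.of k))).left :=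
    LocallyOfFiniteType.isLocallyNoetherian (Red.Ga (Spec (CommRingCat.of k))).hom
  have hHr : IsReduced H.left := Groth.Agent.Flat2B.SmoothGeom.isReduced_of_smooth H.hom
  have hHln : IsLocallyNoetherian H.left := LocallyOfFiniteType.isLocallyNoetherian H.hom
  have hfl := Groth.Agent.Sga7.H758.FieldHom.flat_of_surjective k f
  have hgl := Groth.Agent.Sga7.H758.FieldHom.flat_of_surjective k (pm g)
  refine nonempty_iso_of_ker f (pm g) fun T x => ?_
  rw [hx]
  constructor
  · intro h
    apply gaFn_injective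
    rw [gaFn_pm, gaFn_one]
    exact h
  · intro h
    rw [← gaFn_pm, h]
    exact gaFn_one

end

end K405.IsogGa
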