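import Groth.Prelude.Def_W4bk4git07Quot
import Mathlib.AlgebraicGeometry.Morphisms.FlatDescent
import Mathlib.CategoryTheory.Limits.Shapes.Pullback.IsPullback.Basic

/-!
# Cartesian squares and torsors

* `isPullback_right_of_descends`: in a diagram of two squares side by side, if the left square and the
  outer rectangle are cartesian and isomorphisms descend along the bottom left arrow, the right square is
  cartesian.
* `isPullback_of_equivariant`: an equivariant morphism of fpqc torsors (given by the morphism
  `GIT.PsiY` being an isomorphism) is a cartesian square.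
-/

set_option autoImplicit false
universe v u
open CategoryTheory MonoidalCategory CartesianMonoidalCategory MonObj AlgebraicGeometry Limits

namespace K405.Torsor

theorem isPullback_right_of_descends {C : Type u} [Category.{v} C] [HasPullbacks C]
    (Q : MorphismProperty C) [Q.IsStableUnderBaseChange]
    [(MorphismProperty.isomorphisms C).DescendsAlong Q]
    {X₁ X₂ X₃ Y₁ Y₂ Y₃ : C} {a : X₁ ⟶ X₂} {b : X₂ ⟶ X₃} {p : X₁ ⟶ Y₁} {q : X₂ ⟶ Y₂} {r : X₃ ⟶ Y₃}
    {c : Y₁ ⟶ Y₂} {d : Y₂ ⟶ Y₃} (h1 : IsPullback a p q c) (h2 : IsPullback (a ≫ b) p r (c ≫ d))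
    (w : b ≫ r = q ≫ d) (hc : Q c) : IsPullback b q r d := by
  -- the comparison map
  let γ : X₂ ⟶ pullback r d := pullback.lift b q w
  let z : pullback r (c ≫ d) ⟶ pullback r d :=
    pullback.lift (pullback.fst _ _) (pullback.snd _ _ ≫ c) (by rw [pullback.condition, Category.assoc])
  have hz : IsPullback z (pullback.snd r (c ≫ d)) (pullback.snd r d) c := by
    refine IsPullback.of_right (h₁₂ := pullback.fst r d) (h₂₂ := d) (v₁₃ := r) ?_
      (pullback.lift_snd _ _ _) (IsPullback.of_hasPullback r d)
    have : z ≫ pullback.fst r d = pullback.fst r (c ≫ d) := pullback.lift_fst _ _ _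
    rw [this]
    exact IsPullback.of_hasPullback r (c ≫ d)
  let i : X₁ ⟶ pullback r (c ≫ d) := pullback.lift (a ≫ b) p h2.w
  have hi : IsIso i := by
    have : i = h2.isoPullback.hom := by
      apply pullback.hom_ext
      · rw [h2.isoPullback_hom_fst]; exact pullback.lift_fst _ _ _
      · rw [h2.isoPullback_hom_snd]; exact pullback.lift_snd _ _ _
    rw [this]; infer_instance
  have htop : IsPullback a i γ z := by
    refine IsPullback.of_bot (v₂₁ := pullback.snd r (c ≫ d)) (v₂₂ := pullback.snd r d) (h₃₁ := c) ?_ ?_ hz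
    · have e1 : i ≫ pullback.snd r (c ≫ d) = p := pullback.lift_snd _ _ _
      have e2 : γ ≫ pullback.snd r d = q := pullback.lift_snd _ _ _
      rw [e1, e2]
      exact h1
    · have e1 : i ≫ pullback.snd r (c ≫ d) = p := pullback.lift_snd _ _ _
      have e2 : γ ≫ pullback.snd r d = q := pullback.lift_snd _ _ _
      have e3 : z ≫ pullback.fst r d = pullback.fst r (c ≫ d) := pullback.lift_fst _ _ _
      have e4 : z ≫ pullback.snd r d = pullback.snd r (c ≫ d) ≫ c := pullback.lift_snd _ _ _
      have e5 : γ ≫ pullback.fst r d = b := pullback.lift_fst _ _ _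
      have e6 : i ≫ pullback.fst r (c ≫ d) = a ≫ b := pullback.lift_fst _ _ _
      apply pullback.hom_ext
      · rw [Category.assoc, Category.assoc, e3, e5, e6]
      · rw [Category.assoc, Category.assoc, e4, e2, reassoc_of% e1, h1.w]
  have hγ : IsIso γ :=
    MorphismProperty.of_isPullback_of_descendsAlong (P := MorphismProperty.isomorphisms C) (Q := Q)
      htop.flip (MorphismProperty.of_isPullback hz.flip hc) hi
  have e : IsPullback (γ ≫ pullback.fst r d) (γ ≫ pullback.snd r d) r d := by
    refine IsPullback.of_iso_pullback ⟨?_⟩ (asIso γ) rfl rfl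
    rw [Category.assoc, Category.assoc, pullback.condition]
  have e1 : γ ≫ pullback.fst r d = b := pullback.lift_fst _ _ _
  have e2 : γ ≫ pullback.snd r d = q := pullback.lift_snd _ _ _
  rwa [e1, e2] at e

section

variable {S : Scheme.{u}} {H : Over S} [GrpObj H]

/-- A product square: `(h, y) ↦ (h, f y)` over `y ↦ f y`. -/
theorem isPullback_whiskerLeft (H : Over S) {Y G : Over S} (f : Y ⟶ G) :
    IsPullback (H ◁ f).left (snd H Y).left (snd H G).left f.left := by
  have h : IsPullback (H ◁ f) (snd H Y) (snd H G) f := by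
    refine ⟨⟨by simp⟩, ⟨PullbackCone.IsLimit.mk _ (fun s => lift (s.fst ≫ fst H G) s.snd) ?_ ?_ ?_⟩⟩
    · intro s
      ext1
      · simp
      · simp [s.condition]
    · intro s; simp
    · intro s m h1 h2
      ext1
      · rw [← h1]; simp
      · rw [← h2]; simp
  exact h.map (Over.forget S)

/-- If `PsiY a φ` is an isomorphism then the square of action and projection is cartesian. -/
theorem isPullback_of_isIso_PsiY {X Y : Over S} (a : AlgGrp.Action H X) (φ : X ⟶ Y)
    (h : GIT.IsInvariant a φ) [IsIso (GIT.PsiY a φ h)] :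
    IsPullback a.act.left (snd H X).left φ.left φ.left := by
  have e : IsPullback (GIT.PsiY a φ h ≫ pullback.fst _ _) (GIT.PsiY a φ h ≫ pullback.snd _ _)
      φ.left φ.left := by
    refine IsPullback.of_iso_pullback ⟨?_⟩ (asIso (GIT.PsiY a φ h)) rfl rfl
    rw [Category.assoc, Category.assoc, pullback.condition]
  have e1 : GIT.PsiY a φ h ≫ pullback.fst _ _ = a.act.left := pullback.lift_fst _ _ _
  have e2 : GIT.PsiY a φ h ≫ pullback.snd _ _ = (snd H X).left := pullback.lift_snd _ _ _
  rwa [e1, e2] at e

/-- An equivariant morphism between fpqc torsors is cartesian. -/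
theorem isPullback_of_equivariant {Y G Q B : Over S} (b : AlgGrp.Action H Y) (r : AlgGrp.Action H G)
    (q : Y ⟶ Q) (π : G ⟶ B) (hq : GIT.IsInvariant b q) (hπ : GIT.IsInvariant r π)
    [IsIso (GIT.PsiY b q hq)] [IsIso (GIT.PsiY r π hπ)]
    [Flat q.left] [Surjective q.left] [QuasiCompact q.left]
    (f : Y ⟶ G) (g : Q ⟶ B) (hf : b.act ≫ f = (H ◁ f) ≫ r.act) (w : q ≫ g = f ≫ π) :
    IsPullback f.left q.left π.left g.left := by
  have w' : f.left ≫ π.left = q.left ≫ g.left := by
    rw [← Over.comp_left, ← Over.comp_left, w]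
  have h1 := isPullback_of_isIso_PsiY b q hq
  have h2 := isPullback_of_isIso_PsiY r π hπ
  have h3 := isPullback_whiskerLeft H f
  have h4 := h3.paste_horiz h2
  refine isPullback_right_of_descends (@Surjective ⊓ @Flat ⊓ @QuasiCompact) h1 ?_ w'
    ⟨⟨inferInstance, inferInstance⟩, inferInstance⟩
  have e1 : b.act.left ≫ f.left = (H ◁ f).left ≫ r.act.left := by
    rw [← Over.comp_left, ← Over.comp_left, hf]
  rw [e1, ← w']
  exact h4

end

end K405.Torsor
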